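/-
Tensor powers of a unitary space: the form, the slot coordinates, and groups containing the isometries of the
tensor wreath group.
-/
import Cfsg.Agent.Lib.Classical22.TensorWreathMax.Statement
import Cfsg.Agent.Lib.Classical22.UnitTensor.Base
import Cfsg.Agent.Lib.Transvec.UnitaryGen

set_option autoImplicit false
set_option linter.unusedSectionVars false
set_option linter.unusedSimpArgs false

namespace CfsgLib.Classical22.UWr

open Matrix Kronecker CfsgLib.Transvec CfsgLib.Transvec.Unitary CfsgLib.Classical22.TensorMax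
open CfsgLib.Classical22.TWMax
open CfsgLib.Classical22.TensorMax.SpO (kr kr_apply isKron_kr)
open CfsgLib.Classical22.TensorMax.UnitT (Tens det_kr)
open scoped MatrixGroups

variable {F : Type*} [Field F] {t k : ℕ}

/-! ### Multilinearity -/

lemma pv_update_eq (xs : Fin t → Fin k → F) (i : Fin t) (v : Fin k → F) (a : Idx t k) :
    pv (Function.update xs i v) a = v (a i) * ∏ j ∈ Finset.univ.erase i, xs j (a j) := by
  rw [pv, ← Finset.mul_prod_erase _ _ (Finset.mem_univ i), Function.update_self]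
  congr 1
  exact Finset.prod_congr rfl fun j hj => by rw [Function.update_of_ne (Finset.ne_of_mem_erase hj)]

/-- Inserting a vector in slot `i` is linear. -/
def pvL (xs : Fin t → Fin k → F) (i : Fin t) : (Fin k → F) →ₗ[F] (Idx t k → F) where
  toFun v := pv (Function.update xs i v)
  map_add' v w := funext fun a => by rw [Pi.add_apply, pv_update_eq, pv_update_eq, pv_update_eq, Pi.add_apply, add_mul]
  map_smul' c v := funext fun a => by
    rw [RingHom.id_apply, Pi.smul_apply, pv_update_eq, pv_update_eq, Pi.smul_apply, smul_eq_mul, smul_eq_mul, mul_assoc]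

lemma pvL_apply (xs : Fin t → Fin k → F) (i : Fin t) (v : Fin k → F) : pvL xs i v = pv (Function.update xs i v) := rfl

lemma pv_smul (cs : Fin t → F) (xs : Fin t → Fin k → F) : pv (fun i => cs i • xs i) = (∏ i, cs i) • pv xs :=
  funext fun a => by simp [pv, Finset.prod_mul_distrib]

/-- A subspace containing the pure vectors with factors in given sets contains those with factors in their spans. -/
theorem pv_mem_of_sets {W : Submodule F (Idx t k → F)} {S : Fin t → Set (Fin k → F)}
    (h : ∀ xs, (∀ l, xs l ∈ S l) → pv xs ∈ W) {xs : Fin t → Fin k → F}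
    (hxs : ∀ l, xs l ∈ Submodule.span F (S l)) : pv xs ∈ W := by
  classical
  have key : ∀ P : Finset (Fin t), ∀ ys : Fin t → Fin k → F, (∀ l ∈ P, ys l ∈ Submodule.span F (S l)) →
      (∀ l ∉ P, ys l ∈ S l) → pv ys ∈ W := by
    intro P
    induction P using Finset.induction_on with
    | empty => exact fun ys _ h2 => h ys fun l => h2 l (Finset.notMem_empty l)
    | insert j P hj ih =>
      intro ys h1 h2
      have hle : Submodule.span F (S j) ≤ W.comap (pvL ys j) := Submodule.span_le.2 fun v hv =>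
        ih _ (fun l hl => by
          rw [Function.update_of_ne (ne_of_mem_of_not_mem hl hj)]; exact h1 l (Finset.mem_insert_of_mem hl))
          fun l hl => by
            by_cases hlj : l = j
            · subst hlj; rwa [Function.update_self]
            · rw [Function.update_of_ne hlj]; exact h2 l (by simp [hlj, hl])
      have := hle (h1 j (Finset.mem_insert_self _ _))
      rwa [Submodule.mem_comap, pvL_apply, Function.update_eq_self] at this
  exact key Finset.univ xs (fun l _ => hxs l) fun l hl => absurd (Finset.mem_univ l) hl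

lemma eq_top_of_pv {W : Submodule F (Idx t k → F)} (h : ∀ xs, pv xs ∈ W) : W = ⊤ :=
  eq_top_iff.2 fun v _ => by
    rw [pi_eq_sum_univ' v]
    exact W.sum_mem fun a _ => W.smul_mem _ (single_eq_pv (F := F) a ▸ h _)

lemma lin_ext_pv {V : Type*} [AddCommGroup V] [Module F V] {L L' : (Idx t k → F) →ₗ[F] V}
    (h : ∀ xs, L (pv xs) = L' (pv xs)) : L = L' :=
  LinearMap.ext fun v => by
    have hmem : v ∈ LinearMap.eqLocus L L' := by
      rw [show LinearMap.eqLocus L L' = ⊤ from eq_top_of_pv h]; trivial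
    exact hmem

lemma pv_dot (ys xs : Fin t → Fin k → F) : pv ys ⬝ᵥ pv xs = ∏ i, ys i ⬝ᵥ xs i := by
  simp only [dotProduct, pv, ← Finset.prod_mul_distrib]
  exact (Fintype.prod_sum fun i j => ys i j * xs i j).symm

/-! ### Slot matrices -/

lemma emb_eq_tmat (i : Fin t) (W : Matrix (Fin k) (Fin k) F) :
    emb i W = tmat (Function.update (fun _ => (1 : Matrix (Fin k) (Fin k) F)) i W) :=
  mat_ext_pv fun xs => by
    rw [emb_mulVec_pv, tmat_mulVec]
    congr 1
    funext j
    by_cases hj : j = i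
    · subst hj; simp
    · simp [hj]

lemma emb_mul_tmat (i : Fin t) (W : Matrix (Fin k) (Fin k) F) (Ys : Fin t → Matrix (Fin k) (Fin k) F) :
    emb i W * tmat Ys = tmat (Function.update Ys i (W * Ys i)) := by
  rw [emb_eq_tmat, tmat_mul]
  congr 1
  funext j
  by_cases hj : j = i
  · subst hj; simp
  · simp [hj]

lemma tmat_mul_emb (i : Fin t) (W : Matrix (Fin k) (Fin k) F) (Ys : Fin t → Matrix (Fin k) (Fin k) F) :
    tmat Ys * emb i W = tmat (Function.update Ys i (Ys i * W)) := by
  rw [emb_eq_tmat, tmat_mul]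
  congr 1
  funext j
  by_cases hj : j = i
  · subst hj; simp
  · simp [hj]

lemma tmat_eq_zero {Ys : Fin t → Matrix (Fin k) (Fin k) F} {i : Fin t} (h : Ys i = 0) : tmat Ys = 0 := by
  ext x y
  simp only [tmat, Matrix.zero_apply]
  exact Finset.prod_eq_zero (Finset.mem_univ i) (by rw [h]; rfl)

lemma tmat_smul (cs : Fin t → F) (Ys : Fin t → Matrix (Fin k) (Fin k) F) :
    tmat (fun i => cs i • Ys i) = (∏ i, cs i) • tmat Ys := by
  ext x y
  simp [tmat, Finset.prod_mul_distrib]

lemma tmat_update_smul (Ys : Fin t → Matrix (Fin k) (Fin k) F) (i : Fin t) (c : F) (W : Matrix (Fin k) (Fin k) F) :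
    tmat (Function.update Ys i (c • W)) = c • tmat (Function.update Ys i W) := by
  have e : Function.update Ys i (c • W) = fun j => (if j = i then c else 1) • Function.update Ys i W j := by
    funext j
    by_cases hj : j = i
    · subst hj; simp
    · simp [hj]
  rw [e, tmat_smul, Finset.prod_ite_eq' Finset.univ i (fun _ => c), if_pos (Finset.mem_univ i)]

lemma tmat_vecMulVec (xs ys : Fin t → Fin k → F) :
    tmat (fun i => vecMulVec (xs i) (ys i)) = vecMulVec (pv xs) (pv ys) := by
  ext a b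
  simp [tmat, vecMulVec_apply, pv, Finset.prod_mul_distrib]

/-- The matrix of `x ↦ f(x, d) d`. -/
def nd (f : (Fin k → F) → (Fin k → F) → F) (d : Fin k → F) : Matrix (Fin k) (Fin k) F := vecMulVec d (uvec f d)

/-! ### The form -/

/-- The Gram matrix of the tensor power. -/
def tgram (f₁ : (Fin k → F) → (Fin k → F) → F) (t : ℕ) : Matrix (Idx t k) (Idx t k) F :=
  tmat fun _ => Cfsg.Geo.gramMatrix f₁

/-- The tensor power of the form. -/
def tform (σ : F ≃+* F) (f₁ : (Fin k → F) → (Fin k → F) → F) (t : ℕ) (v w : Idx t k → F) : F :=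
  Cfsg.Geo.formOfGram σ (tgram f₁ t) v w

/-- The tensor power in flat coordinates. -/
def pform (σ : F ≃+* F) (f₁ : (Fin k → F) → (Fin k → F) → F) (t : ℕ) (v w : Fin (k ^ t) → F) : F :=
  tform σ f₁ t (v ∘ flatE t k) (w ∘ flatE t k)

/-- The tensor power in the coordinates of slot `s`. -/
def sform (σ : F ≃+* F) (f₁ : (Fin k → F) → (Fin k → F) → F) (s : Fin (t + 1))
    (v w : Fin (k ^ t) × Fin k → F) : F :=
  tform σ f₁ (t + 1) (v ∘ slotE s) (w ∘ slotE s)

lemma formOfGram_comp {ι κ : Type} [Fintype ι] [Fintype κ] (τ : F → F) (e : ι ≃ κ) (G : Matrix ι ι F)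
    (v w : κ → F) :
    Cfsg.Geo.formOfGram τ G (v ∘ e) (w ∘ e) = Cfsg.Geo.formOfGram τ (G.submatrix e.symm e.symm) v w := by
  simp only [Cfsg.Geo.formOfGram, Function.comp_apply, Matrix.submatrix_apply]
  rw [← e.symm.sum_comp]
  refine Finset.sum_congr rfl fun a _ => ?_
  rw [← e.symm.sum_comp]
  simp

/-- Unitary forms move along reindexings. -/
lemma uni_comp {ι κ : Type} {σ : F ≃+* F} {f : (ι → F) → (ι → F) → F} (hf : Cfsg.Geo.IsUnitaryForm σ f)
    (e : ι ≃ κ) : Cfsg.Geo.IsUnitaryForm σ fun v w : κ → F => f (v ∘ e) (w ∘ e) where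
  ne_refl := hf.ne_refl
  involutive := hf.involutive
  add_left x y v := hf.add_left _ _ _
  smul_left c x v := hf.smul_left _ _ _
  herm v w := hf.herm _ _
  nondegenerate v hv := by
    have hv' : v ∘ e ≠ 0 := fun h => hv (funext fun j => by simpa using congrFun h (e.symm j))
    obtain ⟨⟨x, hx⟩, ⟨y, hy⟩⟩ := hf.nondegenerate _ hv'
    exact ⟨⟨x ∘ e.symm, by simpa [Function.comp_assoc] using hx⟩, ⟨y ∘ e.symm, by simpa [Function.comp_assoc] using hy⟩⟩

variable {σ : F ≃+* F} {f₁ : (Fin k → F) → (Fin k → F) → F}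

lemma tform_add_left (x y v : Idx t k → F) : tform σ f₁ t (x + y) v = tform σ f₁ t x v + tform σ f₁ t y v := by
  simp only [tform, Cfsg.Geo.formOfGram, Pi.add_apply, add_mul, Finset.sum_add_distrib]

lemma tform_smul_left (c : F) (x v : Idx t k → F) : tform σ f₁ t (c • x) v = c * tform σ f₁ t x v := by
  simp only [tform, Cfsg.Geo.formOfGram, Pi.smul_apply, smul_eq_mul, Finset.mul_sum, mul_assoc]

section

variable (h1 : Cfsg.Geo.IsUnitaryForm σ f₁)
include h1

lemma form_gram (x y : Fin k → F) : f₁ x y = Cfsg.Geo.formOfGram σ (Cfsg.Geo.gramMatrix f₁) x y :=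
  TensorRefine.form_eq h1.add_left h1.smul_left (Unitary.add_right' h1) (fun c v x => smul_right' h1 c v x) x y

theorem tform_pv (xs ys : Fin t → Fin k → F) : tform σ f₁ t (pv xs) (pv ys) = ∏ i, f₁ (xs i) (ys i) := by
  simp only [form_gram h1, tform, Cfsg.Geo.formOfGram, tgram, tmat, pv, map_prod, ← Finset.prod_mul_distrib]
  rw [Fintype.prod_sum]
  refine Finset.sum_congr rfl fun a _ => ?_
  rw [Fintype.prod_sum]

lemma isUnit_gram_det [Finite F] : IsUnit (Cfsg.Geo.gramMatrix f₁).det := by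
  rw [isUnit_iff_ne_zero]
  intro h0
  obtain ⟨v, hv0, hv⟩ := Matrix.exists_mulVec_eq_zero_iff.mpr h0
  obtain ⟨x, hx⟩ := (h1.nondegenerate (fun j => σ (v j)) fun h => hv0 (funext fun j => by
    simpa [map_eq_zero_iff _ σ.injective] using congrFun h j)).1
  refine hx ?_
  rw [form_gram h1, Cfsg.Geo.formOfGram]
  refine Finset.sum_eq_zero fun a _ => ?_
  have := congrFun hv a
  simp only [mulVec, dotProduct, Pi.zero_apply] at this
  simp only [h1.involutive, mul_assoc, ← Finset.mul_sum, this, mul_zero]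

theorem uni_tform [Finite F] : Cfsg.Geo.IsUnitaryForm σ (tform σ f₁ t) := by
  have hG : ∀ a b : Idx t k, σ (tgram f₁ t a b) = tgram f₁ t b a := fun a b => by
    simp only [tgram, tmat, map_prod, Cfsg.Geo.gramMatrix, ← h1.herm]
  have hherm : ∀ v w : Idx t k → F, tform σ f₁ t v w = σ (tform σ f₁ t w v) := fun v w => by
    simp only [tform, Cfsg.Geo.formOfGram, map_sum, map_mul, h1.involutive, hG]
    rw [Finset.sum_comm]
    exact Finset.sum_congr rfl fun a _ => Finset.sum_congr rfl fun b _ => by ring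
  refine ⟨h1.ne_refl, h1.involutive, tform_add_left, tform_smul_left, hherm, fun v hv => ?_⟩
  suffices h : ∃ x, tform σ f₁ t x v ≠ 0 by
    obtain ⟨x, hx⟩ := h
    exact ⟨⟨x, hx⟩, ⟨x, fun h0 => hx (by rw [hherm, h0, map_zero])⟩⟩
  by_contra hno
  push Not at hno
  refine hv (funext fun j => ?_)
  have hz : tgram f₁ t *ᵥ (fun b => σ (v b)) = 0 := funext fun a => by
    have := hno (Pi.single a 1)
    rw [tform, Cfsg.Geo.formOfGram] at this
    simp only [Pi.single_apply, ite_mul, one_mul, zero_mul, Finset.sum_ite_irrel, Finset.sum_const_zero,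
      Finset.sum_ite_eq', Finset.mem_univ, if_true] at this
    simpa [mulVec, dotProduct] using this
  have hinv : tmat (fun _ : Fin t => (Cfsg.Geo.gramMatrix f₁)⁻¹) * tgram f₁ t = 1 := by
    rw [tgram, tmat_mul, Matrix.nonsing_inv_mul _ (isUnit_gram_det h1), tmat_one]
  have := congrFun (congrArg (tmat (fun _ : Fin t => (Cfsg.Geo.gramMatrix f₁)⁻¹) *ᵥ ·) hz) j
  simp only [mulVec_mulVec, hinv, one_mulVec, mulVec_zero, Pi.zero_apply, map_eq_zero_iff _ σ.injective] at this
  exact this

lemma uvec_pv [Finite F] (xs : Fin t → Fin k → F) : uvec (tform σ f₁ t) (pv xs) = pv fun i => uvec f₁ (xs i) :=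
  funext fun a => by
    rw [uvec, single_eq_pv, tform_pv h1]
    simp [pv, uvec]

theorem uni_pform [Finite F] : Cfsg.Geo.IsUnitaryForm σ (pform σ f₁ t) := uni_comp (uni_tform h1) (flatE t k)

/-- The form of a tensor power is a tensor product at every slot. -/
theorem tens [Finite F] (s : Fin (t + 1)) : Tens σ (sform σ f₁ s) (pform σ f₁ t) f₁ where
  uni := uni_comp (uni_tform h1) (slotE s)
  left := uni_pform h1
  right := h1
  pure x u y w := by
    have e : (tgram f₁ (t + 1)).submatrix (slotE s).symm (slotE s).symm =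
        (tgram f₁ t).submatrix (flatE t k).symm (flatE t k).symm ⊗ₖ Cfsg.Geo.gramMatrix f₁ := by
      ext p p'
      obtain ⟨a, rfl⟩ := (slotE s).surjective p
      obtain ⟨b, rfl⟩ := (slotE s).surjective p'
      simp only [Matrix.submatrix_apply, Equiv.symm_apply_apply, kroneckerMap_apply, slotE_apply]
      rw [← slotE_apply, ← slotE_apply, Equiv.symm_apply_apply, Equiv.symm_apply_apply]
      simp only [tgram, tmat]
      rw [Fin.prod_univ_succAbove _ s, mul_comm]
    rw [sform, pform, tform, tform, formOfGram_comp, formOfGram_comp, e, form_gram h1]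
    exact TensorRefine.formOfGram_kronecker (fun z => σ z) (map_mul σ) _ _ _ _ _ _

/-- Isometries are recognised on pure vectors. -/
theorem iso_of_pv [Finite F] {g : GL (Idx t k) F}
    (h : ∀ xs ys, tform σ f₁ t (g.val *ᵥ pv xs) (g.val *ᵥ pv ys) = tform σ f₁ t (pv xs) (pv ys)) :
    Iso (tform σ f₁ t) g := by
  have hu := uni_tform h1 (t := t)
  have hleft : ∀ ys v, tform σ f₁ t (g.val *ᵥ v) (g.val *ᵥ pv ys) = tform σ f₁ t v (pv ys) := fun ys v =>
    LinearMap.congr_fun (lin_ext_pv (L := (linL hu (g.val *ᵥ pv ys)).comp (Matrix.mulVecLin g.val))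
      (L' := linL hu (pv ys)) fun xs => h xs ys) v
  intro v w
  have hw : tform σ f₁ t (g.val *ᵥ w) (g.val *ᵥ v) = tform σ f₁ t w v :=
    LinearMap.congr_fun (lin_ext_pv (L := (linL hu (g.val *ᵥ v)).comp (Matrix.mulVecLin g.val)) (L' := linL hu v)
      fun xs => by
        change tform σ f₁ t (g.val *ᵥ pv xs) (g.val *ᵥ v) = tform σ f₁ t (pv xs) v
        rw [hu.herm, hleft, ← hu.herm]) w
  rw [hu.herm, hw, ← hu.herm]

theorem TWData_iso [Finite F] {g : GL (Idx t k) F} {π : Equiv.Perm (Fin t)} {gs : Fin t → GL (Fin k) F}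
    (hg : TWData g π gs) (hi : ∀ i, Iso f₁ (gs i)) : Iso (tform σ f₁ t) g := iso_of_pv h1 fun xs ys => by
  rw [hg, hg, tform_pv h1, tform_pv h1]
  simp only [hi _ _ _]
  exact Equiv.prod_comp π fun i => f₁ (xs i) (ys i)

lemma nd_mulVec (d x : Fin k → F) : nd f₁ d *ᵥ x = f₁ x d • d := by
  rw [nd, vecMulVec_mulVec, op_smul_eq_smul, uvec_dot h1]

lemma nd_mul_nd (d e : Fin k → F) : nd f₁ d * nd f₁ e = f₁ e d • vecMulVec d (uvec f₁ e) := by
  rw [nd, nd, vecMulVec_mul_vecMulVec, uvec_dot h1, vecMulVec_smul]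

lemma nd_sq {d : Fin k → F} (hd : f₁ d d = 0) : nd f₁ d * nd f₁ d = 0 := by rw [nd_mul_nd h1, hd, zero_smul]

lemma nd_smul (c : F) (d : Fin k → F) : nd f₁ (c • d) = (c * σ c) • nd f₁ d := by
  rw [nd, nd, uvec_smul h1, smul_vecMulVec, vecMulVec_smul, smul_smul]

lemma nd_conj {B : GL (Fin k) F} (hB : Iso f₁ B) (d : Fin k → F) :
    B.val * nd f₁ d * B⁻¹.val = nd f₁ (B.val *ᵥ d) := by
  rw [nd, nd, mul_vecMulVec, vecMulVec_mul, uvec_vecMul_inv h1 hB]

end

lemma uT_val {ι : Type} [Fintype ι] [DecidableEq ι] {f : (ι → F) → (ι → F) → F}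
    (hf : Cfsg.Geo.IsUnitaryForm σ f) {v : ι → F} (hv : f v v = 0) (c : F) :
    (uT f v c).val = 1 + c • vecMulVec v (uvec f v) := by
  rw [uT, transv_val (uT_dot hf hv c), vecMulVec_smul]

/-- The standing hypotheses on the factor. -/
structure UData [Finite F] (σ : F ≃+* F) (f₁ : (Fin k → F) → (Fin k → F) → F) : Prop where
  uni : Cfsg.Geo.IsUnitaryForm σ f₁
  three : 3 ≤ k
  big : 4 ≤ k ∨ ∃ r : F, σ r = r ∧ r ≠ 0 ∧ r ≠ 1

/-- A group of isometries containing the isometries of determinant one in the tensor wreath group. -/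
structure UCtx [Finite F] (σ : F ≃+* F) (f₁ : (Fin k → F) → (Fin k → F) → F)
    (M : Subgroup (GL (Idx (t + 1) k) F)) : Prop where
  data : UData σ f₁
  iso : ∀ g ∈ M, Iso (tform σ f₁ (t + 1)) g
  le : ∀ g, IsTW g → Iso (tform σ f₁ (t + 1)) g → g.val.det = 1 → g ∈ M

/-- Some isotropic vector lacks a transvection. -/
def NotFull [Finite F] (σ : F ≃+* F) (f₁ : (Fin k → F) → (Fin k → F) → F)
    (M : Subgroup (GL (Idx (t + 1) k) F)) : Prop :=
  ¬ ∀ v, tform σ f₁ (t + 1) v v = 0 → UFull σ (tform σ f₁ (t + 1)) M v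

lemma det_slotG (s : Fin (t + 1)) (g : GL (Idx (t + 1) k) F) : (slotG s g).val.det = g.val.det := by
  rw [show (slotG s g).val = Matrix.reindexAlgEquiv F F (slotE s) g.val from rfl,
    Matrix.reindexAlgEquiv_apply, Matrix.det_reindex_self]

lemma det_slotEl (s : Fin (t + 1)) (B : GL (Fin k) F) : (slotEl s B).val.det = B.val.det ^ k ^ t := by
  rw [← det_slotG s, slotG_slotEl, det_kr, Units.val_one, det_one, one_pow, one_mul]

lemma slotEl_comm {s r : Fin (t + 1)} (h : s ≠ r) (B B' : GL (Fin k) F) :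
    slotEl s B * slotEl r B' = slotEl r B' * slotEl s B :=
  Units.ext (by rw [Units.val_mul, Units.val_mul, slotEl_val, slotEl_val, emb_comm h])

namespace UCtx

variable [Finite F] {M : Subgroup (GL (Idx (t + 1) k) F)} (C : UCtx σ f₁ M)
include C

theorem uni : Cfsg.Geo.IsUnitaryForm σ (tform σ f₁ (t + 1)) := uni_tform C.data.uni

theorem slotEl_mem (s : Fin (t + 1)) {B : GL (Fin k) F} (hB : Iso f₁ B) (hd : B.val.det = 1) :
    slotEl s B ∈ M :=
  C.le _ ⟨_, _, slotEl_data s B⟩ (TWData_iso C.data.uni (slotEl_data s B) fun i => by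
    by_cases hi : i = s
    · subst hi; simpa using hB
    · rw [Function.update_of_ne hi]; exact fun x y => by simp)
    (by rw [det_slotEl, hd, one_pow])

theorem slotT_mem (s : Fin (t + 1)) {B : GL (Fin k) F} (hB : B ∈ transvGroup σ f₁) : slotEl s B ∈ M :=
  C.slotEl_mem s (transvGroup_le C.data.uni hB).1 (transvGroup_le C.data.uni hB).2

theorem exists_slot_move (s : Fin (t + 1)) {u u' : Fin k → F} (hu0 : u ≠ 0) (hu0' : u' ≠ 0)
    (hu : f₁ u u = 0) (hu' : f₁ u' u' = 0) :
    ∃ B : GL (Fin k) F, slotEl s B ∈ M ∧ Iso f₁ B ∧ ∃ c : F, c ≠ 0 ∧ B.val *ᵥ u = c • u' := by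
  obtain ⟨B, hB, c, hc, hBu⟩ := UnitT.exists_move_iso C.data.uni
    (by rw [Fintype.card_fin]; have := C.data.three; omega) hu0 hu0' hu hu'
  exact ⟨B, C.slotT_mem s hB, (transvGroup_le C.data.uni hB).1, c, hc, hBu⟩

/-- A transposition of slots, when a third slot exists, with scalar slot factors. -/
theorem exists_swap {i j : Fin (t + 1)} (hij : i ≠ j) (h3 : ∃ r, r ≠ i ∧ r ≠ j) :
    ∃ g ∈ M, ∃ gs : Fin (t + 1) → GL (Fin k) F, TWData g (Equiv.swap i j) gs ∧
      (∀ l, Iso f₁ (gs l)) ∧ ∀ l X, (gs l).val * X * (gs l)⁻¹.val = X := by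
  classical
  obtain ⟨r, hri, hrj⟩ := h3
  obtain ⟨ε, hε, hεd⟩ : ∃ ε : GL (Fin k) F, (ε = 1 ∨ ε = -1) ∧
      ε.val.det ^ k ^ t * (Equiv.Perm.sign (slotPerm k (Equiv.swap i j)) : ℤ) = (1 : F) := by
    rcases Int.units_eq_one_or (Equiv.Perm.sign (slotPerm k (Equiv.swap i j))) with h | h
    · exact ⟨1, Or.inl rfl, by simp [h]⟩
    rcases Nat.even_or_odd k with he | ho
    · rw [sign_slotPerm he (Equiv.swap_apply_of_ne_of_ne hri hrj)] at h
      exact absurd h (by decide)
    · refine ⟨-1, Or.inr rfl, ?_⟩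
      rw [h, Units.val_neg, Units.val_one, det_neg, det_one, mul_one, Fintype.card_fin, ho.neg_one_pow,
        (ho.pow).neg_one_pow]
      simp
  have hd : TWData (permGL (F := F) (m := k) (Equiv.swap i j)) (Equiv.swap i j) fun _ => 1 := fun xs => by
    rw [permGL_apply]; simp
  have hdata := (slotEl_data (0 : Fin (t + 1)) ε).mul hd
  rw [mul_one] at hdata
  obtain ⟨gs, hgs, hdata'⟩ : ∃ gs : Fin (t + 1) → GL (Fin k) F, (∀ l, gs l = 1 ∨ gs l = -1) ∧
      TWData (slotEl (0 : Fin (t + 1)) ε * permGL (Equiv.swap i j)) (Equiv.swap i j) gs := by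
    refine ⟨_, fun l => ?_, hdata⟩
    simp only [mul_one]
    by_cases hl : l = 0
    · subst hl; simpa using hε
    · exact Or.inl (Function.update_of_ne hl _ _)
  have hi : ∀ l, Iso f₁ (gs l) := fun l => by
    rcases hgs l with h | h <;> intro x y <;> rw [h]
    · simp
    · rw [Units.val_neg, Units.val_one, neg_mulVec, one_mulVec, neg_mulVec, one_mulVec, neg_left' C.data.uni,
        C.data.uni.herm x (-y), neg_left' C.data.uni, map_neg, ← C.data.uni.herm, neg_neg]
  refine ⟨_, C.le _ ⟨_, _, hdata'⟩ (TWData_iso C.data.uni hdata' hi) ?_, gs, hdata', hi, fun l X => ?_⟩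
  · rw [Units.val_mul, det_mul, det_slotEl, show (permGL (F := F) (m := k) (Equiv.swap i j)).val =
      permMat (Equiv.swap i j) from rfl, permMat_det, hεd]
  · rcases hgs l with h | h <;> rw [h] <;> simp

end UCtx

end CfsgLib.Classical22.UWr
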