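/-
One pure isotropic centre with all its transvections gives all transvections.
-/
import Cfsg.Agent.Lib.Classical22.UnitWreath.Base
import Cfsg.Agent.Lib.Classical22.UnitTensor.Scalar

set_option autoImplicit false
set_option linter.unusedSectionVars false
set_option linter.unusedSimpArgs false
set_option maxHeartbeats 1000000

namespace CfsgLib.Classical22.UWr

open Matrix Kronecker CfsgLib.Transvec CfsgLib.Transvec.Unitary CfsgLib.Classical22.TensorMax
open CfsgLib.Classical22.TWMax
open CfsgLib.Classical22.TensorMax.UnitT (InE eSub mem_eSub inE_of_pair ufull_of_inE exists_iso_ne span_iso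
  exists_iso_shift exists_aniso_pair exists_eich_scalar exists_partner)
open scoped MatrixGroups

section RootAt

variable {ι : Type} [Fintype ι] [DecidableEq ι] {F : Type*} [Field F] {σ : F ≃+* F}
  {f : (ι → F) → (ι → F) → F}

/-- A root element at `p` along `w` lies in `M`. -/
def RootAt (f : (ι → F) → (ι → F) → F) (M : Subgroup (GL ι F)) (p w : ι → F) : Prop :=
  ∃ g ∈ M, ∃ ν : F, ∀ v, g.val *ᵥ v = v + f v p • w - f v w • p + (ν * f v p) • p

variable (hf : Cfsg.Geo.IsUnitaryForm σ f) {M : Subgroup (GL ι F)} {p : ι → F}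
include hf

lemma rootAt_smul_self (c : F) : RootAt f M p (c • p) :=
  ⟨1, one_mem M, σ c - c, fun v => by rw [Units.val_one, one_mulVec, smul_right' hf]; module⟩

lemma rootAt_add (hp : f p p = 0) {a b : ι → F} (ha : f a p = 0) (hb : f b p = 0) (h : RootAt f M p a)
    (h' : RootAt f M p b) : RootAt f M p (a + b) := by
  obtain ⟨g₁, hg₁, ν₁, h₁⟩ := h
  obtain ⟨g₂, hg₂, ν₂, h₂⟩ := h'
  refine ⟨g₁ * g₂, mul_mem hg₁ hg₂, ν₁ + ν₂ - f b a, fun v => ?_⟩
  have hpa : f p a = 0 := (eq_zero_comm hf).1 ha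
  rw [Units.val_mul, ← mulVec_mulVec, h₂, h₁]
  simp only [hf.add_left, sub_left' hf, hf.smul_left, Unitary.add_right' hf, hb, hp, hpa, mul_zero, add_zero,
    sub_zero, smul_add]
  module

lemma rootAt_neg (hp : f p p = 0) {b : ι → F} (hb : f b p = 0) (h : RootAt f M p b) : RootAt f M p (-b) := by
  obtain ⟨g, hg, ν, h⟩ := h
  refine ⟨g⁻¹, inv_mem hg, -ν - f b b, fun v => mulVec_injective g ?_⟩
  have hpb : f p b = 0 := (eq_zero_comm hf).1 hb
  simp only
  rw [Transvec.mulVec_inv_cancel, h, ← neg_one_smul F b, smul_right' hf]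
  simp only [hf.add_left, sub_left' hf, hf.smul_left, hb, hp, hpb, mul_zero, add_zero, sub_zero, map_neg, map_one]
  module

lemma rootAt_sub (hp : f p p = 0) {a b : ι → F} (ha : f a p = 0) (hb : f b p = 0) (h : RootAt f M p a)
    (h' : RootAt f M p b) : RootAt f M p (a - b) := by
  rw [sub_eq_add_neg]
  exact rootAt_add hf hp ha (by rw [neg_left' hf, hb, neg_zero]) h (rootAt_neg hf hp hb h')

/-- Two full vectors and their full combination give a root element. -/
lemma rootAt_of_full [Finite F] {q : ι → F} (hp : UFull σ f M p) (hq : UFull σ f M q) (hqp : f q p = 0)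
    {s : F} (hs0 : s ≠ 0) (hs : s + σ s = 0) (hsum : UFull σ f M (q + -s⁻¹ • p)) : RootAt f M p q := by
  have hσs : σ s = -s := by linear_combination hs
  have hpq : f p q = 0 := (eq_zero_comm hf).1 hqp
  obtain ⟨l, hl⟩ : ∃ l, l = -s⁻¹ := ⟨_, rfl⟩
  have hσl : σ l = s⁻¹ := by rw [hl, map_neg, map_inv₀, hσs, inv_neg, neg_neg]
  rw [← hl] at hsum
  refine ⟨(uT f q s)⁻¹ * uT f (q + l • p) s, mul_mem (inv_mem (hq.2 s hs)) (hsum.2 s hs),
    s * (l * σ l), fun v => mulVec_injective (uT f q s) ?_⟩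
  simp only
  rw [Units.val_mul, ← mulVec_mulVec, Transvec.mulVec_inv_cancel]
  simp only [uT_mulVec hf hsum.1, uT_mulVec hf hq.1, hf.add_left, sub_left' hf, hf.smul_left,
    Unitary.add_right' hf, smul_right' hf, hpq, hq.1, hσl, mulVec_add, mulVec_sub, mulVec_smul, mul_zero]
  rw [hl]
  match_scalars <;> field_simp <;> ring

/-- Isotropic vectors not orthogonal to a given one span. -/
lemma span_iso_ne [Finite F] (hd : 2 ≤ Fintype.card ι) {a : ι → F} (ha : a ≠ 0) :
    Submodule.span F {z | f z z = 0 ∧ f a z ≠ 0} = ⊤ := by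
  obtain ⟨z₀, hz₀, hz₀a⟩ := exists_iso_ne hf hd ha
  have ha₀ : f a z₀ ≠ 0 := fun h => hz₀a ((eq_zero_comm hf).1 h)
  refine eq_top_iff.2 fun x _ => (Submodule.span_le.2 fun z hz => ?_) (span_iso hf hd x)
  by_cases haz : f a z = 0
  swap
  · exact Submodule.subset_span ⟨hz, haz⟩
  have h0m : z₀ ∈ Submodule.span F {z | f z z = 0 ∧ f a z ≠ 0} := Submodule.subset_span ⟨hz₀, ha₀⟩
  obtain ⟨β, hβ0, hβ⟩ : ∃ β : F, β ≠ 0 ∧ β * f z₀ z + σ (β * f z₀ z) = 0 := by
    by_cases h : f z₀ z = 0
    · exact ⟨1, one_ne_zero, by simp [h]⟩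
    · obtain ⟨c, hc0, hc⟩ := exists_skew hf.ne_refl hf.involutive
      exact ⟨c / f z₀ z, div_ne_zero hc0 h, by rw [div_mul_cancel₀ _ h, hc]⟩
  have hsum : z + β • z₀ ∈ Submodule.span F {z | f z z = 0 ∧ f a z ≠ 0} := Submodule.subset_span ⟨by
    have hz' : f z z = 0 := hz
    simp only [hf.add_left, hf.smul_left, Unitary.add_right' hf, smul_right' hf, hz', hz₀]
    rw [map_mul, ← hf.herm] at hβ
    linear_combination hβ, by
    rw [Unitary.add_right' hf, smul_right' hf, haz, zero_add]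
    exact mul_ne_zero ((map_ne_zero_iff _ σ.injective).2 hβ0) ha₀⟩
  have := Submodule.sub_mem _ hsum (Submodule.smul_mem _ β h0m)
  rwa [add_sub_cancel_right] at this

end RootAt

variable {F : Type*} [Field F] {t k : ℕ} {σ : F ≃+* F} {f₁ : (Fin k → F) → (Fin k → F) → F}

/-- Scalars with given non-zero traces and skew product. -/
lemma exists_trace_skew [Finite F] (h1 : Cfsg.Geo.IsUnitaryForm σ f₁) (τ : Fin (t + 2) → F) (hτ : ∀ l, σ (τ l) = τ l)
    (hτ0 : ∀ l, τ l ≠ 0) :
    ∃ ν : Fin (t + 2) → F, (∀ l, ν l + σ (ν l) = τ l) ∧ (∏ l, ν l) + σ (∏ l, ν l) = 0 := by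
  choose a ha using fun l => exists_trace_eq h1.ne_refl h1.involutive (hτ l)
  have ha0 : ∀ l, a l ≠ 0 := fun l h => hτ0 l (by rw [← ha l, h, map_zero, add_zero])
  obtain ⟨s, hs0, hs⟩ := exists_skew h1.ne_refl h1.involutive
  obtain ⟨Q, hQ⟩ : ∃ Q, Q = ∏ l : Fin t, a l.succ.succ := ⟨_, rfl⟩
  have hQ0 : Q ≠ 0 := hQ ▸ Finset.prod_ne_zero_iff.2 fun l _ => ha0 _
  obtain ⟨ν₁, hν₁, hP⟩ : ∃ ν₁, ν₁ + σ ν₁ = τ 1 ∧ σ (ν₁ * Q) ≠ ν₁ * Q := by
    by_cases h : σ (a 1 * Q) = a 1 * Q
    swap
    · exact ⟨a 1, ha 1, h⟩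
    refine ⟨a 1 + s, by rw [map_add]; linear_combination ha 1 + hs, fun h' => ?_⟩
    have e : σ s * σ Q = s * Q := by
      rw [map_mul, map_add] at h'
      rw [map_mul] at h
      linear_combination h' - h
    have e' : (σ (a 1) * s - a 1 * σ s) * (Q * σ Q) = 0 := by
      rw [map_mul] at h
      linear_combination (s * Q) * h - (a 1 * Q) * e
    have hσs : σ s = -s := by linear_combination hs
    rw [hσs] at e'
    have : s * τ 1 * (Q * σ Q) = 0 := by rw [← ha 1]; linear_combination e'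
    exact mul_ne_zero (mul_ne_zero hs0 (hτ0 1)) (mul_ne_zero hQ0 ((map_ne_zero_iff _ σ.injective).2 hQ0)) this
  obtain ⟨P, hPdef⟩ : ∃ P, P = ν₁ * Q := ⟨_, rfl⟩
  rw [← hPdef] at hP
  have hP0 : P ≠ 0 := fun h => hP (by rw [h, map_zero])
  obtain ⟨t₀, ht₀⟩ : ∃ t₀, t₀ = s / P + σ (s / P) := ⟨_, rfl⟩
  have hσs : σ s = -s := by linear_combination hs
  have ht₀0 : t₀ ≠ 0 := fun h => hP (by
    rw [ht₀, map_div₀, hσs] at h
    have hσP : σ P ≠ 0 := (map_ne_zero_iff _ σ.injective).2 hP0
    field_simp at h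
    exact mul_left_cancel₀ hs0 (by linear_combination h))
  have ht₀f : σ t₀ = t₀ := by rw [ht₀, map_add, h1.involutive, add_comm]
  obtain ⟨r, hr⟩ : ∃ r, r = τ 0 / t₀ := ⟨_, rfl⟩
  have hrf : σ r = r := by rw [hr, map_div₀, hτ, ht₀f]
  refine ⟨fun l => if l = 0 then r * (s / P) else if l = 1 then ν₁ else a l, fun l => ?_, ?_⟩
  · dsimp only
    split_ifs with h h'
    · subst h
      rw [map_mul, hrf, ← mul_add, ← ht₀, hr, div_mul_cancel₀ _ ht₀0]
    · subst h'; exact hν₁
    · exact ha l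
  · rw [Fin.prod_univ_succ, Fin.prod_univ_succ]
    rw [if_pos rfl, if_neg (show (Fin.succ (0 : Fin (t + 1))) ≠ 0 from Fin.succ_ne_zero _),
      if_pos (show Fin.succ (0 : Fin (t + 1)) = (1 : Fin (t + 2)) from rfl),
      Finset.prod_congr rfl fun (i : Fin t) _ => by
        rw [if_neg (Fin.succ_ne_zero _), if_neg (show i.succ.succ ≠ (1 : Fin (t + 2)) from fun h =>
            Fin.succ_ne_zero i (Fin.succ_injective _ h))],
      ← hQ, ← hPdef, mul_assoc, div_mul_cancel₀ _ hP0, map_mul, hrf, ← mul_add, hs, mul_zero]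

namespace UCtx

variable [Finite F] {M : Subgroup (GL (Idx (t + 2) k) F)}

/-- All pure vectors with isotropic factors carry all transvections as soon as one does. -/
theorem full_pure (C : UCtx σ f₁ M) {xs₀ : Fin (t + 2) → Fin k → F} (h0 : ∀ i, xs₀ i ≠ 0)
    (hi0 : ∀ i, f₁ (xs₀ i) (xs₀ i) = 0) (h : UFull σ (tform σ f₁ (t + 2)) M (pv xs₀))
    (xs : Fin (t + 2) → Fin k → F) (hi : ∀ i, f₁ (xs i) (xs i) = 0) : UFull σ (tform σ f₁ (t + 2)) M (pv xs) := by
  classical
  by_cases hx : ∃ i, xs i = 0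
  · obtain ⟨i, hi⟩ := hx
    have e : pv xs = 0 := funext fun a => pv_apply_zero (k := i) (by rw [hi]; rfl)
    rw [e]
    refine ⟨zero_left' C.uni 0, fun c _ => ?_⟩
    rw [show uT (tform σ f₁ (t + 2)) (0 : Idx (t + 2) k → F) c = 1 from gl_ext fun v => by
      rw [uT_mulVec C.uni (zero_left' C.uni 0)]; simp]
    exact one_mem M
  push Not at hx
  have key : ∀ P : Finset (Fin (t + 2)), UFull σ (tform σ f₁ (t + 2)) M (pv fun l => if l ∈ P then xs l else xs₀ l) := by
    intro P
    induction P using Finset.induction_on with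
    | empty => simpa using h
    | insert j P hj ih =>
      obtain ⟨B, hB, hBi, c, hc, hBu⟩ := C.exists_slot_move j (h0 j) (hx j) (hi0 j) (hi j)
      have := ufull_smul C.uni (ufull_conj C.uni hB (C.iso _ hB) ih) c⁻¹
      rw [slotEl_apply, if_neg hj, hBu, ← pvL_apply, map_smul, inv_smul_smul₀ hc, pvL_apply] at this
      convert this using 2
      funext l
      by_cases hl : l = j
      · subst hl; simp
      · simp [hl]
  simpa using key Finset.univ

/-- A full pure vector with isotropic factors gives every transvection. -/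
theorem full_of_pure (C : UCtx σ f₁ M) {xs₀ : Fin (t + 2) → Fin k → F} (h0 : ∀ i, xs₀ i ≠ 0)
    (hi0 : ∀ i, f₁ (xs₀ i) (xs₀ i) = 0) (h : UFull σ (tform σ f₁ (t + 2)) M (pv xs₀)) :
    ∀ v, tform σ f₁ (t + 2) v v = 0 → UFull σ (tform σ f₁ (t + 2)) M v := by
  classical
  have hfull := C.full_pure h0 hi0 h
  have h1 := C.data.uni
  have hu := C.uni
  have hdk : 2 ≤ Fintype.card (Fin k) := by rw [Fintype.card_fin]; have := C.data.three; omega
  intro v hv
  -- a pure vector pairing with `v`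
  by_cases hv0 : v = 0
  · subst hv0
    have := hfull (fun _ => 0) fun _ => zero_left' h1 0
    rwa [show pv (fun _ : Fin (t + 2) => (0 : Fin k → F)) = 0 from
      funext fun a => pv_apply_zero (k := 0) rfl] at this
  obtain ⟨x, hxi, hne⟩ : ∃ x : Fin (t + 2) → Fin k → F, (∀ i, f₁ (x i) (x i) = 0) ∧
      tform σ f₁ (t + 2) v (pv x) ≠ 0 := by
    by_contra hc
    push Not at hc
    obtain ⟨y, hy⟩ := (hu.nondegenerate v hv0).1
    refine hy ?_
    have hW : (LinearMap.ker (linL hu v)) = ⊤ := eq_top_of_pv fun xs =>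
      pv_mem_of_sets (S := fun _ => {z | f₁ z z = 0})
        (fun zs hz => by
          change tform σ f₁ (t + 2) (pv zs) v = 0
          exact (eq_zero_comm hu).1 (hc zs hz))
        fun l => span_iso h1 hdk _
    have : y ∈ LinearMap.ker (linL hu v) := hW ▸ Submodule.mem_top
    exact this
  have hx0 : ∀ i, x i ≠ 0 := fun i hi => hne (by
    rw [show pv x = 0 from funext fun a => pv_apply_zero (k := i) (by rw [hi]; rfl), zero_right' hu])
  choose x' hx'i hx'x hxx' using fun i => exists_partner h1 (hx0 i) (hxi i)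
  obtain ⟨p, hp⟩ : ∃ p, p = pv x := ⟨_, rfl⟩
  rw [← hp] at hne
  have hpf : UFull σ (tform σ f₁ (t + 2)) M p := hp ▸ hfull x hxi
  have hpp := hpf.1
  obtain ⟨s, hs0, hs⟩ := exists_skew h1.ne_refl h1.involutive
  have hσs : σ s = -s := by linear_combination hs
  have hprod0 : ∀ {zs : Fin (t + 2) → Fin k → F} {ys : Fin (t + 2) → Fin k → F} (l : Fin (t + 2)),
      f₁ (zs l) (ys l) = 0 → tform σ f₁ (t + 2) (pv zs) (pv ys) = 0 := fun {zs ys} l hl => by
    rw [tform_pv h1]; exact Finset.prod_eq_zero (Finset.mem_univ l) hl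
  have hother : ∀ i : Fin (t + 2), ∃ j, j ≠ i := fun i => exists_ne i
  have hupd0 : ∀ i u, tform σ f₁ (t + 2) (pv (Function.update x i u)) p = 0 := fun i u => by
    obtain ⟨j, hj⟩ := hother i
    rw [hp]
    exact hprod0 j (by rw [Function.update_of_ne hj]; exact hxi j)
  -- root elements along isotropic directions
  have hroot : ∀ i u, f₁ u u = 0 → f₁ u (x i) = 1 →
      RootAt (tform σ f₁ (t + 2)) M p (pvL x i u) := fun i u huu hux => by
    have hiso : ∀ w, f₁ w w = 0 → ∀ l, f₁ (Function.update x i w l) (Function.update x i w l) = 0 := fun w hw l => by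
      by_cases hl : l = i
      · subst hl; simpa using hw
      · simpa [hl] using hxi l
    refine rootAt_of_full hu hpf (hfull _ (hiso u huu)) (hupd0 i u) hs0 hs ?_
    have e : pvL x i u + -s⁻¹ • p = pvL x i (u + -s⁻¹ • x i) := by
      rw [map_add, map_smul, pvL_apply x i (x i), Function.update_eq_self, hp]
    rw [e]
    refine hfull _ (hiso _ ?_)
    simp only [h1.add_left, h1.smul_left, Unitary.add_right' h1, smul_right' h1, huu, hxi, hux,
      show f₁ (x i) u = 1 by rw [h1.herm, hux, map_one], map_neg, map_inv₀, hσs, inv_neg]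
    ring
  obtain ⟨E, hE⟩ : ∃ E, E = eSub (M := M) hu hpp := ⟨_, rfl⟩
  have hmem : ∀ w, w ∈ E ↔ InE (tform σ f₁ (t + 2)) M p w := fun w => hE ▸ Iff.rfl
  -- anisotropic directions
  have hperp : ∀ i y, f₁ y (x i) = 0 → f₁ y (x' i) = 0 → pvL x i y ∈ E := by
    intro i y hy hy'
    rw [hmem]
    refine ⟨hupd0 i y, fun c => ?_⟩
    obtain ⟨μ, hμ⟩ := exists_eich_scalar h1 (c • y)
    have hu₁ : f₁ (x' i + c • y + μ • x i) (x' i + c • y + μ • x i) = 0 := by
      simp only [h1.smul_left, smul_right' h1] at hμ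
      simp only [h1.add_left, h1.smul_left, Unitary.add_right' h1, smul_right' h1, hxi, hx'i, hx'x, hxx', hy, hy',
        (eq_zero_comm h1).1 hy, (eq_zero_comm h1).1 hy']
      linear_combination hμ
    have h1' := hroot i _ hu₁ (by simp only [h1.add_left, h1.smul_left, hx'x, hy, hxi]; ring)
    have h0' := hroot i _ (hx'i i) (hx'x i)
    have hd := rootAt_sub hu hpp (hupd0 i _) (hupd0 i _) h1' h0'
    have := rootAt_sub hu hpp (by rw [sub_left' hu, hupd0 i, hupd0 i, sub_self])
      (by rw [hu.smul_left, hpp, mul_zero]) hd (rootAt_smul_self hu μ)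
    rw [← pvL_apply, ← pvL_apply, ← map_sub, show x' i + c • y + μ • x i - x' i = c • y + μ • x i by abel, map_add, map_smul, map_smul,
      pvL_apply x i (x i), Function.update_eq_self, ← hp, add_sub_cancel_right] at this
    exact this
  -- the partner
  obtain ⟨A, hA⟩ : ∃ A, A = pv x' := ⟨_, rfl⟩
  have hAp : tform σ f₁ (t + 2) A p = 1 := by
    rw [hA, hp, tform_pv h1]; exact Finset.prod_eq_one fun l _ => hx'x l
  -- combinations of the partner and another pure vector
  have hq : ∀ (ys : Fin (t + 2) → Fin k → F) (ν : Fin (t + 2) → F), (∀ l, f₁ (ys l) (x l) = 0) →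
      (∀ l, f₁ (ys l) (x' l) = 0) → (∀ l, f₁ (ys l) (ys l) ≠ 0) →
      (∀ l, ν l + σ (ν l) + f₁ (ys l) (ys l) = 0) → (∏ l, ν l) + σ (∏ l, ν l) = 0 →
      A - pv (fun l => x' l + ys l + ν l • x l) ∈ E := by
    intro ys ν hyx hyx' hyy hν hP
    obtain ⟨z, hz⟩ : ∃ z : Fin (t + 2) → Fin k → F, z = fun l => x' l + ys l + ν l • x l := ⟨_, rfl⟩
    rw [← hz]
    have hzl : ∀ l, z l = x' l + ys l + ν l • x l := fun l => by rw [hz]
    have hzi : ∀ l, f₁ (z l) (z l) = 0 := fun l => by
      simp only [hzl, h1.add_left, h1.smul_left, Unitary.add_right' h1, smul_right' h1, hxi, hx'i, hx'x, hxx', hyx,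
        hyx', (eq_zero_comm h1).1 (hyx l), (eq_zero_comm h1).1 (hyx' l)]
      linear_combination hν l
    have hzp : tform σ f₁ (t + 2) (pv z) p = 1 := by
      rw [hp, tform_pv h1]
      exact Finset.prod_eq_one fun l _ => by simp [hzl, h1.add_left, h1.smul_left, hx'x, hyx, hxi]
    obtain ⟨P, hPdef⟩ : ∃ P, P = ∏ l, ν l := ⟨_, rfl⟩
    rw [← hPdef] at hP
    have hP0 : P ≠ 0 := hPdef ▸ Finset.prod_ne_zero_iff.2 fun l _ h0 =>
      hyy l (by have := hν l; rw [h0, map_zero, add_zero, zero_add] at this; exact this)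
    have hAz : tform σ f₁ (t + 2) A (pv z) = σ P := by
      rw [hA, tform_pv h1, hPdef, map_prod]
      exact Finset.prod_congr rfl fun l _ => by
        simp [hzl, Unitary.add_right' h1, smul_right' h1, hx'i, hx'x, (eq_zero_comm h1).1 (hyx' l)]
    obtain ⟨c, hc⟩ : ∃ c, c = -(σ P)⁻¹ := ⟨_, rfl⟩
    have hcs : c + σ c = 0 := by
      rw [hc, map_neg, map_inv₀, hu.involutive, show σ P = -P by linear_combination hP, inv_neg]
      ring
    have hB := hfull z hzi
    have hqf := uT_add_smul hu (hA ▸ hfull x' hx'i : UFull σ (tform σ f₁ (t + 2)) M A) hB.1 hcs (hB.2 c hcs)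
    rw [hAz, hc, neg_mul, inv_mul_cancel₀ ((map_ne_zero_iff _ σ.injective).2 hP0), neg_one_smul,
      ← sub_eq_add_neg] at hqf
    rw [hmem]
    refine inE_of_pair hu hpp ((hmem _).1 (hperp 0 (ys 0) (hyx 0) (hyx' 0))) hqf
      (by rw [sub_left' hu, hAp, hzp, sub_self]) ?_
    rw [sub_right' hu, hA, pvL_apply, tform_pv h1, tform_pv h1,
      Finset.prod_eq_zero (Finset.mem_univ 0) (by simpa using hyx' 0), zero_sub, neg_ne_zero,
      Finset.prod_ne_zero_iff]
    intro l _
    by_cases hl : l = 0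
    · subst hl
      simpa [hzl, Unitary.add_right' h1, smul_right' h1, hyx, hyx'] using hyy 0
    · simp [hl, hzl, Unitary.add_right' h1, smul_right' h1, hxi, hxx', (eq_zero_comm h1).1 (hyx l)]
  have hν : ∀ ys : Fin (t + 2) → Fin k → F, (∀ l, f₁ (ys l) (ys l) ≠ 0) → ∃ ν : Fin (t + 2) → F,
      (∀ l, ν l + σ (ν l) + f₁ (ys l) (ys l) = 0) ∧ (∏ l, ν l) + σ (∏ l, ν l) = 0 := fun ys hy => by
    obtain ⟨ν, h1', h2'⟩ := exists_trace_skew h1 (fun l => -f₁ (ys l) (ys l))
      (fun l => by rw [map_neg, self_fixed h1]) fun l => neg_ne_zero.2 (hy l)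
    exact ⟨ν, fun l => by linear_combination h1' l, h2'⟩
  have hd3 : 3 ≤ Fintype.card (Fin k) := by rw [Fintype.card_fin]; exact C.data.three
  choose y₀ hy₀x hy₀x' hy₀y₀ using fun l => exists_aniso_pair h1 hd3 (hxi l) (hx'i l) (hx'x l)
  obtain ⟨ζ, hζ, hζ1⟩ : ∃ ζ : F, ζ * σ ζ = 1 ∧ ζ ≠ 1 := by
    obtain ⟨κ, hκ⟩ := UnitT.exists_moved h1
    have hκ0 : κ ≠ 0 := fun h0 => hκ (by rw [h0, map_zero, sub_zero])
    refine ⟨κ / σ κ, by rw [map_div₀, h1.involutive, div_mul_div_comm, mul_comm, div_self]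
                        exact mul_ne_zero ((map_ne_zero_iff _ σ.injective).2 hκ0) hκ0, fun h => hκ ?_⟩
    rw [div_eq_one_iff_eq ((map_ne_zero_iff _ σ.injective).2 hκ0)] at h
    rw [← h, sub_self]
  -- vectors with `x m` in slot `m`
  have hslot : ∀ m, slotW m (x m) ≤ E := by
    intro m
    obtain ⟨i, him⟩ := hother m
    obtain ⟨ν, hν1, hν2⟩ := hν y₀ hy₀y₀
    obtain ⟨w, hw⟩ : ∃ w : Fin (t + 2) → Fin k → F,
        w = Function.update (fun l => x' l + y₀ l + ν l • x l) i (y₀ i) := ⟨_, rfl⟩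
    have hwE : pv w ∈ E := by
      have e1 := hq y₀ ν hy₀x hy₀x' hy₀y₀ hν1 hν2
      have hyy : ∀ l, f₁ (Function.update y₀ i (ζ • y₀ i) l) (Function.update y₀ i (ζ • y₀ i) l) =
          f₁ (y₀ l) (y₀ l) := fun l => by
        by_cases hl : l = i
        · subst hl
          rw [Function.update_self, h1.smul_left, smul_right' h1, ← mul_assoc, hζ, one_mul]
        · rw [Function.update_of_ne hl]
      have e2 := hq (Function.update y₀ i (ζ • y₀ i)) ν
        (fun l => by by_cases hl : l = i <;> simp [hl, h1.smul_left, hy₀x])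
        (fun l => by by_cases hl : l = i <;> simp [hl, h1.smul_left, hy₀x'])
        (fun l => by rw [hyy]; exact hy₀y₀ l) (fun l => by rw [hyy]; exact hν1 l) hν2
      have e3 := E.smul_mem (ζ - 1)⁻¹ (E.sub_mem e1 e2)
      rw [sub_sub_sub_cancel_left,
        show pv (fun l => x' l + Function.update y₀ i (ζ • y₀ i) l + ν l • x l) =
          pvL (fun l => x' l + y₀ l + ν l • x l) i (x' i + ζ • y₀ i + ν i • x i) by
          rw [pvL_apply]
          congr 1
          funext l
          by_cases hl : l = i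
          · subst hl; simp
          · simp [hl],
        show pv (fun l => x' l + y₀ l + ν l • x l) =
          pvL (fun l => x' l + y₀ l + ν l • x l) i (x' i + y₀ i + ν i • x i) by
          rw [pvL_apply]
          congr 1
          exact (Function.update_eq_self _ _).symm,
        ← map_sub, show x' i + ζ • y₀ i + ν i • x i - (x' i + y₀ i + ν i • x i) = (ζ - 1) • y₀ i by module,
        map_smul, inv_smul_smul₀ (sub_ne_zero.2 hζ1), pvL_apply] at e3
      rw [hw]
      exact e3
    have hw0 : ∀ l, l ≠ m → w l ≠ 0 := fun l _ h0 => by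
      rw [hw] at h0
      by_cases hl : l = i
      · subst hl
        rw [Function.update_self] at h0
        exact hy₀y₀ l (by rw [h0, zero_left' h1])
      · rw [Function.update_of_ne hl] at h0
        have := congrArg (fun u => f₁ u (x l)) h0
        simp [h1.add_left, h1.smul_left, hx'x, hy₀x, hxi, zero_left' h1] at this
    refine slotW_le fun xs hxs => ?_
    refine pv_mem_of_sets (S := fun l => if l = m then ({x m} : Set (Fin k → F))
      else {z | f₁ z z = 0 ∧ f₁ (w l) z ≠ 0}) (fun zs hzs => ?_) fun l => ?_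
    · have hzm : zs m = x m := by have := hzs m; simpa using this
      have hzl : ∀ l, l ≠ m → f₁ (zs l) (zs l) = 0 ∧ f₁ (w l) (zs l) ≠ 0 := fun l hl => by
        have := hzs l; simpa [hl] using this
      rw [hmem]
      refine inE_of_pair hu hpp ((hmem _).1 hwE) (hfull zs fun l => ?_) ?_ ?_
      · by_cases hl : l = m
        · subst hl; rw [hzm]; exact hxi l
        · exact (hzl l hl).1
      · rw [hp]; exact hprod0 m (by rw [hzm]; exact hxi m)
      · rw [tform_pv h1, Finset.prod_ne_zero_iff]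
        intro l _
        by_cases hl : l = m
        · subst hl
          rw [hzm, hw, Function.update_of_ne him.symm]
          simp [h1.add_left, h1.smul_left, hx'x, hy₀x, hxi]
        · exact (hzl l hl).2
    · by_cases hl : l = m
      · subst hl; simp [hxs, Submodule.mem_span_singleton_self]
      · simp only [hl, if_false]
        rw [span_iso_ne h1 hdk (hw0 l hl)]
        trivial
  -- everything
  obtain ⟨E', hE'⟩ : ∃ E', E' = E ⊔ Submodule.span F {A} := ⟨_, rfl⟩
  have hEE' : E ≤ E' := hE' ▸ le_sup_left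
  have hshift : ∀ (a : Fin (t + 2) → Fin k → F) (ν : Fin (t + 2) → F) (P : Finset (Fin (t + 2))),
      pv (fun l => if l ∈ P then a l + ν l • x l else a l) - pv a ∈ E := by
    intro a ν P
    induction P using Finset.induction_on with
    | empty => simp
    | insert j P hj ih =>
      obtain ⟨b, hb⟩ : ∃ b : Fin (t + 2) → Fin k → F, b = fun l => if l ∈ P then a l + ν l • x l else a l := ⟨_, rfl⟩
      rw [← hb] at ih
      have hbj : b j = a j := by rw [hb]; simp [hj]
      have hnew : (fun l => if l ∈ insert j P then a l + ν l • x l else a l) = Function.update b j (b j + ν j • x j) := by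
        funext l
        by_cases hl : l = j
        · subst hl; simp [hbj]
        · simp [hl, hb]
      rw [hnew, ← pvL_apply, map_add, map_smul, pvL_apply, Function.update_eq_self, add_sub_right_comm]
      refine E.add_mem ih (E.smul_mem _ (hslot j ?_))
      have := pv_mem_slotW j (Function.update b j (x j))
      rwa [Function.update_self] at this
  have hbase : ∀ ys : Fin (t + 2) → Fin k → F, (∀ l, f₁ (ys l) (x l) = 0) → (∀ l, f₁ (ys l) (x' l) = 0) →
      (∀ l, f₁ (ys l) (ys l) ≠ 0) → pv (fun l => x' l + ys l) ∈ E' := by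
    intro ys hyx hyx' hyy
    obtain ⟨ν, hν1, hν2⟩ := hν ys hyy
    have e1 := hq ys ν hyx hyx' hyy hν1 hν2
    have e2 := hshift (fun l => x' l + ys l) ν Finset.univ
    simp only [Finset.mem_univ, if_true] at e2
    have e3 : pv (fun l => x' l + ys l) = A - (A - pv (fun l => x' l + ys l + ν l • x l)) -
        (pv (fun l => x' l + ys l + ν l • x l) - pv fun l => x' l + ys l) := by abel
    rw [e3]
    exact E'.sub_mem (E'.sub_mem (hE' ▸ Submodule.mem_sup_right (Submodule.mem_span_singleton_self A))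
      (hEE' e1)) (hEE' e2)
  have hall' : ∀ P : Finset (Fin (t + 2)), ∀ xs : Fin (t + 2) → Fin k → F,
      (∀ l ∉ P, f₁ (xs l - x' l) (x l) = 0 ∧ f₁ (xs l - x' l) (x' l) = 0 ∧ f₁ (xs l - x' l) (xs l - x' l) ≠ 0) →
      pv xs ∈ E' := by
    intro P
    induction P using Finset.induction_on with
    | empty =>
      intro xs hxs
      have hl := fun l => hxs l (Finset.notMem_empty l)
      have := hbase (fun l => xs l - x' l) (fun l => (hl l).1) (fun l => (hl l).2.1) (fun l => (hl l).2.2)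
      simpa using this
    | insert j P hj ih =>
      intro xs hxs
      obtain ⟨Z, hZ⟩ : ∃ Z, Z = E'.comap (pvL xs j) := ⟨_, rfl⟩
      suffices hall : ∀ u, u ∈ Z by
        have := hall (xs j)
        rwa [hZ, Submodule.mem_comap, pvL_apply, Function.update_eq_self] at this
      have hy : ∀ y, f₁ y (x j) = 0 → f₁ y (x' j) = 0 → f₁ y y ≠ 0 → x' j + y ∈ Z := fun y h1' h2' h3' => by
        rw [hZ, Submodule.mem_comap, pvL_apply]
        refine ih _ fun l hl => ?_
        by_cases hlj : l = j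
        · subst hlj; simpa using ⟨h1', h2', h3'⟩
        · rw [Function.update_of_ne hlj]; exact hxs l (by simp [hlj, hl])
      have hxj : x j ∈ Z := by
        rw [hZ, Submodule.mem_comap, pvL_apply]
        refine hEE' (hslot j ?_)
        have := pv_mem_slotW j (Function.update xs j (x j))
        rwa [Function.update_self] at this
      have hyj : ∀ y, f₁ y (x j) = 0 → f₁ y (x' j) = 0 → f₁ y y ≠ 0 → y ∈ Z := fun y h1' h2' h3' => by
        have e := Z.smul_mem (ζ - 1)⁻¹ (Z.sub_mem (hy (ζ • y) (by rw [h1.smul_left, h1', mul_zero])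
          (by rw [h1.smul_left, h2', mul_zero])
          (by rw [h1.smul_left, smul_right' h1, ← mul_assoc, hζ, one_mul]; exact h3')) (hy y h1' h2' h3'))
        rwa [add_sub_add_left_eq_sub, show ζ • y - y = (ζ - 1) • y by module,
          inv_smul_smul₀ (sub_ne_zero.2 hζ1)] at e
      have hx'j : x' j ∈ Z := by
        simpa using Z.sub_mem (hy (y₀ j) (hy₀x j) (hy₀x' j) (hy₀y₀ j)) (hyj _ (hy₀x j) (hy₀x' j) (hy₀y₀ j))
      have hperpZ : ∀ w, f₁ w (x j) = 0 → f₁ w (x' j) = 0 → w ∈ Z := fun w h1' h2' => by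
        by_cases hww : f₁ w w = 0
        swap
        · exact hyj w h1' h2' hww
        obtain ⟨l, hl0, hl⟩ : ∃ l : F, l ≠ 0 ∧ l * f₁ (y₀ j) w + σ (l * f₁ (y₀ j) w) = 0 := by
          by_cases h' : f₁ (y₀ j) w = 0
          · exact ⟨1, one_ne_zero, by simp [h']⟩
          · exact ⟨s / f₁ (y₀ j) w, div_ne_zero hs0 h', by rw [div_mul_cancel₀ _ h', hs]⟩
        have h3 : f₁ (w + l • y₀ j) (w + l • y₀ j) ≠ 0 := by
          rw [map_mul, ← h1.herm] at hl
          simp only [h1.add_left, h1.smul_left, Unitary.add_right' h1, smul_right' h1, hww]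
          intro h0
          exact mul_ne_zero (mul_ne_zero hl0 ((map_ne_zero_iff _ σ.injective).2 hl0)) (hy₀y₀ j)
            (by linear_combination h0 - hl)
        have e := Z.sub_mem (hyj _ (by rw [h1.add_left, h1', h1.smul_left, hy₀x, mul_zero, add_zero])
          (by rw [h1.add_left, h2', h1.smul_left, hy₀x', mul_zero, add_zero]) h3)
          (Z.smul_mem l (hyj _ (hy₀x j) (hy₀x' j) (hy₀y₀ j)))
        rwa [add_sub_cancel_right] at e
      intro u
      have e : u = f₁ u (x' j) • x j + f₁ u (x j) • x' j + (u - f₁ u (x' j) • x j - f₁ u (x j) • x' j) := by abel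
      rw [e]
      refine Z.add_mem (Z.add_mem (Z.smul_mem _ hxj) (Z.smul_mem _ hx'j)) (hperpZ _ ?_ ?_)
      · simp only [sub_left' h1, h1.smul_left, hxi, hx'x]; ring
      · simp only [sub_left' h1, h1.smul_left, hxx', hx'i]; ring
  have htop : ∀ w, w ∈ E' := fun w => by
    rw [eq_top_of_pv fun xs => hall' Finset.univ xs fun l hl => absurd (Finset.mem_univ l) hl]
    trivial
  have hall : ∀ w, tform σ f₁ (t + 2) w p = 0 → InE (tform σ f₁ (t + 2)) M p w := fun w hw => by
    have := htop w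
    rw [hE', Submodule.mem_sup] at this
    obtain ⟨e, he, _, hr, rfl⟩ := this
    obtain ⟨c, rfl⟩ := Submodule.mem_span_singleton.1 hr
    rw [hu.add_left, hu.smul_left, ((hmem _).1 he).1, hAp, mul_one, zero_add] at hw
    rw [hw, zero_smul, add_zero]
    exact (hmem _).1 he
  exact ufull_of_inE hu C.iso hpf (hA ▸ hfull x' hx'i) hAp hall hv hne

end UCtx

end CfsgLib.Classical22.UWr
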