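/-
Shears along a slot are scalar: otherwise a transvection at a pure vector would appear.
-/
import Cfsg.Agent.Lib.Classical22.UnitWreath.Closure

set_option autoImplicit false
set_option linter.unusedSectionVars false
set_option linter.unusedSimpArgs false
set_option maxHeartbeats 1000000

namespace CfsgLib.Classical22.UWr

open Matrix Kronecker CfsgLib.Transvec CfsgLib.Transvec.Unitary CfsgLib.Classical22.TensorMax
open CfsgLib.Classical22.TWMax
open CfsgLib.Classical22.TensorMax.SpO (kr kr_apply isKron_kr)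
open CfsgLib.Classical22.TensorMax.UnitT (InL ctr exists_iso exists_partner exists_aniso_pair exists_norm_pair
  exists_eich_scalar eich eich_mulVec iso_eich det_eich exists_dual exists_scale_iso scalar_of_iso_zero exists_moved)
open scoped MatrixGroups

variable {F : Type*} [Field F] {t k : ℕ}

/-- `1 + X` is the matrix of an element of `M`. -/
def InX {n : ℕ} (M : Subgroup (GL (Idx n k) F)) (X : Matrix (Idx n k) (Idx n k) F) : Prop :=
  ∃ g ∈ M, g.val = 1 + X

/-- Commuting with every matrix of slot `s`. -/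
def Cm (s : Fin t) (Y : Matrix (Idx t k) (Idx t k) F) : Prop := ∀ W, emb s W * Y = Y * emb s W

lemma cm_mul {s : Fin t} {Y Y' : Matrix (Idx t k) (Idx t k) F} (h : Cm s Y) (h' : Cm s Y') : Cm s (Y * Y') :=
  fun W => by rw [← mul_assoc, h, mul_assoc, h', mul_assoc]

lemma cm_smul {s : Fin t} {Y : Matrix (Idx t k) (Idx t k) F} (h : Cm s Y) (c : F) : Cm s (c • Y) :=
  fun W => by rw [mul_smul_comm, smul_mul_assoc, h]

lemma cm_emb {s j : Fin t} (hj : j ≠ s) (W : Matrix (Fin k) (Fin k) F) : Cm s (emb j W) :=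
  fun _ => emb_comm hj.symm _ _

lemma cm_tmat {s : Fin t} {Ys : Fin t → Matrix (Fin k) (Fin k) F} (h : Ys s = 1) : Cm s (tmat Ys) :=
  fun W => by rw [emb_mul_tmat, tmat_mul_emb, h, mul_one, one_mul]

lemma cm_inv {s : Fin t} {g : GL (Idx t k) F} (h : Cm s g.val) : Cm s g⁻¹.val :=
  fun W => (Commute.units_inv_right (h W : Commute (emb s W) g.val))

lemma slotEl_inv_val (s : Fin (t + 1)) (B : GL (Fin k) F) : (slotEl s B)⁻¹.val = emb s B⁻¹.val :=
  Units.inv_eq_of_mul_eq_one_right (by rw [slotEl_val, ← emb_mul, ← Units.val_mul, mul_inv_cancel, Units.val_one,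
    emb_one])

/-- The matrix commuting with every slot is a scalar. -/
lemma scalar_of_cm {X : Matrix (Idx t k) (Idx t k) F} (h : ∀ i, Cm i X) : ∃ c : F, X = c • 1 := by
  classical
  by_cases hk : IsEmpty (Idx t k)
  · exact ⟨0, Subsingleton.elim _ _⟩
  obtain ⟨z⟩ := not_isEmpty_iff.1 hk
  have he := fun i => entry_of_commute (i := i) fun p q => h i (single p q 1)
  refine ⟨X z z, ?_⟩
  ext x y
  by_cases hxy : x = y
  · subst hxy
    have key : ∀ P : Finset (Fin t), X (fun l => if l ∈ P then x l else z l) (fun l => if l ∈ P then x l else z l) =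
        X z z := by
      intro P
      induction P using Finset.induction_on with
      | empty => simp
      | insert j P hj ih =>
        rw [← ih, ← (he j).2 (fun l => if l ∈ P then x l else z l) _ rfl (x j)]
        have e : (fun l => if l ∈ insert j P then x l else z l) =
            Function.update (fun l => if l ∈ P then x l else z l) j (x j) := by
          funext l
          by_cases hl : l = j
          · subst hl; simp
          · simp [hl]
        rw [e]
    simpa using key Finset.univ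
  · obtain ⟨i, hi⟩ := Function.ne_iff.1 hxy
    rw [(he i).1 x y hi]
    simp [Matrix.one_apply_ne hxy]

/-- Tracing out a slot. -/
def ptr (j : Fin t) (φ d : Fin k → F) (Z : Matrix (Idx t k) (Idx t k) F) : Matrix (Idx t k) (Idx t k) F :=
  ∑ r : Fin k, emb j (vecMulVec (Pi.single r 1) φ) * Z * emb j (vecMulVec d (Pi.single r 1))

lemma emb_sum {ι : Type*} (s : Finset ι) (j : Fin t) (W : ι → Matrix (Fin k) (Fin k) F) :
    emb j (∑ r ∈ s, W r) = ∑ r ∈ s, emb j (W r) := map_sum (embL j) W s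

lemma vecMulVec_sum_left {ι : Type*} (s : Finset ι) (v : ι → Fin k → F) (w : Fin k → F) :
    vecMulVec (∑ r ∈ s, v r) w = ∑ r ∈ s, vecMulVec (v r) w := by
  ext a b
  simp [vecMulVec_apply, Finset.sum_apply, Matrix.sum_apply, Finset.sum_mul]

lemma vecMulVec_sum_right {ι : Type*} (s : Finset ι) (v : Fin k → F) (w : ι → Fin k → F) :
    vecMulVec v (∑ r ∈ s, w r) = ∑ r ∈ s, vecMulVec v (w r) := by
  ext a b
  simp [vecMulVec_apply, Finset.sum_apply, Matrix.sum_apply, Finset.mul_sum]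

lemma cm_ptr_self (j : Fin t) (φ d : Fin k → F) (Z : Matrix (Idx t k) (Idx t k) F) : Cm j (ptr j φ d Z) := by
  intro W
  have el : ∀ r, emb j W * emb j (vecMulVec (Pi.single r 1) φ) =
      ∑ p, W p r • emb j (vecMulVec (Pi.single p (1 : F)) φ) := fun r => by
    rw [← emb_mul, mul_vecMulVec, pi_eq_sum_univ' (W *ᵥ Pi.single r 1), vecMulVec_sum_left, emb_sum]
    refine Finset.sum_congr rfl fun p _ => ?_
    rw [smul_vecMulVec, emb_smul, mulVec_single_one]
    rfl
  have er : ∀ r, emb j (vecMulVec d (Pi.single r (1 : F))) * emb j W =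
      ∑ p, W r p • emb j (vecMulVec d (Pi.single p (1 : F))) := fun r => by
    rw [← emb_mul, vecMulVec_mul, pi_eq_sum_univ' (Pi.single r 1 ᵥ* W), vecMulVec_sum_right, emb_sum]
    refine Finset.sum_congr rfl fun p _ => ?_
    rw [vecMulVec_smul, emb_smul, single_one_vecMul]
    rfl
  simp only [ptr, Finset.mul_sum, Finset.sum_mul, ← mul_assoc, el]
  simp only [mul_assoc, er, Finset.mul_sum, smul_mul_assoc, mul_smul_comm]
  exact Finset.sum_comm

lemma cm_ptr {l j : Fin t} (hl : j ≠ l) (φ d : Fin k → F) {Z : Matrix (Idx t k) (Idx t k) F} (hZ : Cm l Z) :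
    Cm l (ptr j φ d Z) := fun W => by
  rw [ptr, Finset.mul_sum, Finset.sum_mul]
  exact Finset.sum_congr rfl fun r _ => cm_mul (cm_mul (cm_emb hl _) hZ) (cm_emb hl _) W

variable {σ : F ≃+* F} {f₁ : (Fin k → F) → (Fin k → F) → F}

/-- Tracing out recovers a corner. -/
lemma ptr_mul_nd (h1 : Cfsg.Geo.IsUnitaryForm σ f₁) (j : Fin t) {d d' : Fin k → F} (hd'd : f₁ d' d = 1)
    (Y : Matrix (Idx t k) (Idx t k) F) :
    ptr j (uvec f₁ d') d' (emb j (nd f₁ d) * Y * emb j (nd f₁ d)) * emb j (nd f₁ d) =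
      emb j (nd f₁ d) * Y * emb j (nd f₁ d) := by
  have hdd' : uvec f₁ d' ⬝ᵥ d = 1 := by rw [uvec_dot h1, h1.herm, hd'd, map_one]
  have e1 : ∀ r, emb j (vecMulVec d' (Pi.single r (1 : F))) * emb j (nd f₁ d) =
      d r • emb j (vecMulVec d' (uvec f₁ d)) := fun r => by
    rw [← emb_mul, nd, vecMulVec_mul_vecMulVec, single_dotProduct, one_mul, vecMulVec_smul, emb_smul]
  have e2 : ∑ r, d r • emb j (vecMulVec (Pi.single r (1 : F)) (uvec f₁ d')) = emb j (vecMulVec d (uvec f₁ d')) := by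
    conv_rhs => rw [pi_eq_sum_univ' d, vecMulVec_sum_left, emb_sum]
    exact Finset.sum_congr rfl fun r _ => by rw [smul_vecMulVec, emb_smul]
  have e3 : emb j (vecMulVec d (uvec f₁ d')) * emb j (nd f₁ d) = emb j (nd f₁ d) := by
    rw [← emb_mul, nd, vecMulVec_mul_vecMulVec, hdd', one_smul]
  have e4 : emb j (nd f₁ d) * emb j (vecMulVec d' (uvec f₁ d)) = emb j (nd f₁ d) := by
    rw [← emb_mul, nd, vecMulVec_mul_vecMulVec, uvec_dot h1, hd'd, one_smul]
  obtain ⟨Z, hZ⟩ : ∃ Z, Z = emb j (nd f₁ d) * Y * emb j (nd f₁ d) := ⟨_, rfl⟩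
  rw [← hZ]
  calc ptr j (uvec f₁ d') d' Z * emb j (nd f₁ d)
      = (∑ r, d r • emb j (vecMulVec (Pi.single r (1 : F)) (uvec f₁ d'))) * Z * emb j (vecMulVec d' (uvec f₁ d)) := by
        simp only [ptr, Finset.sum_mul, mul_assoc, e1, mul_smul_comm, smul_mul_assoc]
    _ = Z := by rw [e2, hZ]; simp only [← mul_assoc, e3]; simp only [mul_assoc, e4]

/-- A slot matrix times a root cannot vanish. -/
lemma eq_zero_of_cm_mul (h1 : Cfsg.Geo.IsUnitaryForm σ f₁) {j : Fin t} {d d' : Fin k → F} (hd'd : f₁ d' d = 1)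
    {Z : Matrix (Idx t k) (Idx t k) F} (hZ : Cm j Z) (h : Z * emb j (nd f₁ d) = 0) : Z = 0 := by
  have hdd' : uvec f₁ d' ⬝ᵥ d = 1 := by rw [uvec_dot h1, h1.herm, hd'd, map_one]
  have e : ∀ r, emb j (vecMulVec (Pi.single r (1 : F)) (uvec f₁ d')) * emb j (nd f₁ d) *
      emb j (vecMulVec d' (Pi.single r (1 : F))) = emb j (single r r 1) := fun r => by
    rw [← emb_mul, ← emb_mul, nd, vecMulVec_mul_vecMulVec, hdd', one_smul, vecMulVec_mul_vecMulVec, uvec_dot h1, hd'd,
      one_smul]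
    congr 1
    ext a b
    by_cases ha : r = a <;> by_cases hb : r = b <;> simp [vecMulVec_apply, single_apply, Pi.single_apply, *, eq_comm]
  calc Z = Z * ∑ r, emb j (single r r (1 : F)) := by
        rw [show ∑ r, emb j (single r r (1 : F)) = 1 from sum_su j, mul_one]
    _ = ∑ r, emb j (vecMulVec (Pi.single r (1 : F)) (uvec f₁ d')) * (Z * emb j (nd f₁ d)) *
          emb j (vecMulVec d' (Pi.single r (1 : F))) := by
        rw [Finset.mul_sum]
        refine Finset.sum_congr rfl fun r _ => ?_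
        rw [← e r]
        simp only [← mul_assoc]
        rw [hZ]
    _ = 0 := by simp [h]

/-- An operator vanishing on the diagonal of all isotropic vectors is scalar. -/
theorem scalar_of_iso_zero' [Finite F] (h1 : Cfsg.Geo.IsUnitaryForm σ f₁) (hk : 2 ≤ k)
    (K : (Fin k → F) →ₗ[F] (Fin k → F)) (h : ∀ d, f₁ d d = 0 → f₁ (K d) d = 0) : ∃ c : F, ∀ x, K x = c • x := by
  have hext : ∀ {z z' : Fin k → F}, (∀ x, f₁ x z = f₁ x z') → z = z' := fun {z z'} hz => by
    by_contra hne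
    obtain ⟨x, hx⟩ := (h1.nondegenerate _ (sub_ne_zero.2 hne)).1
    exact hx (by rw [sub_right' h1, hz, sub_self])
  have hex : ∀ y, ∃ z, ∀ x, f₁ x z = f₁ (K x) y := fun y => by
    obtain ⟨z, hz⟩ := uvec_surjective h1 (uvec f₁ y ᵥ* LinearMap.toMatrix' K)
    refine ⟨z, fun x => ?_⟩
    rw [← uvec_dot h1 z, hz, ← dotProduct_mulVec, LinearMap.toMatrix'_mulVec, uvec_dot h1]
  choose z hz using hex
  obtain ⟨K', hK'⟩ : ∃ K' : (Fin k → F) →ₗ[F] (Fin k → F), ∀ y, K' y = z y :=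
    ⟨{ toFun := z
       map_add' := fun y y' => hext fun x => by
         rw [hz, Unitary.add_right' h1, Unitary.add_right' h1, hz, hz]
       map_smul' := fun c y => hext fun x => by
         rw [hz, RingHom.id_apply, smul_right' h1, smul_right' h1, hz] }, fun y => rfl⟩
  have ha : ∀ x y, f₁ x (K' y) = f₁ (K x) y := fun x y => by rw [hK', hz]
  have hb : ∀ x y, f₁ (K' x) y = f₁ x (K y) := fun x y => by rw [h1.herm, ha, ← h1.herm]
  have key : ∀ l : F, ∃ c : F, ∀ x, l • K x - σ l • K' x = c • x := fun l => by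
    refine scalar_of_iso_zero h1 (by rw [Fintype.card_fin]; exact hk) (l • K - σ l • K') (fun x y => ?_) fun d hd => ?_
    · simp only [LinearMap.sub_apply, LinearMap.smul_apply, sub_left' h1, sub_right' h1, h1.smul_left, smul_right' h1,
        ha, hb, h1.involutive]
      ring
    · simp only [LinearMap.sub_apply, LinearMap.smul_apply, sub_left' h1, h1.smul_left, hb, h d hd,
        (eq_zero_comm h1).1 (h d hd)]
      ring
  obtain ⟨κ, hκ⟩ := exists_moved h1
  obtain ⟨c₁, hc₁⟩ := key 1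
  obtain ⟨c₂, hc₂⟩ := key κ
  refine ⟨(c₂ - σ κ * c₁) / (κ - σ κ), fun x => ?_⟩
  have e : (κ - σ κ) • K x = (c₂ - σ κ * c₁) • x := by
    have e1 := hc₁ x
    have e2 := hc₂ x
    rw [map_one] at e1
    linear_combination (norm := module) e2 - σ κ • e1
  rw [div_eq_inv_mul, mul_smul, ← e, inv_smul_smul₀ hκ]

/-- A slot all whose corners vanish is passive. -/
theorem cm_of_corners [Finite F] (h1 : Cfsg.Geo.IsUnitaryForm σ f₁) (hk : 2 ≤ k) {j : Fin t}
    {Y : Matrix (Idx t k) (Idx t k) F}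
    (h : ∀ d, d ≠ 0 → f₁ d d = 0 → emb j (nd f₁ d) * Y * emb j (nd f₁ d) = 0) : Cm j Y := by
  intro W
  ext x y
  obtain ⟨K, hK⟩ : ∃ K : Matrix (Fin k) (Fin k) F,
      ∀ p q, K p q = Y (Function.update x j p) (Function.update y j q) := ⟨fun p q => _, fun p q => rfl⟩
  obtain ⟨c, hc⟩ := scalar_of_iso_zero' h1 hk (Matrix.mulVecLin K) fun d hd => by
    by_cases hd0 : d = 0
    · rw [hd0, map_zero, zero_left' h1]
    obtain ⟨d', -, hd'd, -⟩ := exists_partner h1 hd0 hd
    have hz : nd f₁ d * K * nd f₁ d = 0 := by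
      ext p q
      have := congrFun (congrFun (h d hd0 hd) (Function.update x j p)) (Function.update y j q)
      rw [mul_emb_apply] at this
      simp only [emb_mul_apply, Function.update_idem, Function.update_self, Matrix.zero_apply] at this
      simpa [Matrix.mul_apply, hK] using this
    have hv := congrArg (· *ᵥ d') hz
    simp only [← mulVec_mulVec, zero_mulVec, nd_mulVec h1, hd'd, one_smul] at hv
    exact (smul_eq_zero.1 hv).resolve_right hd0
  have hKc : K = c • 1 := Matrix.ext_iff_mulVec.2 fun v => by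
    rw [smul_mulVec, one_mulVec, ← hc v]; rfl
  have e1 : (emb j W * Y) x y = (W * K) (x j) (y j) := by
    rw [emb_mul_apply, Matrix.mul_apply]
    refine Finset.sum_congr rfl fun r _ => ?_
    rw [hK, Function.update_eq_self]
  have e2 : (Y * emb j W) x y = (K * W) (x j) (y j) := by
    rw [mul_emb_apply, Matrix.mul_apply]
    refine Finset.sum_congr rfl fun r _ => ?_
    rw [hK, Function.update_eq_self]
  rw [e1, e2, hKc]
  simp

/-- Roots at the slots in `S`, the identity elsewhere. -/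
def nT (f₁ : (Fin k → F) → (Fin k → F) → F) (S : Finset (Fin t)) (d : Fin t → Fin k → F) :
    Matrix (Idx t k) (Idx t k) F :=
  tmat fun l => if l ∈ S then nd f₁ (d l) else 1

lemma nT_insert {S : Finset (Fin t)} {j : Fin t} (hj : j ∉ S) (d : Fin t → Fin k → F) (v : Fin k → F) :
    emb j (nd f₁ v) * nT f₁ S d = nT f₁ (insert j S) (Function.update d j v) := by
  rw [nT, nT, emb_mul_tmat, if_neg hj, mul_one]
  congr 1
  funext l
  by_cases hl : l = j
  · subst hl; simp
  · simp [hl]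

lemma nT_erase {S : Finset (Fin t)} {s : Fin t} (hs : s ∈ S) (d : Fin t → Fin k → F) :
    nT f₁ S d = nT f₁ (S.erase s) d * emb s (nd f₁ (d s)) := by
  rw [nT, nT, tmat_mul_emb, if_neg (Finset.notMem_erase s S), one_mul]
  congr 1
  funext l
  by_cases hl : l = s
  · subst hl; simp [hs]
  · simp [hl]

/-- A shear along slot `s` at `e` in `M`. -/
def Sh {n : ℕ} (f₁ : (Fin k → F) → (Fin k → F) → F) (M : Subgroup (GL (Idx n k) F)) (s : Fin n) (e : Fin k → F)
    (X : Matrix (Idx n k) (Idx n k) F) : Prop :=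
  (∃ Y, Cm s Y ∧ X = Y * emb s (nd f₁ e)) ∧ InX M X

namespace UCtx

variable [Finite F] {M : Subgroup (GL (Idx (t + 1) k) F)} (C : UCtx σ f₁ M) {s : Fin (t + 1)} {e : Fin k → F}
include C

lemma sh_sq (hee : f₁ e e = 0) {X X' : Matrix (Idx (t + 1) k) (Idx (t + 1) k) F} (h : Sh f₁ M s e X)
    (h' : Sh f₁ M s e X') : X * X' = 0 := by
  obtain ⟨⟨Y, -, rfl⟩, -⟩ := h
  obtain ⟨⟨Y', hY', rfl⟩, -⟩ := h'
  rw [mul_assoc, ← mul_assoc (emb s (nd f₁ e)), hY', mul_assoc Y', ← emb_mul, nd_sq C.data.uni hee,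
    show emb s (0 : Matrix (Fin k) (Fin k) F) = 0 from (embL s).map_zero, mul_zero, mul_zero]

lemma sh_sub (hee : f₁ e e = 0) {X X' : Matrix (Idx (t + 1) k) (Idx (t + 1) k) F} (h : Sh f₁ M s e X)
    (h' : Sh f₁ M s e X') : Sh f₁ M s e (X - X') := by
  have z1 := C.sh_sq hee h h'
  have z2 := C.sh_sq hee h' h'
  obtain ⟨⟨Y, hY, hX⟩, g, hg, hgv⟩ := h
  obtain ⟨⟨Y', hY', hX'⟩, g', hg', hgv'⟩ := h'
  refine ⟨⟨Y - Y', fun W => by rw [mul_sub, sub_mul, hY, hY'], by rw [hX, hX', sub_mul]⟩,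
    g * g'⁻¹, mul_mem hg (inv_mem hg'), ?_⟩
  have hinv : g'⁻¹.val = 1 - X' := Units.inv_eq_of_mul_eq_one_right (by
    rw [hgv', mul_sub, mul_one, add_mul, one_mul, z2]; abel)
  rw [Units.val_mul, hgv, hinv, mul_sub, mul_one, add_mul, one_mul, z1]
  abel

lemma sh_conj {X : Matrix (Idx (t + 1) k) (Idx (t + 1) k) F} (h : Sh f₁ M s e X) {g : GL (Idx (t + 1) k) F}
    (hg : g ∈ M) (hgs : Cm s g.val) : Sh f₁ M s e (g.val * X * g⁻¹.val) := by
  obtain ⟨⟨Y, hY, rfl⟩, g', hg', hgv'⟩ := h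
  refine ⟨⟨g.val * Y * g⁻¹.val, cm_mul (cm_mul hgs hY) (cm_inv hgs), ?_⟩, g * g' * g⁻¹,
    mul_mem (mul_mem hg hg') (inv_mem hg), ?_⟩
  · simp only [mul_assoc]
    rw [cm_inv hgs]
  · rw [Units.val_mul, Units.val_mul, hgv', mul_add, mul_one, add_mul, Units.mul_inv]

lemma sh_smul (he0 : e ≠ 0) (hee : f₁ e e = 0) {X : Matrix (Idx (t + 1) k) (Idx (t + 1) k) F}
    (h : Sh f₁ M s e X) {r : F} (hr : σ r = r) : Sh f₁ M s e (r • X) := by
  have h1 := C.data.uni
  have hsq : ∀ a : F, σ a = a → Sh f₁ M s e ((a * a) • X) := by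
    intro a ha
    by_cases ha0 : a = 0
    · rw [ha0, mul_zero, zero_smul]
      exact ⟨⟨0, fun W => by rw [mul_zero, zero_mul], by rw [zero_mul]⟩, 1, one_mem M, by rw [Units.val_one, add_zero]⟩
    obtain ⟨⟨Y, hY, rfl⟩, g, hg, hgv⟩ := h
    obtain ⟨B, hB, hBe⟩ := exists_scale_iso h1 he0 hee ha ha0
    have hm := C.slotT_mem s hB
    refine ⟨⟨(a * a) • Y, cm_smul hY _, by rw [smul_mul_assoc]⟩, slotEl s B * g * (slotEl s B)⁻¹,
      mul_mem (mul_mem hm hg) (inv_mem hm), ?_⟩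
    rw [Units.val_mul, Units.val_mul, hgv, mul_add, mul_one, add_mul, Units.mul_inv, slotEl_val, slotEl_inv_val,
      ← mul_assoc, hY, mul_assoc Y, mul_assoc Y, ← emb_mul, ← emb_mul,
      nd_conj h1 (transvGroup_le h1 hB).1, hBe, nd_smul h1, ha, emb_smul, mul_smul_comm]
  by_cases h2 : (2 : F) = 0
  · haveI : CharP F 2 := CharTwo.of_one_ne_zero_of_two_eq_zero one_ne_zero h2
    haveI := Fintype.ofFinite F
    obtain ⟨a, ha⟩ := FiniteField.isSquare_of_char_two (ringChar.eq F 2) r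
    have ha' : σ a = a := by
      have e1 : σ a * σ a = a * a := by rw [← map_mul, ← ha, hr]
      rcases mul_self_eq_mul_self_iff.mp e1 with h' | h'
      · exact h'
      · rw [h', CharTwo.neg_eq]
    rw [ha]
    exact hsq a ha'
  · have := C.sh_sub hee (hsq ((r + 1) / 2) (by rw [map_div₀, map_add, hr, map_one, map_ofNat]))
      (hsq ((r - 1) / 2) (by rw [map_div₀, map_sub, hr, map_one, map_ofNat]))
    convert this using 1
    rw [← sub_smul]
    congr 1
    field_simp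
    ring

/-- Corners of shears are shears. -/
theorem sh_corner (he0 : e ≠ 0) (hee : f₁ e e = 0) {X : Matrix (Idx (t + 1) k) (Idx (t + 1) k) F}
    (h : Sh f₁ M s e X) {j : Fin (t + 1)} (hj : j ≠ s) {d : Fin k → F} (hd0 : d ≠ 0) (hdd : f₁ d d = 0) :
    Sh f₁ M s e (emb j (nd f₁ d) * X * emb j (nd f₁ d)) := by
  have h1 := C.data.uni
  obtain ⟨d', hd', hd'd, hdd'⟩ := exists_partner h1 hd0 hdd
  obtain ⟨w, hwd, -, hww⟩ := exists_aniso_pair h1 (by rw [Fintype.card_fin]; exact C.data.three) hdd hd' hd'd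
  obtain ⟨l, hl⟩ := exists_moved h1
  obtain ⟨c, hc0, hc⟩ := exists_skew h1.ne_refl h1.involutive
  have hσc : σ c = -c := by linear_combination hc
  have hlwd : f₁ (l • w) d = 0 := by rw [h1.smul_left, hwd, mul_zero]
  have hdw : f₁ d w = 0 := (eq_zero_comm h1).1 hwd
  have hdlw : f₁ d (l • w) = 0 := (eq_zero_comm h1).1 hlwd
  obtain ⟨ν₁, hν₁⟩ := exists_eich_scalar h1 w
  obtain ⟨ν₂, hν₂⟩ := exists_eich_scalar h1 (l • w)
  obtain ⟨G, hG⟩ : ∃ G, G = eich h1 hdd hwd hν₁ := ⟨_, rfl⟩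
  obtain ⟨H, hH⟩ : ∃ H, H = eich h1 hdd hlwd hν₂ := ⟨_, rfl⟩
  have hGi : Iso f₁ G := hG ▸ iso_eich h1 hdd hwd hν₁
  have hHi : Iso f₁ H := hH ▸ iso_eich h1 hdd hlwd hν₂
  have hGd : G.val *ᵥ d = d := by rw [hG, eich_mulVec, hdd, hdw]; simp
  have hHd : H.val *ᵥ d = d := by rw [hH, eich_mulVec, hdd, hdlw]; simp
  have hfix : ∀ {B : GL (Fin k) F}, Iso f₁ B → B.val *ᵥ d = d → B.val * nd f₁ d = nd f₁ d ∧
      nd f₁ d * B⁻¹.val = nd f₁ d ∧ B⁻¹.val * nd f₁ d = nd f₁ d := fun {B} hB hBd => by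
    have a1 : B.val * nd f₁ d = nd f₁ d := by rw [nd, mul_vecMulVec, hBd]
    refine ⟨a1, by rw [nd, vecMulVec_mul, uvec_vecMul_inv h1 hB, hBd], ?_⟩
    conv_lhs => rw [← a1, ← mul_assoc, Units.inv_mul, one_mul]
  obtain ⟨hGn, hnG, hGn'⟩ := hfix hGi hGd
  obtain ⟨hHn, hnH, -⟩ := hfix hHi hHd
  have hGH : (G.val - 1) * (H.val - 1) = (-f₁ (l • w) w) • nd f₁ d := Matrix.ext_iff_mulVec.2 fun x => by
    simp only [← mulVec_mulVec, sub_mulVec, one_mulVec, mulVec_sub, mulVec_add, mulVec_smul, smul_mulVec, nd_mulVec h1,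
      hG, hH, eich_mulVec, hdd, hdw, hdlw, hlwd, hwd, h1.add_left, sub_left' h1, h1.smul_left, mul_zero, add_zero, sub_zero]
    module
  have hHG : (H.val - 1) * (G.val - 1) = (-f₁ w (l • w)) • nd f₁ d := Matrix.ext_iff_mulVec.2 fun x => by
    simp only [← mulVec_mulVec, sub_mulVec, one_mulVec, mulVec_sub, mulVec_add, mulVec_smul, smul_mulVec, nd_mulVec h1,
      hG, hH, eich_mulVec, hdd, hdw, hdlw, hwd, h1.add_left, sub_left' h1, h1.smul_left, mul_zero, add_zero, sub_zero]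
    module
  have hinv : (G⁻¹.val - 1) * (H⁻¹.val - 1) = (-f₁ (l • w) w) • nd f₁ d := by
    calc (G⁻¹.val - 1) * (H⁻¹.val - 1) = G⁻¹.val * ((1 - G.val) * (1 - H.val)) * H⁻¹.val := by
          rw [show G⁻¹.val - 1 = G⁻¹.val * (1 - G.val) by rw [mul_sub, mul_one, Units.inv_mul],
            show H⁻¹.val - 1 = (1 - H.val) * H⁻¹.val by rw [sub_mul, one_mul, Units.mul_inv]]
          simp only [mul_assoc]
      _ = G⁻¹.val * ((G.val - 1) * (H.val - 1)) * H⁻¹.val := by
          rw [← neg_sub G.val, ← neg_sub H.val, neg_mul_neg]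
      _ = _ := by rw [hGH, mul_smul_comm, hGn', smul_mul_assoc, hnH]
  -- the three conjugations
  obtain ⟨n, hn⟩ : ∃ n, n = emb j (nd f₁ d) := ⟨_, rfl⟩
  rw [← hn]
  have hcm : ∀ B : GL (Fin k) F, Cm s (slotEl j B).val := fun B => by rw [slotEl_val]; exact cm_emb hj _
  have huv : (uT f₁ d c).val = 1 + c • nd f₁ d := uT_val h1 hdd c
  have hui : (uT f₁ d c)⁻¹.val = 1 - c • nd f₁ d := Units.inv_eq_of_mul_eq_one_right (by
    rw [huv, mul_sub, mul_one, add_mul, one_mul, smul_mul_smul_comm, nd_sq h1 hdd, smul_zero]; abel)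
  have hS1 := C.sh_sub hee (C.sh_conj h (C.slotT_mem j (uT_mem h1 hdd hc)) (hcm _)) h
  obtain ⟨Δ, hΔ⟩ : ∃ Δ, Δ = c • (n * X) - c • (X * n) - (c * c) • (n * X * n) := ⟨_, rfl⟩
  have e1 : (slotEl j (uT f₁ d c)).val * X * (slotEl j (uT f₁ d c))⁻¹.val - X = Δ := by
    rw [slotEl_val, slotEl_inv_val, huv, hui, emb_add, emb_one, sub_eq_add_neg (1 : Matrix (Fin k) (Fin k) F),
      ← neg_smul, emb_add, emb_one, emb_smul, emb_smul, ← hn, hΔ]
    simp only [add_mul, mul_add, one_mul, mul_one, smul_mul_assoc, mul_smul_comm, smul_smul]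
    module
  rw [e1] at hS1
  have hGm := C.slotEl_mem j hGi (hG ▸ det_eich h1 hdd hwd hν₁)
  have hHm := C.slotEl_mem j hHi (hH ▸ det_eich h1 hdd hlwd hν₂)
  have hS2 := C.sh_sub hee (C.sh_conj hS1 hGm (hcm _)) hS1
  rw [slotEl_val, slotEl_inv_val] at hS2
  have pG : ∀ Z, emb j G.val * (n * Z) = n * Z := fun Z => by rw [hn, ← mul_assoc, ← emb_mul, hGn]
  have qG : n * emb j G⁻¹.val = n := by rw [hn, ← emb_mul, hnG]
  have pH : ∀ Z, emb j H.val * (n * Z) = n * Z := fun Z => by rw [hn, ← mul_assoc, ← emb_mul, hHn]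
  have qH : n * emb j H⁻¹.val = n := by rw [hn, ← emb_mul, hnH]
  obtain ⟨P, hP⟩ : ∃ P, P = emb j G⁻¹.val - 1 := ⟨_, rfl⟩
  obtain ⟨Q, hQ⟩ : ∃ Q, Q = emb j G.val - 1 := ⟨_, rfl⟩
  have e2 : emb j G.val * Δ * emb j G⁻¹.val - Δ = c • (n * X * P) - c • (Q * X * n) := by
    rw [hΔ, hP, hQ]
    simp only [mul_sub, sub_mul, mul_smul_comm, smul_mul_assoc, mul_assoc, pG, qG, one_mul, mul_one]
    module
  rw [e2] at hS2
  have hS3 := C.sh_sub hee (C.sh_conj hS2 hHm (hcm _)) hS2
  rw [slotEl_val, slotEl_inv_val] at hS3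
  have e3 : emb j H.val * (c • (n * X * P) - c • (Q * X * n)) * emb j H⁻¹.val - (c • (n * X * P) - c • (Q * X * n)) =
      c • (n * X * (P * (emb j H⁻¹.val - 1))) - c • ((emb j H.val - 1) * Q * X * n) := by
    simp only [mul_sub, sub_mul, mul_smul_comm, smul_mul_assoc, mul_assoc, pH, qH, one_mul, mul_one]
    module
  rw [e3] at hS3
  have embsub : ∀ W : Matrix (Fin k) (Fin k) F, emb j W - 1 = emb j (W - 1) := fun W => by
    rw [← emb_one j]; exact ((embL j).map_sub W 1).symm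
  have eP : P * (emb j H⁻¹.val - 1) = (-f₁ (l • w) w) • n := by
    rw [hP, embsub, embsub, ← emb_mul, hinv, emb_smul, hn]
  have eQ : (emb j H.val - 1) * Q = (-f₁ w (l • w)) • n := by
    rw [hQ, embsub, embsub, ← emb_mul, hHG, emb_smul, hn]
  rw [eP, eQ, h1.smul_left, smul_right' h1] at hS3
  simp only [mul_smul_comm, smul_mul_assoc, smul_smul, ← sub_smul] at hS3
  obtain ⟨κ, hκ⟩ : ∃ κ, κ = c * -(l * f₁ w w) - c * -(σ l * f₁ w w) := ⟨_, rfl⟩
  rw [← hκ] at hS3
  have hκ0 : κ ≠ 0 := by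
    rw [hκ, show c * -(l * f₁ w w) - c * -(σ l * f₁ w w) = -(c * (l - σ l) * f₁ w w) by ring, neg_ne_zero]
    exact mul_ne_zero (mul_ne_zero hc0 hl) hww
  have hκσ : σ κ = κ := by
    rw [hκ]
    simp only [map_sub, map_mul, map_neg, h1.involutive, hσc, self_fixed h1]
    ring
  have := C.sh_smul he0 hee hS3 (r := κ⁻¹) (by rw [map_inv₀, hκσ])
  rwa [inv_smul_smul₀ hκ0] at this

/-- A non-zero shear descends to a product of roots. -/
theorem exists_roots (he0 : e ≠ 0) (hee : f₁ e e = 0) : ∀ (m : ℕ) (P S : Finset (Fin (t + 1)))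
    (d : Fin (t + 1) → Fin k → F) (Y : Matrix (Idx (t + 1) k) (Idx (t + 1) k) F), Pᶜ.card = m → S ⊆ P → s ∈ S →
    d s = e → (∀ l, d l ≠ 0 ∧ f₁ (d l) (d l) = 0) → (∀ l ∈ P, Cm l Y) → Y ≠ 0 → InX M (Y * nT f₁ S d) →
    ∃ (S' : Finset (Fin (t + 1))) (d' : Fin (t + 1) → Fin k → F) (μ : F), S ⊆ S' ∧ d' s = e ∧ (∀ l, d' l ≠ 0 ∧ f₁ (d' l) (d' l) = 0) ∧ μ ≠ 0 ∧ InX M (μ • nT f₁ S' d') := by
  classical
  have h1 := C.data.uni
  intro m
  induction m with
  | zero =>
    intro P S d Y hP _ _ hds hd hY hY0 hX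
    obtain ⟨c, hc⟩ := scalar_of_cm fun l => hY l (by
      have : Pᶜ = ∅ := Finset.card_eq_zero.1 hP
      by_contra hl
      exact Finset.notMem_empty l (this ▸ Finset.mem_compl.2 hl))
    refine ⟨S, d, c, subset_rfl, hds, hd, fun h0 => hY0 (by rw [hc, h0, zero_smul]), ?_⟩
    rwa [hc, smul_mul_assoc, one_mul] at hX
  | succ m ih =>
    intro P S d Y hP hSP hsS hds hd hY hY0 hX
    obtain ⟨j, hj⟩ : ∃ j, j ∈ Pᶜ := Finset.card_pos.1 (by omega)
    have hjP : j ∉ P := Finset.mem_compl.1 hj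
    have hcard : (insert j P)ᶜ.card = m := by
      rw [Finset.compl_insert, Finset.card_erase_of_mem hj]; omega
    have hjs : j ≠ s := fun h => hjP (h ▸ hSP hsS)
    have hjS : j ∉ S := fun h => hjP (hSP h)
    by_cases hcase : ∃ v, v ≠ 0 ∧ f₁ v v = 0 ∧ emb j (nd f₁ v) * Y * emb j (nd f₁ v) ≠ 0
    · obtain ⟨v, hv0, hvv, hne⟩ := hcase
      obtain ⟨v', -, hv'v, -⟩ := exists_partner h1 hv0 hvv
      have hSh : Sh f₁ M s e (Y * nT f₁ S d) := by
        refine ⟨⟨Y * nT f₁ (S.erase s) d, cm_mul (hY s (hSP hsS)) (cm_tmat (by simp)), ?_⟩, hX⟩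
        rw [mul_assoc, nT_erase hsS d, hds]
      have h' := (C.sh_corner he0 hee hSh hjs hv0 hvv).2
      obtain ⟨Y', hY'⟩ : ∃ Y', Y' = ptr j (uvec f₁ v') v' (emb j (nd f₁ v) * Y * emb j (nd f₁ v)) := ⟨_, rfl⟩
      have hYn := ptr_mul_nd h1 j hv'v Y
      rw [← hY'] at hYn
      have hcomm : emb j (nd f₁ v) * (Y * nT f₁ S d) * emb j (nd f₁ v) =
          emb j (nd f₁ v) * Y * emb j (nd f₁ v) * nT f₁ S d := by
        have hcT : Cm j (nT f₁ S d) := cm_tmat (by simp [hjS])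
        simp only [mul_assoc]
        rw [hcT]
      rw [hcomm, ← hYn, mul_assoc, nT_insert hjS] at h'
      obtain ⟨S', d', μ, h1', h2'⟩ := ih (insert j P) (insert j S) (Function.update d j v) Y' hcard
        (Finset.insert_subset_insert j hSP) (Finset.mem_insert_of_mem hsS)
        (by rw [Function.update_of_ne hjs.symm, hds]) (fun l => by
          by_cases hl : l = j
          · subst hl; simpa using ⟨hv0, hvv⟩
          · simpa [hl] using hd l)
        (fun l hl => by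
          rcases Finset.mem_insert.1 hl with rfl | hl
          · exact hY' ▸ cm_ptr_self _ _ _ _
          · have hlj : l ≠ j := fun h => hjP (h ▸ hl)
            exact hY' ▸ cm_ptr hlj.symm _ _ (cm_mul (cm_mul (cm_emb hlj.symm _) (hY l hl)) (cm_emb hlj.symm _)))
        (fun h0 => hne (by rw [← hYn, h0, zero_mul])) h'
      exact ⟨S', d', μ, (Finset.subset_insert j S).trans h1', h2'⟩
    · push Not at hcase
      exact ih (insert j P) S d Y hcard (hSP.trans (Finset.subset_insert j P)) hsS hds hd (fun l hl => by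
        rcases Finset.mem_insert.1 hl with rfl | hl
        · exact cm_of_corners h1 (by have := C.data.three; omega) hcase
        · exact hY l hl) hY0 hX

omit C in
lemma conj_tmat {g : GL (Idx (t + 1) k) F} {π : Equiv.Perm (Fin (t + 1))} {gs : Fin (t + 1) → GL (Fin k) F}
    (hg : TWData g π gs) (Ys : Fin (t + 1) → Matrix (Fin k) (Fin k) F) :
    g.val * tmat Ys * g⁻¹.val = tmat fun l => (gs l).val * Ys (π l) * (gs l)⁻¹.val := by
  refine mat_ext_pv fun xs => ?_
  rw [← mulVec_mulVec, ← mulVec_mulVec, hg.inv xs, tmat_mulVec, tmat_mulVec, hg]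
  simp [mulVec_mulVec, mul_assoc]

omit C in
/-- Products of roots in at least two slots give every transvection. -/
theorem full_of_roots : ∀ (T : ℕ) (M : Subgroup (GL (Idx (T + 2) k) F)), UCtx σ f₁ M → ∀ (m : ℕ)
    (S : Finset (Fin (T + 2))) (d : Fin (T + 2) → Fin k → F) (μ : F), Sᶜ.card = m → 2 ≤ S.card →
    (∀ l, d l ≠ 0 ∧ f₁ (d l) (d l) = 0) → μ ≠ 0 → InX M (μ • nT f₁ S d) →
    ∀ v, tform σ f₁ (T + 2) v v = 0 → UFull σ (tform σ f₁ (T + 2)) M v := by
  classical
  intro T M C' m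
  induction m with
  | zero =>
    intro S d μ hS _ hd hμ hX
    have hSu : S = Finset.univ := by
      rw [← compl_compl S, Finset.card_eq_zero.1 hS, Finset.compl_empty]
    obtain ⟨p, hp⟩ : ∃ p, p = pv d := ⟨_, rfl⟩
    have hN : nT f₁ S d = vecMulVec p (uvec (tform σ f₁ (T + 2)) p) := by
      rw [hp, uvec_pv C'.data.uni, ← tmat_vecMulVec, nT, hSu]
      simp [nd]
    have hpp : tform σ f₁ (T + 2) p p = 0 := by
      rw [hp, tform_pv C'.data.uni]; exact Finset.prod_eq_zero (Finset.mem_univ 0) (hd 0).2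
    obtain ⟨g, hg, hgv⟩ := hX
    have hgu : g = uT (tform σ f₁ (T + 2)) p μ := Units.ext (by rw [hgv, uT_val C'.uni hpp, hN])
    have hp0 : p ≠ 0 := hp ▸ pv_ne_zero fun l => (hd l).1
    have hμs : μ + σ μ = 0 := by
      obtain ⟨x, hx⟩ := exists_dual C'.uni hp0 1
      have := C'.iso g hg x x
      rw [hgu, uT_mulVec C'.uni hpp] at this
      simp only [C'.uni.add_left, Unitary.add_right' C'.uni, C'.uni.smul_left, smul_right' C'.uni, hpp, hx,
        show tform σ f₁ (T + 2) p x = 1 by rw [C'.uni.herm, hx, map_one], map_mul, map_one, mul_one] at this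
      linear_combination this
    refine C'.full_of_pure (fun l => (hd l).1) (fun l => (hd l).2) ⟨hp ▸ hpp, fun c hc => ?_⟩
    have h0 : (0 : Fin (T + 2)) ∈ S := hSu ▸ Finset.mem_univ _
    have hSh : Sh f₁ M 0 (d 0) (μ • nT f₁ S d) :=
      ⟨⟨μ • nT f₁ (S.erase 0) d, cm_smul (cm_tmat (by simp)) μ, by rw [smul_mul_assoc, ← nT_erase h0]⟩,
        g, hg, hgv⟩
    obtain ⟨-, g', hg', hgv'⟩ := C'.sh_smul (hd 0).1 (hd 0).2 hSh (r := c / μ) (by
      rw [map_div₀, show σ c = -c by linear_combination hc, show σ μ = -μ by linear_combination hμs,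
        neg_div_neg_eq])
    rw [← hp, show uT (tform σ f₁ (T + 2)) p c = g' from Units.ext (by
      rw [hgv', uT_val C'.uni hpp, hN, smul_smul, div_mul_cancel₀ _ hμ])]
    exact hg'
  | succ m ih =>
    intro S d μ hS h2 hd hμ hX
    have h1 := C'.data.uni
    -- all roots with these slots
    have hmove : ∀ d' : Fin (T + 2) → Fin k → F, (∀ l, d' l ≠ 0 ∧ f₁ (d' l) (d' l) = 0) →
        ∃ μ' : F, μ' ≠ 0 ∧ InX M (μ' • nT f₁ S d') := by
      intro d' hd'
      have key : ∀ P : Finset (Fin (T + 2)), ∃ μ' : F, μ' ≠ 0 ∧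
          InX M (μ' • nT f₁ S fun l => if l ∈ P then d' l else d l) := by
        intro P
        induction P using Finset.induction_on with
        | empty => exact ⟨μ, hμ, by simpa using hX⟩
        | insert j P hj ih' =>
          obtain ⟨μ', hμ', g, hg, hgv⟩ := ih'
          by_cases hjS : j ∈ S
          swap
          · refine ⟨μ', hμ', g, hg, ?_⟩
            rw [hgv]
            congr 2
            rw [nT, nT]
            congr 1
            funext l
            by_cases hl : l = j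
            · subst hl; simp [hjS]
            · simp [hl]
          obtain ⟨B, hB, hBi, c, hc, hBu⟩ := C'.exists_slot_move j (hd j).1 (hd' j).1 (hd j).2 (hd' j).2
          refine ⟨(c * σ c) * μ', mul_ne_zero (mul_ne_zero hc ((map_ne_zero_iff _ σ.injective).2 hc)) hμ',
            slotEl j B * g * (slotEl j B)⁻¹, mul_mem (mul_mem hB hg) (inv_mem hB), ?_⟩
          rw [Units.val_mul, Units.val_mul, hgv, mul_add, mul_one, add_mul, Units.mul_inv, mul_smul_comm,
            smul_mul_assoc, slotEl_val, slotEl_inv_val, nT, emb_mul_tmat, tmat_mul_emb, Function.update_idem]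
          congr 1
          have e : (fun l => if l ∈ S then nd f₁ (if l ∈ insert j P then d' l else d l) else 1) =
              Function.update (fun l => if l ∈ S then nd f₁ (if l ∈ P then d' l else d l) else 1) j (nd f₁ (d' j)) := by
            funext l
            by_cases hl : l = j
            · subst hl; simp [hjS]
            · simp [hl]
          rw [Function.update_self, if_pos hjS, if_neg hj, nd_conj h1 hBi, hBu, nd_smul h1, tmat_update_smul, nT, e,
            smul_smul, mul_comm μ']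
      simpa using key Finset.univ
    obtain ⟨i, hi⟩ : ∃ i, i ∈ Sᶜ := Finset.card_pos.1 (by omega)
    have hiS : i ∉ S := Finset.mem_compl.1 hi
    obtain ⟨s, hs⟩ : S.Nonempty := Finset.card_pos.1 (by omega)
    obtain ⟨l₀, hl₀⟩ : (S.erase s).Nonempty := Finset.card_pos.1 (by rw [Finset.card_erase_of_mem hs]; omega)
    obtain ⟨hl₀s, hl₀S⟩ := Finset.mem_erase.1 hl₀
    have hsi : s ≠ i := fun h => hiS (h ▸ hs)
    have hl₀i : l₀ ≠ i := fun h => hiS (h ▸ hl₀S)
    -- vectors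
    have hdk : 2 ≤ Fintype.card (Fin k) := by rw [Fintype.card_fin]; have := C'.data.three; omega
    obtain ⟨u, hu0, huu⟩ := exists_iso h1 hdk
    obtain ⟨u', hu'u', hu'u, huu'⟩ := exists_partner h1 hu0 huu
    have hu0' : u' ≠ 0 := fun h => by rw [h, zero_left' h1] at hu'u; exact zero_ne_one hu'u
    obtain ⟨d2, hd2⟩ : ∃ d2 : Fin (T + 2) → Fin k → F, d2 = fun l => if l ∈ S.erase s then u' else u := ⟨_, rfl⟩
    have hd2' : ∀ l, d2 l ≠ 0 ∧ f₁ (d2 l) (d2 l) = 0 := fun l => by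
      rw [hd2]; dsimp only; split_ifs
      exacts [⟨hu0', hu'u'⟩, ⟨hu0, huu⟩]
    obtain ⟨μ₁, hμ₁, hX1⟩ := hmove (fun _ => u) fun _ => ⟨hu0, huu⟩
    obtain ⟨μ₂, hμ₂, g₂, hg₂, hg₂v⟩ := hmove (fun l => d2 (Equiv.swap s i l)) fun l => hd2' _
    obtain ⟨g, hg, gs, hgd, -, hgs⟩ := C'.exists_swap hsi ⟨l₀, hl₀s, hl₀i⟩
    obtain ⟨S₂, hS₂⟩ : ∃ S₂, S₂ = insert i (S.erase s) := ⟨_, rfl⟩
    obtain ⟨t₂, ht₂, ht₂v⟩ : InX M (μ₂ • nT f₁ S₂ d2) := by
      refine ⟨g * g₂ * g⁻¹, mul_mem (mul_mem hg hg₂) (inv_mem hg), ?_⟩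
      rw [Units.val_mul, Units.val_mul, hg₂v, mul_add, mul_one, add_mul, Units.mul_inv, mul_smul_comm,
        smul_mul_assoc, nT, conj_tmat hgd, nT]
      congr 3
      funext l
      rw [hgs, hS₂, Equiv.swap_apply_self]
      by_cases hls : l = s
      · subst hls; simp [hiS, hsi]
      by_cases hli : l = i
      · subst hli; simp [hs]
      · simp [Equiv.swap_apply_of_ne_of_ne hls hli, hls, hli]
    have hsS₂ : s ∉ S₂ := by simp [hS₂, hsi]
    have hiS₂ : i ∈ S₂ := hS₂ ▸ Finset.mem_insert_self _ _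
    have hSh : Sh f₁ M s u (μ₁ • nT f₁ S fun _ => u) :=
      ⟨⟨μ₁ • nT f₁ (S.erase s) (fun _ => u), cm_smul (cm_tmat (by simp)) μ₁, by
        rw [smul_mul_assoc, ← nT_erase hs (fun _ => u)]⟩, hX1⟩
    have hcm2 : Cm s t₂.val := by
      rw [ht₂v]
      intro W
      have hc : Cm s (nT f₁ S₂ d2) := cm_tmat (if_neg hsS₂)
      rw [mul_add, add_mul, mul_one, one_mul, cm_smul hc μ₂ W]
    obtain ⟨T1, hT1⟩ : ∃ T1 : Fin (T + 2) → Matrix (Fin k) (Fin k) F, T1 = fun l =>
        if l ∈ S.erase s then vecMulVec u' (uvec f₁ u) else if l ∈ insert i S then nd f₁ u else 1 := ⟨_, rfl⟩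
    obtain ⟨T2, hT2⟩ : ∃ T2 : Fin (T + 2) → Matrix (Fin k) (Fin k) F, T2 = fun l =>
        if l ∈ S.erase s then vecMulVec u (uvec f₁ u') else if l ∈ insert i S then nd f₁ u else 1 := ⟨_, rfl⟩
    have hZ : Sh f₁ M s u ((μ₂ * μ₁) • (tmat T1 - tmat T2)) := by
      have hsub := C'.sh_sub huu (C'.sh_conj hSh ht₂ hcm2) hSh
      have hii : nd f₁ (d2 i) * nd f₁ (d2 i) = 0 := nd_sq h1 (hd2' i).2
      have hsq2 : nT f₁ S₂ d2 * nT f₁ S₂ d2 = 0 := by
        rw [nT, tmat_mul]
        refine tmat_eq_zero (i := i) ?_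
        simp only [hiS₂, if_true]
        exact hii
      have hsq : nT f₁ S₂ d2 * nT f₁ S (fun _ => u) * nT f₁ S₂ d2 = 0 := by
        rw [nT, nT, tmat_mul, tmat_mul]
        refine tmat_eq_zero (i := i) ?_
        simp only [hiS₂, hiS, if_true, if_false, mul_one]
        exact nd_sq h1 (hd2' i).2
      have hinv : t₂⁻¹.val = 1 - μ₂ • nT f₁ S₂ d2 := Units.inv_eq_of_mul_eq_one_right (by
        rw [ht₂v, mul_sub, mul_one, add_mul, one_mul, smul_mul_smul_comm, hsq2, smul_zero]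
        abel)
      rw [ht₂v, hinv] at hsub
      have e1 : nT f₁ S₂ d2 * nT f₁ S (fun _ => u) = tmat T1 := by
        rw [nT, nT, tmat_mul, hT1]
        congr 1
        funext l
        by_cases hls : l = s
        · subst hls; simp [hsS₂, hs]
        by_cases hlS : l ∈ S
        · simp [hlS, hls, hS₂, hd2, nd_mul_nd h1, huu']
        by_cases hli : l = i
        · subst hli; simp [hiS, hiS₂, hd2]
        · simp [hlS, hls, hli, hS₂]
      have e2 : nT f₁ S (fun _ => u) * nT f₁ S₂ d2 = tmat T2 := by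
        rw [nT, nT, tmat_mul, hT2]
        congr 1
        funext l
        by_cases hls : l = s
        · subst hls; simp [hsS₂, hs]
        by_cases hlS : l ∈ S
        · simp [hlS, hls, hS₂, hd2, nd_mul_nd h1, hu'u]
        by_cases hli : l = i
        · subst hli; simp [hiS, hiS₂, hd2]
        · simp [hlS, hls, hli, hS₂]
      rw [e1] at hsq
      convert hsub using 1
      simp only [mul_sub, sub_mul, mul_add, add_mul, one_mul, mul_one, smul_mul_assoc, mul_smul_comm, smul_smul, hsq,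
        smul_zero, e1, e2]
      module
    obtain ⟨lam, hlam⟩ := exists_moved h1
    obtain ⟨α, hα⟩ : ∃ α : Fin (T + 2) → F, α = fun l => if l = l₀ then lam else 1 := ⟨_, rfl⟩
    have hd'' : ∀ l, ∃ w, w ≠ 0 ∧ f₁ w w = 0 ∧ f₁ w u = α l ∧ f₁ w u' = 1 := fun l => by
      obtain ⟨z, hzu, hzu', hzz⟩ := exists_norm_pair h1 (by rw [Fintype.card_fin]; exact C'.data.three) huu hu'u' hu'u
        (γ := -(α l + σ (α l))) (by rw [map_neg, map_add, h1.involutive, add_comm])
      have hw : f₁ (α l • u' + u + z) u' = 1 := by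
        simp only [h1.add_left, h1.smul_left, hu'u', huu', hzu']; ring
      refine ⟨α l • u' + u + z, fun h0 => by rw [h0, zero_left' h1] at hw; exact zero_ne_one hw, ?_, ?_, hw⟩
      · simp only [h1.add_left, h1.smul_left, Unitary.add_right' h1, smul_right' h1, huu, hu'u', hu'u, huu', hzz,
          hzu, hzu', (eq_zero_comm h1).1 hzu, (eq_zero_comm h1).1 hzu']
        ring
      · simp only [h1.add_left, h1.smul_left, huu, hu'u, hzu]; ring
    choose w hw0 hww hwu hwu' using hd''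
    have hloop : ∀ P : Finset (Fin (T + 2)), P ⊆ S.erase s → Sh f₁ M s u ((μ₂ * μ₁) •
        (tmat (fun l => if l ∈ P then α l • nd f₁ (w l) else T1 l) -
          tmat fun l => if l ∈ P then σ (α l) • nd f₁ (w l) else T2 l)) := by
      intro P
      induction P using Finset.induction_on with
      | empty => intro _; simpa using hZ
      | insert j P hj ih' =>
        intro hP
        have hjJ : j ∈ S.erase s := hP (Finset.mem_insert_self _ _)
        have h' := C'.sh_corner hu0 huu (ih' fun l hl => hP (Finset.mem_insert_of_mem hl))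
          (Finset.ne_of_mem_erase hjJ) (hw0 j) (hww j)
        simp only [mul_smul_comm, smul_mul_assoc, mul_sub, sub_mul, emb_mul_tmat, tmat_mul_emb,
          Function.update_idem, Function.update_self, if_neg hj, hT1, hT2, if_pos hjJ] at h'
        have a1 : nd f₁ (w j) * vecMulVec u' (uvec f₁ u) * nd f₁ (w j) = α j • nd f₁ (w j) := by
          rw [nd, vecMulVec_mul_vecMulVec, vecMulVec_smul, smul_mul_assoc, vecMulVec_mul_vecMulVec,
            vecMulVec_smul, smul_smul, uvec_dot h1, uvec_dot h1, hwu, h1.herm u', hwu', map_one, one_mul]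
        have a2 : nd f₁ (w j) * vecMulVec u (uvec f₁ u') * nd f₁ (w j) = σ (α j) • nd f₁ (w j) := by
          rw [nd, vecMulVec_mul_vecMulVec, vecMulVec_smul, smul_mul_assoc, vecMulVec_mul_vecMulVec,
            vecMulVec_smul, smul_smul, uvec_dot h1, uvec_dot h1, hwu', h1.herm u, hwu, mul_one]
        rw [a1, a2] at h'
        convert h' using 4
        · funext l
          by_cases hl : l = j
          · subst hl; simp
          · simp [hl, hT1]
        · funext l
          by_cases hl : l = j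
          · subst hl; simp
          · simp [hl, hT2]
    have hfin := (hloop _ subset_rfl).2
    obtain ⟨d3, hd3⟩ : ∃ d3 : Fin (T + 2) → Fin k → F, d3 = fun l => if l ∈ S.erase s then w l else u := ⟨_, rfl⟩
    have e3 : ∀ b : Fin (T + 2) → F, (∀ l, l ≠ l₀ → b l = 1) → ∀ T' : Fin (T + 2) → Matrix (Fin k) (Fin k) F,
        (∀ l, l ∉ S.erase s → T' l = if l ∈ insert i S then nd f₁ u else 1) →
        tmat (fun l => if l ∈ S.erase s then b l • nd f₁ (w l) else T' l) = b l₀ • nT f₁ (insert i S) d3 := by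
      intro b hb T' hT'
      rw [nT, show b l₀ = ∏ l, b l by
        rw [Finset.prod_eq_single l₀ (fun l _ hl => hb l hl) (fun h => absurd (Finset.mem_univ l₀) h)], ← tmat_smul]
      congr 1
      funext l
      by_cases hl : l ∈ S.erase s
      · rw [if_pos hl, if_pos (Finset.mem_insert_of_mem (Finset.mem_of_mem_erase hl)), hd3]
        dsimp only
        rw [if_pos hl]
      · rw [if_neg hl, hT' l hl, hb l (fun h => hl (h ▸ hl₀)), one_smul, hd3]
        dsimp only
        rw [if_neg hl]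
    rw [e3 α (fun l hl => by rw [hα]; simp [hl]) T1 (fun l hl => by rw [hT1]; simp [hl]),
      e3 (fun l => σ (α l)) (fun l hl => by rw [hα]; simp [hl]) T2 (fun l hl => by rw [hT2]; simp [hl]),
      ← sub_smul, smul_smul] at hfin
    refine ih (insert i S) d3 _ ?_ (by rw [Finset.card_insert_of_notMem hiS]; omega) (fun l => ?_) ?_ hfin
    · rw [Finset.compl_insert, Finset.card_erase_of_mem hi]; omega
    · rw [hd3]; dsimp only; split_ifs
      exacts [⟨hw0 l, hww l⟩, ⟨hu0, huu⟩]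
    · refine mul_ne_zero (mul_ne_zero hμ₂ hμ₁) ?_
      simpa [hα] using hlam

end UCtx

/-- The shears along a slot are scalar. -/
theorem scalar_shear [Finite F] {T : ℕ} {M : Subgroup (GL (Idx (T + 2) k) F)} (C : UCtx σ f₁ M)
    (hne : NotFull σ f₁ M) {s : Fin (T + 2)} {e : Fin k → F} (he0 : e ≠ 0) (hee : f₁ e e = 0)
    {S : (Fin (k ^ (T + 1)) → F) →ₗ[F] (Fin (k ^ (T + 1)) → F)}
    (h : InL f₁ (M.map (slotG s).toMonoidHom) e S) : ∃ c : F, ∀ x, S x = c • x := by
  classical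
  have h1 := C.data.uni
  obtain ⟨R, hR⟩ : ∃ R : Matrix (Idx (T + 2) k) (Idx (T + 2) k) F ≃ₐ[F]
      Matrix (Fin (k ^ (T + 1)) × Fin k) (Fin (k ^ (T + 1)) × Fin k) F,
      R = Matrix.reindexAlgEquiv F F (slotE s) := ⟨_, rfl⟩
  have hRemb : ∀ W, R (emb s W) = (1 : Matrix (Fin (k ^ (T + 1))) (Fin (k ^ (T + 1))) F) ⊗ₖ W := fun W => by
    ext p p'
    obtain ⟨a, rfl⟩ := (slotE s).surjective p
    obtain ⟨b, rfl⟩ := (slotE s).surjective p'
    rw [hR, Matrix.coe_reindexAlgEquiv, Matrix.reindex_apply, Matrix.submatrix_apply, Equiv.symm_apply_apply,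
      Equiv.symm_apply_apply, slotE_apply, slotE_apply, kroneckerMap_apply, Matrix.one_apply]
    simp only [emb, update_self_eq]
    simp only [EmbeddingLike.apply_eq_iff_eq, funext_iff, ite_mul, one_mul, zero_mul]
    refine if_congr ⟨fun h j => h _ (Fin.succAbove_ne s j), fun h l hl => ?_⟩ rfl rfl
    obtain ⟨j, rfl⟩ := Fin.exists_succAbove_eq hl
    exact h j
  obtain ⟨_, ⟨g, hg, rfl⟩, hgv⟩ := h
  obtain ⟨Y, hY⟩ : ∃ Y, Y = R.symm (LinearMap.toMatrix' S ⊗ₖ (1 : Matrix (Fin k) (Fin k) F)) := ⟨_, rfl⟩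
  have hcm : Cm s Y := fun W => R.injective (by
    rw [map_mul, map_mul, hY, AlgEquiv.apply_symm_apply, hRemb, ← mul_kronecker_mul, ← mul_kronecker_mul,
      one_mul, mul_one, one_mul, mul_one])
  have hX : InX M (Y * emb s (nd f₁ e)) := by
    refine ⟨g, hg, R.injective ?_⟩
    rw [map_add, map_one, map_mul, hY, AlgEquiv.apply_symm_apply, hRemb, ← mul_kronecker_mul, mul_one, one_mul]
    refine Matrix.ext_iff_mulVec.2 fun v => ?_
    rw [add_mulVec, one_mulVec, show R g.val = (slotG s g).val from by rw [hR]; rfl]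
    refine (hgv v).trans (congrArg (v + ·) ?_)
    exact LinearMap.congr_fun (UnitT.lin_ext (L := (ptL e).comp (S.comp (ctr f₁ e)))
      (L' := Matrix.mulVecLin (LinearMap.toMatrix' S ⊗ₖ nd f₁ e)) fun x u => by
        change pt (S (ctr f₁ e (pt x u))) e = (LinearMap.toMatrix' S ⊗ₖ nd f₁ e) *ᵥ pt x u
        rw [show (LinearMap.toMatrix' S ⊗ₖ nd f₁ e) *ᵥ pt x u = pt (LinearMap.toMatrix' S *ᵥ x) (nd f₁ e *ᵥ u) from
          TensorRefine.kronecker_mulVec _ _ x u, LinearMap.toMatrix'_mulVec, nd_mulVec h1, (tens h1 s).ctr_pt,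
          map_smul, pt_smul_left, pt_smul_right]) v
  suffices hall : ∀ j, Cm j Y by
    obtain ⟨c, hc⟩ := scalar_of_cm hall
    refine ⟨c, fun x => pt_injective he0 ?_⟩
    have e1 := congrArg (fun Z => R Z *ᵥ pt x e) hc
    simp only [hY, AlgEquiv.apply_symm_apply, map_smul, map_one, smul_mulVec, one_mulVec] at e1
    rw [show (LinearMap.toMatrix' S ⊗ₖ (1 : Matrix (Fin k) (Fin k) F)) *ᵥ pt x e =
      pt (LinearMap.toMatrix' S *ᵥ x) ((1 : Matrix (Fin k) (Fin k) F) *ᵥ e) from TensorRefine.kronecker_mulVec _ _ x e,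
      LinearMap.toMatrix'_mulVec, one_mulVec] at e1
    rw [ptL_apply, ptL_apply, e1, pt_smul_left]
  intro j
  by_cases hjs : j = s
  · subst hjs; exact hcm
  by_contra hj
  obtain ⟨v, hv0, hvv, hne'⟩ : ∃ v, v ≠ 0 ∧ f₁ v v = 0 ∧ emb j (nd f₁ v) * Y * emb j (nd f₁ v) ≠ 0 := by
    by_contra hno
    push Not at hno
    exact hj (cm_of_corners h1 (by have := C.data.three; omega) hno)
  obtain ⟨v', -, hv'v, -⟩ := exists_partner h1 hv0 hvv
  have h' := (C.sh_corner he0 hee ⟨⟨Y, hcm, rfl⟩, hX⟩ hjs hv0 hvv).2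
  obtain ⟨Y', hY'⟩ : ∃ Y', Y' = ptr j (uvec f₁ v') v' (emb j (nd f₁ v) * Y * emb j (nd f₁ v)) := ⟨_, rfl⟩
  have hYn := ptr_mul_nd h1 j hv'v Y
  rw [← hY'] at hYn
  obtain ⟨d, hd⟩ : ∃ d : Fin (T + 2) → Fin k → F, d = fun l => if l = j then v else e := ⟨_, rfl⟩
  have hT : emb j (nd f₁ v) * emb s (nd f₁ e) = nT f₁ {s, j} d := by
    rw [emb_eq_tmat s, emb_mul_tmat, nT]
    congr 1
    funext l
    by_cases hl : l = j
    · subst hl; simp [hd, hjs]
    by_cases hls : l = s
    · subst hls; simp [hd, hl]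
    · simp [hl, hls]
  have hcomm : emb j (nd f₁ v) * (Y * emb s (nd f₁ e)) * emb j (nd f₁ v) =
      emb j (nd f₁ v) * Y * emb j (nd f₁ v) * emb s (nd f₁ e) := by
    simp only [mul_assoc]
    rw [emb_comm hjs]
  rw [hcomm, ← hYn, mul_assoc, hT] at h'
  obtain ⟨S', d', μ, hsub, -, hd', hμ, hX'⟩ := C.exists_roots (s := s) he0 hee _ {s, j} {s, j} d Y' rfl subset_rfl
    (by simp) (by simp [hd, Ne.symm hjs]) (fun l => by
      rw [hd]; dsimp only; split_ifs
      exacts [⟨hv0, hvv⟩, ⟨he0, hee⟩])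
    (fun l hl => by
      rcases Finset.mem_insert.1 hl with rfl | hl
      · exact hY' ▸ cm_ptr hjs _ _ (cm_mul (cm_mul (cm_emb hjs _) hcm) (cm_emb hjs _))
      · rw [Finset.mem_singleton] at hl
        subst hl
        exact hY' ▸ cm_ptr_self _ _ _ _)
    (fun h0 => hne' (by rw [← hYn, h0, zero_mul])) h'
  exact hne (UCtx.full_of_roots T M C _ S' d' μ rfl
    ((Finset.card_pair (Ne.symm hjs)).symm.le.trans (Finset.card_le_card hsub)) hd' hμ hX')

end CfsgLib.Classical22.UWr
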