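/-
The abstract slot: shears are scalar, so elements fixing an isotropic pure subspace pointwise are controlled.
-/
import Cfsg.Agent.Lib.Classical22.UnitTensor.Flag
import Cfsg.Agent.Lib.Classical22.UnitWreath.Shear

set_option autoImplicit false
set_option linter.unusedSectionVars false
set_option linter.unusedSimpArgs false
set_option maxHeartbeats 1000000

namespace CfsgLib.Classical22.UWr

open Matrix Kronecker CfsgLib.Transvec CfsgLib.Transvec.Unitary CfsgLib.Classical22.TensorMax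
open CfsgLib.Classical22.TensorMax.SympO
open CfsgLib.Classical22.TensorMax.SpO (kr kr_apply isKron_kr glOfLin glOfLin_mulVec)
open CfsgLib.Classical22.TensorMax.UnitT (Tens InL ctr mem_of_ctr_zero pt_sub_left pt_neg_left exists_partner
  exists_moved exists_eich_scalar eich eich_mulVec iso_eich det_eich lin_ext exists_dual glIso glIso_mulVec)
open CfsgLib.Classical22.TWMax (mv mem_mv mv_eq_move mv_kr_scalar gim sub_mem_mv)
open scoped MatrixGroups

variable {F : Type*} [Field F] [Finite F] {a b : ℕ}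

/-- A group in the coordinates of one slot. -/
structure SCtx (σ : F ≃+* F) (f : (Fin a × Fin b → F) → (Fin a × Fin b → F) → F)
    (f₁ : (Fin a → F) → (Fin a → F) → F) (f₂ : (Fin b → F) → (Fin b → F) → F)
    (M : Subgroup (GL (Fin a × Fin b) F)) : Prop where
  tens : Tens σ f f₁ f₂
  dimA : 2 ≤ a
  three : 3 ≤ b
  iso : ∀ {g}, g ∈ M → Iso f g
  krB : ∀ g : GL (Fin b) F, Iso f₂ g → g.val.det = 1 → kr (1 : GL (Fin a) F) g ∈ M
  scalar : ∀ e, e ≠ 0 → f₂ e e = 0 → ∀ S, InL f₂ M e S → ∃ c : F, ∀ x, S x = c • x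

variable {σ : F ≃+* F} {f : (Fin a × Fin b → F) → (Fin a × Fin b → F) → F} {f₁ : (Fin a → F) → (Fin a → F) → F}
  {f₂ : (Fin b → F) → (Fin b → F) → F} {M : Subgroup (GL (Fin a × Fin b) F)} {e : Fin b → F}

section

variable (T : Tens σ f f₁ f₂)
include T

/-- The root element along `w` on the second factor, applied to a vector. -/
lemma eichB_apply (hee : f₂ e e = 0) {w : Fin b → F} (hwe : f₂ w e = 0) {ν : F} (hν : ν + σ ν + f₂ w w = 0)
    (v : Fin a × Fin b → F) : (kr (1 : GL (Fin a) F) (eich T.right hee hwe hν)).val *ᵥ v =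
      v + pt (ctr f₂ e v) w - pt (ctr f₂ w v) e + ν • pt (ctr f₂ e v) e :=
  Eq.trans (Matrix.mulVecLin_apply _ _).symm <|
  LinearMap.congr_fun (lin_ext (L := Matrix.mulVecLin (kr (1 : GL (Fin a) F) (eich T.right hee hwe hν)).val)
    (L' := LinearMap.id + (ptL w).comp (ctr f₂ e) - (ptL e).comp (ctr f₂ w) + ν • (ptL e).comp (ctr f₂ e))
    fun x z => by
      change (kr (1 : GL (Fin a) F) (eich T.right hee hwe hν)).val *ᵥ pt x z =
        pt x z + pt (ctr f₂ e (pt x z)) w - pt (ctr f₂ w (pt x z)) e + ν • pt (ctr f₂ e (pt x z)) e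
      rw [kr_apply, Units.val_one, one_mulVec, eich_mulVec, T.ctr_pt, T.ctr_pt]
      simp only [pt_add_right, pt_sub_right, pt_smul_right, pt_smul_left, smul_smul]) v

end

section

variable (C : SCtx σ f f₁ f₂ M) (he0 : e ≠ 0) (hee : f₂ e e = 0)
include C he0 hee

/-- The components of a shear along a pure subspace are scalar. -/
theorem shear_scalar {g : GL (Fin a × Fin b) F} (hg : g ∈ M) (hfix : ∀ x, g.val *ᵥ pt x e = pt x e)
    (hsh : ∀ d, f₂ d e = 0 → ∀ x, ∃ y, g.val *ᵥ pt x d = pt x d + pt y e) (d : Fin b → F) (hd : f₂ d e = 0) :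
    ∃ κ : F, ∀ x, g.val *ᵥ pt x d = pt x d + κ • pt x e := by
  have T := C.tens
  have h1 := T.left
  obtain ⟨e', he', h21, h21'⟩ := exists_partner T.right he0 hee
  obtain ⟨k, hk⟩ := exists_moved h1
  have hgi := C.iso hg
  have hctr : ∀ v, ctr f₂ e (g.val *ᵥ v) = ctr f₂ e v := fun v => by
    by_contra hne
    obtain ⟨y, hy⟩ := (h1.nondegenerate _ (sub_ne_zero.mpr hne)).2
    exact hy (by rw [sub_left' h1, T.ctr_image hgi (hfix y) v, sub_self])
  -- the components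
  obtain ⟨K, hK⟩ : ∃ K : (Fin b → F) → ((Fin a → F) →ₗ[F] (Fin a → F)),
      ∀ d x, K d x = ctr f₂ e' (g.val *ᵥ pt x d - pt x d) :=
    ⟨fun d => (ctr f₂ e').comp ((Matrix.mulVecLin g.val).comp (ptL d) - ptL d), fun d x => rfl⟩
  have hKd : ∀ d, f₂ d e = 0 → ∀ x, g.val *ᵥ pt x d = pt x d + pt (K d x) e := fun d hd x => by
    obtain ⟨y, hy⟩ := hsh d hd x
    rw [hy, hK, hy, add_sub_cancel_left, T.ctr_pt, h21', one_smul]
  have hμ : ∀ w, f₂ w e = 0 → ∃ μ : F, ∀ x y, f₁ (K w x) y - f₁ x (K w y) = μ * f₁ x y := by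
    intro w hwe
    obtain ⟨ν, hν⟩ := exists_eich_scalar T.right w
    obtain ⟨X, hX⟩ : ∃ X, X = kr (1 : GL (Fin a) F) (eich T.right hee hwe hν) := ⟨_, rfl⟩
    have hXM : X ∈ M := hX ▸ C.krB _ (iso_eich T.right hee hwe hν) (det_eich T.right hee hwe hν)
    have hXv := fun v => eichB_apply C.tens hee hwe hν v
    rw [← hX] at hXv
    obtain ⟨L, hL⟩ : ∃ L : (Fin a → F) →ₗ[F] (Fin a → F),
        ∀ x, L x = ctr f₂ w (g.val *ᵥ pt x e' - pt x e') :=
      ⟨(ctr f₂ w).comp ((Matrix.mulVecLin g.val).comp (ptL e') - ptL e'), fun x => rfl⟩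
    have hdiff : ∀ v y, f₁ (ctr f₂ w (g.val *ᵥ v - v)) y = -f₁ (ctr f₂ e v) (K w y) := fun v y => by
      have e1 : pt y w = g.val *ᵥ pt y w - pt (K w y) e := by rw [hKd w hwe, add_sub_cancel_right]
      have e2 : f (g.val *ᵥ v) (pt y w) = f v (pt y w) - f₁ (ctr f₂ e v) (K w y) := by
        conv_lhs => rw [e1, sub_right' T.uni, hgi, T.f_pt (g.val *ᵥ v), hctr]
      rw [map_sub, sub_left' h1, ← T.f_pt, ← T.f_pt, e2]
      ring
    have hLe : ∀ v, ctr f₂ w (g.val *ᵥ v - v) = L (ctr f₂ e v) := fun v => by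
      by_contra hne
      obtain ⟨y, hy⟩ := (h1.nondegenerate _ (sub_ne_zero.mpr hne)).2
      refine hy ?_
      rw [sub_left' h1, hdiff, hL, hdiff, T.ctr_pt, h21, one_smul, sub_self]
    obtain ⟨z, hz⟩ : ∃ z, z = (X * g)⁻¹ * (g * X) := ⟨_, rfl⟩
    have hzM : z ∈ M := hz ▸ mul_mem (inv_mem (mul_mem hXM hg)) (mul_mem hg hXM)
    have hXW : ∀ x, (X * g).val *ᵥ pt x e = pt x e := fun x => by
      rw [Units.val_mul, ← mulVec_mulVec, hfix, hXv, T.ctr_pt, T.ctr_pt, hee, (eq_zero_comm T.right).1 hwe]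
      simp [pt_zero_left]
    have hzv : ∀ v, z.val *ᵥ v = v + pt ((K w + L) (ctr f₂ e v)) e := fun v => by
      refine mulVec_injective (X * g) ?_
      simp only
      rw [hz, ← Transvec.mul_mulVec, mul_inv_cancel_left, mulVec_add, hXW, Transvec.mul_mulVec,
        Transvec.mul_mulVec, hXv, hXv, hctr, LinearMap.add_apply, ← hLe]
      simp only [mulVec_add, mulVec_sub, mulVec_smul, hKd w hwe, hfix, pt_add_left, pt_sub_left, map_sub]
      abel
    obtain ⟨μ, hμ⟩ := C.scalar e he0 hee _ ⟨z, hzM, hzv⟩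
    refine ⟨μ, fun x y => ?_⟩
    rw [← h1.smul_left, ← hμ, LinearMap.add_apply, h1.add_left, hL, hdiff, T.ctr_pt, h21, one_smul]
    ring
  obtain ⟨μ, hμd⟩ := hμ d hd
  obtain ⟨μ', hμd'⟩ := hμ (k • d) (by rw [T.right.smul_left, hd, mul_zero])
  refine ⟨(μ' - σ k * μ) / (k - σ k), fun x => ?_⟩
  rw [hKd d hd, ← pt_smul_left]
  congr 2
  by_contra hne
  obtain ⟨y, hy⟩ := (h1.nondegenerate _ (sub_ne_zero.mpr hne)).2
  refine hy ?_
  have e2 := hμd' x y
  have hKk : ∀ x, K (k • d) x = k • K d x := fun x => by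
    rw [hK, hK, pt_smul_right, mulVec_smul, ← smul_sub, map_smul]
  rw [hKk, hKk, h1.smul_left, smul_right' h1] at e2
  rw [sub_left' h1, h1.smul_left, sub_eq_zero, div_mul_eq_mul_div, eq_div_iff hk]
  linear_combination e2 - σ k * hμd x y

/-- An element fixing a pure subspace pointwise and shearing its orthogonal is a tensor product. -/
theorem kron_of_shear {g : GL (Fin a × Fin b) F} (hg : g ∈ M) (hfix : ∀ x, g.val *ᵥ pt x e = pt x e)
    (hsh : ∀ d, f₂ d e = 0 → ∀ x, ∃ y, g.val *ᵥ pt x d = pt x d + pt y e) : IsKron g := by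
  classical
  have T := C.tens
  obtain ⟨e', he', h21, h21'⟩ := exists_partner T.right he0 hee
  obtain ⟨x₀, hx₀⟩ : ∃ x : Fin a → F, x ≠ 0 := ⟨Pi.single ⟨0, by have := C.dimA; omega⟩ 1, by simp⟩
  obtain ⟨ψ, -, hψ⟩ := exists_functional (E := (⊥ : Submodule F (Fin a → F))) (u := x₀) (by simpa using hx₀)
  obtain ⟨φ, hφ⟩ : ∃ φ : (Fin b → F) →ₗ[F] F, ∀ d, φ d = ψ ⬝ᵥ ctr f₂ e' (g.val *ᵥ pt x₀ d - pt x₀ d) :=
    ⟨{ toFun := fun d => ψ ⬝ᵥ ctr f₂ e' (g.val *ᵥ pt x₀ d - pt x₀ d)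
       map_add' := fun d d' => by
         rw [pt_add_right, mulVec_add, ← dotProduct_add, ← map_add]; congr 2; abel
       map_smul' := fun c d => by
         rw [pt_smul_right, mulVec_smul, ← smul_sub, map_smul, dotProduct_smul]; rfl }, fun d => rfl⟩
  have hκ : ∀ d, f₂ d e = 0 → ∀ x, g.val *ᵥ pt x d = pt x d + φ d • pt x e := fun d hd x => by
    obtain ⟨κ, hκ⟩ := shear_scalar C he0 hee hg hfix hsh d hd
    rw [hκ, hφ, hκ, add_sub_cancel_left, map_smul, T.ctr_pt, h21', one_smul, dotProduct_smul, hψ, smul_eq_mul,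
      mul_one]
  obtain ⟨z, hz⟩ := uvec_surjective T.right (fun j => -φ (Pi.single j 1))
  have hzd : ∀ d, f₂ d z = -φ d := fun d => by
    rw [← uvec_dot T.right, hz, dotProduct]
    conv_rhs => rw [pi_eq_sum_univ' d, map_sum, ← Finset.sum_neg_distrib]
    refine Finset.sum_congr rfl fun j _ => ?_
    rw [map_smul, smul_eq_mul]
    ring
  have hze : f₂ z e = 0 := (eq_zero_comm T.right).1 (by
    rw [hzd, hφ, hfix, sub_self, map_zero, dotProduct_zero, neg_zero])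
  obtain ⟨ν, hν⟩ := exists_eich_scalar T.right z
  obtain ⟨h, hh⟩ : ∃ h, h = kr (1 : GL (Fin a) F) (eich T.right hee hze hν) := ⟨_, rfl⟩
  have hhM : h ∈ M := hh ▸ C.krB _ (iso_eich T.right hee hze hν) (det_eich T.right hee hze hν)
  have hhv := fun v => eichB_apply C.tens hee hze hν v
  rw [← hh] at hhv
  have hhe : ∀ x, h.val *ᵥ pt x e = pt x e := fun x => by
    rw [hhv, T.ctr_pt, T.ctr_pt, hee, (eq_zero_comm T.right).1 hze]; simp [pt_zero_left]
  obtain ⟨u, hu⟩ : ∃ u, u = h⁻¹ * g := ⟨_, rfl⟩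
  have huM : u ∈ M := hu ▸ mul_mem (inv_mem hhM) hg
  have hue : ∀ d, f₂ d e = 0 → ∀ x, u.val *ᵥ pt x d = pt x d := fun d hd x => by
    refine mulVec_injective h ?_
    simp only
    rw [hu, Units.val_mul, ← mulVec_mulVec, Transvec.mulVec_inv_cancel, hκ d hd, hhv, T.ctr_pt, T.ctr_pt, hd, hzd]
    simp [pt_zero_left, pt_neg_left, pt_smul_left]
  obtain ⟨S, hS⟩ : ∃ S : (Fin a → F) →ₗ[F] (Fin a → F), ∀ x, S x = ctr f₂ e' (u.val *ᵥ pt x e' - pt x e') :=
    ⟨(ctr f₂ e').comp ((Matrix.mulVecLin u.val).comp (ptL e') - ptL e'), fun x => rfl⟩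
  have huv : ∀ v, u.val *ᵥ v = v + pt (S (ctr f₂ e v)) e := fun v => by
    have hbase : ∀ x, u.val *ᵥ pt x e' = pt x e' + pt (S x) e := fun x => by
      rw [hS, ← T.mem_pure_of_ctr h21 (v := u.val *ᵥ pt x e' - pt x e') fun w hw => ?_, add_sub_cancel]
      by_contra hne
      obtain ⟨y, hy⟩ := (T.left.nondegenerate _ hne).2
      refine hy ?_
      rw [map_sub, sub_left' T.left, ← T.f_pt (u.val *ᵥ pt x e'), ← T.f_pt (pt x e')]
      conv_lhs => arg 1; rw [← hue w hw y]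
      rw [C.iso huM, sub_self]
    refine Eq.trans (Matrix.mulVecLin_apply _ _).symm <| LinearMap.congr_fun
      (lin_ext (L := Matrix.mulVecLin u.val) (L' := LinearMap.id + (ptL e).comp (S.comp (ctr f₂ e))) fun x d => ?_) v
    change u.val *ᵥ pt x d = pt x d + pt (S (ctr f₂ e (pt x d))) e
    have hd : f₂ (d - f₂ d e • e') e = 0 := by rw [sub_left' T.right, T.right.smul_left, h21, mul_one, sub_self]
    conv_lhs => rw [← sub_add_cancel d (f₂ d e • e'), pt_add_right, mulVec_add, hue _ hd, pt_smul_right, mulVec_smul,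
      hbase]
    rw [T.ctr_pt, map_smul, pt_smul_left, pt_sub_right, pt_smul_right]
    module
  obtain ⟨c, hc⟩ := C.scalar e he0 hee _ ⟨u, huM, huv⟩
  have hueq : u = kr (1 : GL (Fin a) F) (uT f₂ e c) := gl_ext fun v => by
    rw [huv, T.root_apply hee, hc, pt_smul_left]
  have hgeq : g = h * u := by rw [hu, mul_inv_cancel_left]
  rw [hgeq, hueq, hh]
  exact (Cfsg.Geo.kroneckerSubgroup a b F).mul_mem (isKron_kr _ _) (isKron_kr _ _)

end

/-- A vector all of whose slices are multiples of `u` is pure at `u`. -/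
lemma mem_pureW_of_slices {u : Fin b → F} {z : Fin a × Fin b → F}
    (h : ∀ i, (fun j => z (i, j)) ∈ Submodule.span F ({u} : Set (Fin b → F))) : z ∈ pureW a u := by
  choose c hc using fun i => Submodule.mem_span_singleton.1 (h i)
  exact ⟨c, funext fun p => congrFun (hc p.1) p.2⟩

/-- A Kronecker element fixing a pure subspace pointwise lives on the second factor. -/
lemma exists_kr_one {g : GL (Fin a × Fin b) F} (hK : IsKron g) (ha : 0 < a) {e : Fin b → F} (he0 : e ≠ 0)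
    (hfix : ∀ x, g.val *ᵥ pt x e = pt x e) : ∃ B : GL (Fin b) F, g = kr 1 B := by
  obtain ⟨A, B, hAB⟩ := isKron_apply hK
  obtain ⟨φ, -, hφ⟩ := exists_functional (E := (⊥ : Submodule F (Fin b → F))) (u := e) (by simpa using he0)
  have hA : ∀ x, (φ ⬝ᵥ (B.val *ᵥ e)) • (A.val *ᵥ x) = x := fun x => by
    have := congrArg (sl φ) (hfix x)
    rwa [hAB, sl_pt, sl_pt, hφ, one_smul] at this
  obtain ⟨c, hc⟩ : ∃ c, c = φ ⬝ᵥ (B.val *ᵥ e) := ⟨_, rfl⟩
  rw [← hc] at hA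
  have hc0 : c ≠ 0 := fun h0 => by
    have := hA (Pi.single ⟨0, ha⟩ 1)
    rw [h0, zero_smul] at this
    simpa using congrFun this ⟨0, ha⟩
  have hinj : Function.Injective (c⁻¹ • Matrix.mulVecLin B.val) := fun x y hxy => by
    simp only [LinearMap.smul_apply, Matrix.mulVecLin_apply] at hxy
    exact Transvec.mulVec_injective B (smul_right_injective _ (inv_ne_zero hc0) hxy)
  refine ⟨glOfLin _ hinj, ext_pt fun x j => ?_⟩
  rw [hAB, kr_apply, glOfLin_mulVec, Units.val_one, one_mulVec, LinearMap.smul_apply, Matrix.mulVecLin_apply,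
    pt_smul_right, ← pt_smul_left]
  congr 1
  rw [eq_inv_smul_iff₀ hc0, hA]

/-- An element of `M` fixing a pure subspace pointwise and moving a small totally isotropic space moves a pure
one. -/
theorem SCtx.pure_of_fix (C : SCtx σ f f₁ f₂ M) (he0 : e ≠ 0) (hee : f₂ e e = 0) {z : GL (Fin a × Fin b) F}
    (hz : z ∈ M) (hfix : ∀ x, z.val *ᵥ pt x e = pt x e) (hiso : ∀ v ∈ mv z, ∀ w ∈ mv z, f v w = 0)
    (hdim : Module.finrank F (mv z) = a) : ∃ r, r ≠ 0 ∧ mv z = pureW a r := by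
  have T := C.tens
  have h1 := T.left
  have h2 := T.right
  have ha := C.dimA
  suffices hK : IsKron z by
    obtain ⟨B, rfl⟩ := exists_kr_one hK (by omega) he0 hfix
    refine mv_kr_scalar (c := 1) (fun x => by rw [Units.val_one, one_mulVec, one_smul]) B (fun h1' => ?_) hdim.le
    rw [h1', show mv (1 : GL (Fin a × Fin b) F) = ⊥ from (Submodule.eq_bot_iff _).2 fun v hv => by
      obtain ⟨w, rfl⟩ := mem_mv.1 hv; rw [Units.val_one, one_mulVec, sub_self], finrank_bot] at hdim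
    omega
  obtain ⟨e', he', h21, h21'⟩ := exists_partner h2 he0 hee
  have hzi := C.iso hz
  have hctr : ∀ v, ctr f₂ e (z.val *ᵥ v) = ctr f₂ e v := fun v => by
    by_contra hne
    obtain ⟨y, hy⟩ := (h1.nondegenerate _ (sub_ne_zero.mpr hne)).2
    exact hy (by rw [sub_left' h1, T.ctr_image hzi (hfix y) v, sub_self])
  obtain ⟨x₀, hx₀⟩ : ∃ x : Fin a → F, x ≠ 0 := ⟨Pi.single ⟨0, by omega⟩ 1, by simp⟩
  obtain ⟨x₁, hx₁⟩ := (h1.nondegenerate x₀ hx₀).2
  obtain ⟨ψ, -, hψ⟩ := exists_functional (E := (⊥ : Submodule F (Fin a → F))) (u := x₀) (by simpa using hx₀)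
  obtain ⟨B₀, hB₀⟩ : ∃ B₀ : (Fin b → F) →ₗ[F] (Fin b → F), ∀ d, B₀ d = slA ψ (z.val *ᵥ pt x₀ d) :=
    ⟨(slA ψ).comp ((Matrix.mulVecLin z.val).comp (ptR x₀)), fun d => rfl⟩
  have hB₀w : ∀ d w, f₂ (B₀ d) w = ψ ⬝ᵥ ctr f₂ w (z.val *ᵥ pt x₀ d) := fun d w => by
    rw [← uvec_dot h2, hB₀, ← dot_sl_slA]
    rfl
  have hperp : ∀ x d, f₂ d e = 0 → ctr f₂ e (z.val *ᵥ pt x d) = 0 := fun x d hd => by
    rw [hctr, T.ctr_pt, hd, zero_smul]
  have hB₀e : ∀ d, f₂ d e = 0 → f₂ (B₀ d) e = 0 := fun d hd => by rw [hB₀w, hperp _ _ hd, dotProduct_zero]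
  -- modulo the fixed subspace the element acts on the second factor
  have hzW : ∀ d, f₂ d e = 0 → ∀ x, ∃ y, z.val *ᵥ pt x d = pt x (B₀ d) + pt y e := by
    intro d hd x
    suffices h : ∀ w, f₂ w e = 0 → ctr f₂ w (z.val *ᵥ pt x d - pt x (B₀ d)) = 0 by
      refine ⟨ctr f₂ e' (z.val *ᵥ pt x d - pt x (B₀ d)), ?_⟩
      rw [← T.mem_pure_of_ctr h21 h, add_sub_cancel]
    intro w hwe
    obtain ⟨ν, hν⟩ := exists_eich_scalar h2 w
    obtain ⟨X, hX⟩ : ∃ X, X = kr (1 : GL (Fin a) F) (eich h2 hee hwe hν) := ⟨_, rfl⟩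
    have hXM : X ∈ M := hX ▸ C.krB _ (iso_eich h2 hee hwe hν) (det_eich h2 hee hwe hν)
    have hXv := fun v => eichB_apply T hee hwe hν v
    rw [← hX] at hXv
    have hzi' : ∀ x, z⁻¹.val *ᵥ pt x e = pt x e := fun x => by
      conv_lhs => rw [← hfix x, Transvec.inv_mulVec_cancel]
    have hcW : ∀ x, (z⁻¹ * X * z).val *ᵥ pt x e = pt x e := fun x => by
      rw [Units.val_mul, Units.val_mul, ← mulVec_mulVec, ← mulVec_mulVec, hfix, hXv, T.ctr_pt, T.ctr_pt, hee,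
        (eq_zero_comm h2).1 hwe]
      simp only [zero_smul, pt_zero_left, smul_zero, add_zero, sub_zero, hzi']
    have hcd : ∀ d, f₂ d e = 0 → ∀ x, (z⁻¹ * X * z).val *ᵥ pt x d =
        pt x d + pt (-ctr f₂ w (z.val *ᵥ pt x d)) e := fun d hd x => by
      rw [Units.val_mul, Units.val_mul, ← mulVec_mulVec, ← mulVec_mulVec, hXv, hperp x d hd]
      simp only [pt_zero_left, smul_zero, add_zero, mulVec_sub, Transvec.inv_mulVec_cancel, hzi', pt_neg_left,
        sub_eq_add_neg, mulVec_add, mulVec_neg]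
    obtain ⟨κ, hκ⟩ := shear_scalar C he0 hee (mul_mem (mul_mem (inv_mem hz) hXM) hz) hcW
      (fun d hd x => ⟨_, hcd d hd x⟩) d hd
    have hκ' : ∀ x, ctr f₂ w (z.val *ᵥ pt x d) = (-κ) • x := fun x => by
      have e1 := hκ x
      rw [hcd d hd, add_right_inj, ← pt_smul_left] at e1
      have e2 : -ctr f₂ w (z.val *ᵥ pt x d) = κ • x := pt_injective he0 e1
      rw [neg_smul, ← e2, neg_neg]
    rw [map_sub, T.ctr_pt, hκ', hB₀w, hκ', dotProduct_smul, hψ, smul_eq_mul, mul_one, sub_self]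
  by_cases hD : ∀ d, f₂ d e = 0 → B₀ d - d ∈ Submodule.span F ({e} : Set (Fin b → F))
  · refine kron_of_shear C he0 hee hz hfix fun d hd x => ?_
    obtain ⟨y, hy⟩ := hzW d hd x
    obtain ⟨c, hc⟩ := Submodule.mem_span_singleton.1 (hD d hd)
    refine ⟨c • x + y, ?_⟩
    rw [hy, show B₀ d = d + c • e by rw [hc, add_sub_cancel], pt_add_right, pt_smul_right, pt_add_left, pt_smul_left]
    abel
  push Not at hD
  obtain ⟨d₀, hd₀, hd₀n⟩ := hD
  obtain ⟨d₁, hd₁⟩ : ∃ d₁, d₁ = B₀ d₀ - d₀ := ⟨_, rfl⟩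
  rw [← hd₁] at hd₀n
  have hd₁e : f₂ d₁ e = 0 := by rw [hd₁, sub_left' h2, hB₀e _ hd₀, hd₀, sub_self]
  obtain ⟨φ, hφ, hφd⟩ := exists_functional hd₀n
  have hφe : φ ⬝ᵥ e = 0 := hφ e (Submodule.mem_span_singleton_self e)
  obtain ⟨L, hL⟩ : ∃ L : (Fin a → F) →ₗ[F] (Fin a × Fin b → F), ∀ x, L x = z.val *ᵥ pt x d₀ - pt x d₀ :=
    ⟨(Matrix.mulVecLin z.val).comp (ptL d₀) - ptL d₀, fun x => rfl⟩
  have hLx : ∀ x, ∃ y, L x = pt x d₁ + pt y e := fun x => by
    obtain ⟨y, hy⟩ := hzW d₀ hd₀ x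
    exact ⟨y, by rw [hL, hy, hd₁, pt_sub_right]; abel⟩
  have hsl : ∀ x, sl φ (L x) = x := fun x => by
    obtain ⟨y, hy⟩ := hLx x
    rw [hy, map_add, sl_pt, sl_pt, hφd, hφe, one_smul, zero_smul, add_zero]
  have hrange : LinearMap.range L = mv z := by
    refine Submodule.eq_of_le_of_finrank_eq ?_ ?_
    · rintro _ ⟨x, rfl⟩; rw [hL]; exact sub_mem_mv _ _
    · rw [LinearMap.finrank_range_of_inj (fun x y h => by rw [← hsl x, h, hsl]), Module.finrank_fin_fun, hdim]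
  have hd₁₁ : f₂ d₁ d₁ = 0 := by
    obtain ⟨y₀, hy₀⟩ := hLx x₀
    obtain ⟨y₁, hy₁⟩ := hLx x₁
    have h0 := hiso _ (hrange ▸ LinearMap.mem_range_self L x₀) _ (hrange ▸ LinearMap.mem_range_self L x₁)
    rw [hy₀, hy₁] at h0
    simp only [T.uni.add_left, Unitary.add_right' T.uni, T.pure, hd₁e, (eq_zero_comm h2).1 hd₁e, hee, mul_zero,
      add_zero] at h0
    exact (mul_eq_zero.1 h0).resolve_left hx₁
  have hDd : ∀ d, f₂ d e = 0 → B₀ d - d - (φ ⬝ᵥ (B₀ d - d)) • d₁ ∈ Submodule.span F ({e} : Set (Fin b → F)) := by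
    intro d hd
    obtain ⟨y, hy⟩ := hzW d hd x₀
    obtain ⟨x', hx'⟩ : z.val *ᵥ pt x₀ d - pt x₀ d ∈ LinearMap.range L := hrange ▸ sub_mem_mv _ _
    obtain ⟨y', hy'⟩ := hLx x'
    rw [hy', hy] at hx'
    have e1 := congrArg (slA ψ) hx'
    rw [map_sub, map_add, map_add, slA_pt, slA_pt, slA_pt, slA_pt, slA_pt, hψ, one_smul, one_smul] at e1
    have e2 : B₀ d - d = (ψ ⬝ᵥ x') • d₁ + ((ψ ⬝ᵥ y') - (ψ ⬝ᵥ y)) • e := by
      rw [sub_smul]; linear_combination (norm := abel) -e1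
    rw [e2, dotProduct_add, dotProduct_smul, dotProduct_smul, hφd, hφe, smul_eq_mul, smul_eq_mul, mul_one, mul_zero,
      add_zero, add_sub_cancel_left]
    exact Submodule.smul_mem _ _ (Submodule.mem_span_singleton_self e)
  have hform : ∀ d d', f₂ d e = 0 → f₂ d' e = 0 →
      (φ ⬝ᵥ (B₀ d - d)) * f₂ d₁ d' + σ (φ ⬝ᵥ (B₀ d' - d')) * f₂ d d₁ = 0 := by
    intro d d' hd hd'
    obtain ⟨y, hy⟩ := hzW d hd x₀
    obtain ⟨y', hy'⟩ := hzW d' hd' x₁
    have := hzi (pt x₀ d) (pt x₁ d')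
    rw [hy, hy'] at this
    simp only [T.uni.add_left, Unitary.add_right' T.uni, T.pure, hB₀e d hd, (eq_zero_comm h2).1 (hB₀e d' hd'), hee,
      mul_zero, add_zero] at this
    have hB := mul_left_cancel₀ hx₁ this
    obtain ⟨δ, hδ⟩ := Submodule.mem_span_singleton.1 (hDd d hd)
    obtain ⟨δ', hδ'⟩ := Submodule.mem_span_singleton.1 (hDd d' hd')
    rw [show B₀ d = d + (φ ⬝ᵥ (B₀ d - d)) • d₁ + δ • e by rw [hδ]; abel,
      show B₀ d' = d' + (φ ⬝ᵥ (B₀ d' - d')) • d₁ + δ' • e by rw [hδ']; abel] at hB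
    simp only [h2.add_left, h2.smul_left, Unitary.add_right' h2, smul_right' h2, hd₁₁, hd₁e, hee,
      (eq_zero_comm h2).1 hd₁e, hd, (eq_zero_comm h2).1 hd', mul_zero, add_zero] at hB
    linear_combination hB
  obtain ⟨w, hwe, hw⟩ := exists_perp_pair h2 hd₀n
  obtain ⟨ds, hds⟩ : ∃ ds, ds = (f₂ w d₁)⁻¹ • w := ⟨_, rfl⟩
  have hdse : f₂ ds e = 0 := by rw [hds, h2.smul_left, hwe, mul_zero]
  have hds1 : f₂ ds d₁ = 1 := by rw [hds, h2.smul_left, inv_mul_cancel₀ hw]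
  obtain ⟨ρ, hρ⟩ : ∃ ρ, ρ = -σ (φ ⬝ᵥ (B₀ ds - ds)) := ⟨_, rfl⟩
  have hφρ : ∀ d, f₂ d e = 0 → φ ⬝ᵥ (B₀ d - d) = ρ * f₂ d d₁ := fun d hd => by
    have := hform d ds hd hdse
    rw [show f₂ d₁ ds = 1 by rw [h2.herm, hds1, map_one]] at this
    rw [hρ]
    linear_combination this
  have hρs : ρ + σ ρ = 0 := by
    have := hφρ ds hdse
    rw [hds1, mul_one] at this
    rw [this] at hρ
    linear_combination hρ
  obtain ⟨y, hydef⟩ : ∃ y, y = kr (1 : GL (Fin a) F) (uT f₂ d₁ ρ) := ⟨_, rfl⟩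
  have hyM : y ∈ M := hydef ▸ C.krB _ (iso_uT h2 hd₁₁ hρs)
    ((mem_specialLinear_iff _).mp (transv_mem_specialLinear d₁ (ρ • uvec f₂ d₁)))
  have hyv : ∀ x d, y.val *ᵥ pt x d = pt x d + (ρ * f₂ d d₁) • pt x d₁ := fun x d => by
    rw [hydef, kr_apply, Units.val_one, one_mulVec, uT_mulVec h2 hd₁₁, pt_add_right, pt_smul_right]
  have hye : ∀ x, y.val *ᵥ pt x e = pt x e := fun x => by
    rw [hyv, (eq_zero_comm h2).1 hd₁e, mul_zero, zero_smul, add_zero]
  have hu := kron_of_shear C he0 hee (g := y⁻¹ * z) (mul_mem (inv_mem hyM) hz)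
    (fun x => by rw [Units.val_mul, ← mulVec_mulVec, hfix]; conv_lhs => rw [← hye x, Transvec.inv_mulVec_cancel])
    fun d hd x => by
      obtain ⟨y₂, hy₂⟩ := hzW d hd x
      obtain ⟨δ, hδ⟩ := Submodule.mem_span_singleton.1 (hDd d hd)
      obtain ⟨cc, hcc⟩ : ∃ cc, cc = φ ⬝ᵥ (B₀ d - d) := ⟨_, rfl⟩
      refine ⟨δ • x + y₂, mulVec_injective y ?_⟩
      simp only
      rw [Units.val_mul, ← mulVec_mulVec, Transvec.mulVec_inv_cancel, hy₂, mulVec_add, hye, hyv, ← hφρ d hd, ← hcc,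
        show B₀ d = d + cc • d₁ + δ • e by rw [hcc, hδ]; abel]
      simp only [pt_add_right, pt_smul_right, pt_add_left, pt_smul_left]
      abel
  have := (Cfsg.Geo.kroneckerSubgroup a b F).mul_mem (hydef ▸ isKron_kr _ _ : IsKron y) hu
  rwa [mul_inv_cancel_left] at this

/-- In dimension three, an element normalising the group and fixing a pure subspace sends the pure subspaces at
isotropic partners to pure ones. -/
theorem SCtx.pure_of_torus (C : SCtx σ f f₁ f₂ M) (hb : b = 3) {r : F} (hr : σ r = r) (hr0 : r ≠ 0) (hr1 : r ≠ 1)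
    (he0 : e ≠ 0) (hee : f₂ e e = 0) {v : Fin b → F} (hvv : f₂ v v = 0) (hve : f₂ v e = 1)
    {g : GL (Fin a × Fin b) F} (hgi : Iso f g)
    (hg : ∀ B : GL (Fin b) F, Iso f₂ B → B.val.det = 1 → g * kr (1 : GL (Fin a) F) B * g⁻¹ ∈ M)
    (hfix : gim g (pureW a e) = pureW a e) : ∃ κ, κ ≠ 0 ∧ gim g (pureW a v) = pureW a κ := by
  have T := C.tens
  have h2 := T.right
  have hev : f₂ e v = 1 := by rw [h2.herm, hve, map_one]
  have hv0 : v ≠ 0 := fun h0 => by rw [h0, zero_left' h2] at hve; exact zero_ne_one hve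
  obtain ⟨lam, hlam⟩ := exists_norm_eq h2.ne_refl h2.involutive hr
  have hl0 : lam ≠ 0 := fun h0 => hr0 (by rw [← hlam, h0, zero_mul])
  have hσl0 : σ lam ≠ 0 := (map_ne_zero_iff _ σ.injective).2 hl0
  obtain ⟨lam', hlam'⟩ : ∃ lam', lam' = (σ lam)⁻¹ := ⟨_, rfl⟩
  obtain ⟨μ, hμ⟩ : ∃ μ, μ = σ lam / lam := ⟨_, rfl⟩
  have hμ0 : μ ≠ 0 := hμ ▸ div_ne_zero hσl0 hl0
  have hl'0 : lam' ≠ 0 := hlam' ▸ inv_ne_zero hσl0
  have hll' : lam' ≠ lam := fun h => hr1 (by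
    rw [← hlam]; nth_rewrite 1 [← h]; rw [hlam', inv_mul_cancel₀ hσl0])
  have hlμ : lam ≠ μ := fun h => by
    rw [hμ, eq_div_iff hl0] at h
    have e1 : r = lam * lam * lam := by rw [← hlam, ← h]; ring
    have e2 : σ r = σ lam * σ lam * σ lam := by rw [e1, map_mul, map_mul]
    rw [hr] at e2
    have e3 : r * r = r * r * r := by
      conv_lhs => arg 1; rw [e1]
      conv_lhs => arg 2; rw [e2]
      rw [← hlam]; ring
    exact hr1 (mul_left_cancel₀ (mul_ne_zero hr0 hr0) (by rw [← e3, mul_one]))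
  obtain ⟨Dl, hDl⟩ : ∃ Dl : (Fin b → F) →ₗ[F] (Fin b → F),
      ∀ z, Dl z = μ • z + ((lam - μ) * f₂ z e) • v + ((lam' - μ) * f₂ z v) • e :=
    ⟨μ • LinearMap.id + (lam - μ) • (linL h2 e).smulRight v + (lam' - μ) • (linL h2 v).smulRight e,
      fun z => by simp [linL, smul_smul]⟩
  have hDi : ∀ z w, f₂ (Dl z) (Dl w) = f₂ z w := fun z w => by
    simp only [hDl, h2.add_left, h2.smul_left, Unitary.add_right' h2, smul_right' h2, hee, hvv, hve, hev, map_sub,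
      map_mul, ← h2.herm]
    rw [hμ, hlam', map_div₀, map_inv₀, h2.involutive]
    field_simp
    ring
  obtain ⟨D, hD⟩ : ∃ D, D = glIso h2 Dl hDi := ⟨_, rfl⟩
  have hDv : ∀ z, D.val *ᵥ z = Dl z := fun z => by rw [hD, glIso_mulVec]
  have hDdet : D.val.det = 1 := by
    have n1 : 1 + ((lam / μ - 1) • uvec f₂ e) ⬝ᵥ v = lam / μ := by
      rw [smul_dotProduct, uvec_dot h2, hve, smul_eq_mul, mul_one]; ring
    have n2 : 1 + ((lam' / μ - 1) • uvec f₂ v) ⬝ᵥ e = lam' / μ := by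
      rw [smul_dotProduct, uvec_dot h2, hev, smul_eq_mul, mul_one]; ring
    have k1 : 1 + ((lam / μ - 1) • uvec f₂ e) ⬝ᵥ v ≠ 0 := by rw [n1]; exact div_ne_zero hl0 hμ0
    have k2 : 1 + ((lam' / μ - 1) • uvec f₂ v) ⬝ᵥ e ≠ 0 := by rw [n2]; exact div_ne_zero hl'0 hμ0
    have hval : D.val = μ • ((pseudo v ((lam / μ - 1) • uvec f₂ e)).val *
        (pseudo e ((lam' / μ - 1) • uvec f₂ v)).val) := Matrix.ext_iff_mulVec.2 fun z => by
      rw [hDv, smul_mulVec, ← mulVec_mulVec, pseudo_mulVec k2, pseudo_mulVec k1, hDl]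
      simp only [smul_dotProduct, dotProduct_add, dotProduct_smul, uvec_dot h2, hee, smul_eq_mul, smul_add, smul_smul]
      match_scalars <;> field_simp <;> ring
    rw [hval, det_smul, det_mul, det_pseudo k1, det_pseudo k2, n1, n2, Fintype.card_fin, hb, hlam', hμ]
    field_simp
  have hDe : D.val *ᵥ e = lam' • e := by rw [hDv, hDl, hee, hev]; module
  have hDperp : ∀ d, f₂ d e = 0 → D.val *ᵥ d = μ • d + ((lam' - μ) * f₂ d v) • e := fun d hd => by
    rw [hDv, hDl, hd, mul_zero, zero_smul, add_zero]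
  have hDiso : Iso f₂ D := fun z w => by rw [hDv, hDv, hDi]
  obtain ⟨K, hK⟩ : ∃ K, K = kr (1 : GL (Fin a) F) D := ⟨_, rfl⟩
  have hKM : K ∈ M := hK ▸ C.krB D hDiso hDdet
  have hKpt : ∀ x u, K.val *ᵥ pt x u = pt x (D.val *ᵥ u) := fun x u => by
    rw [hK, kr_apply, Units.val_one, one_mulVec]
  have hgK : g * K * g⁻¹ ∈ M := hK ▸ hg D hDiso hDdet
  -- on the fixed subspace
  have hpre : ∀ x, ∃ y, g.val *ᵥ pt y e = pt x e := fun x => by
    obtain ⟨_, ⟨y, rfl⟩, hy⟩ := TWMax.mem_gim.1 (hfix.ge (pt_mem_pureW x e))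
    exact ⟨y, hy⟩
  have hgKe : ∀ x, (g * K * g⁻¹).val *ᵥ pt x e = lam' • pt x e := fun x => by
    obtain ⟨y, hy⟩ := hpre x
    rw [Units.val_mul, Units.val_mul, ← mulVec_mulVec, ← mulVec_mulVec, ← hy, Transvec.inv_mulVec_cancel, hKpt, hDe,
      pt_smul_right, mulVec_smul]
  have hc : IsKron (g * K * g⁻¹ * K⁻¹) := by
    have hfx : ∀ x, (g * K * g⁻¹ * K⁻¹).val *ᵥ pt x e = pt x e := fun x => by
      have e1 : K⁻¹.val *ᵥ pt x e = lam'⁻¹ • pt x e := mulVec_injective K (by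
        simp only
        rw [Transvec.mulVec_inv_cancel, mulVec_smul, hKpt, hDe, pt_smul_right, inv_smul_smul₀ hl'0])
      rw [Units.val_mul (g * K * g⁻¹), ← mulVec_mulVec, e1, mulVec_smul, hgKe, inv_smul_smul₀ hl'0]
    refine kron_of_shear C he0 hee (mul_mem hgK (inv_mem hKM)) hfx fun d hd x => ?_
    obtain ⟨p, hp⟩ : ∃ p, p = K⁻¹.val *ᵥ pt x d := ⟨_, rfl⟩
    have hpd : p = pt x (μ⁻¹ • d - (μ⁻¹ * (lam' - μ) * f₂ d v / lam') • e) := mulVec_injective K (by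
      simp only
      rw [hp, Transvec.mulVec_inv_cancel, hKpt, mulVec_sub, mulVec_smul, mulVec_smul, hDe, hDperp d hd, smul_smul,
        div_mul_cancel₀ _ hl'0, smul_add, smul_smul, smul_smul, inv_mul_cancel₀ hμ0, one_smul, mul_assoc,
        add_sub_cancel_right])
    have hpp : ctr f₂ e p = 0 := by
      rw [hpd, T.ctr_pt, sub_left' h2, h2.smul_left, h2.smul_left, hd, hee]; simp [pt_zero_left]
    have hq : ctr f₂ e (g⁻¹.val *ᵥ p) = 0 := by
      by_contra hne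
      obtain ⟨y, hy⟩ := (T.left.nondegenerate _ hne).2
      refine hy ?_
      obtain ⟨y', hy'⟩ : g.val *ᵥ pt y e ∈ pureW a e := hfix ▸ TWMax.mem_gim.2 ⟨_, pt_mem_pureW _ _, rfl⟩
      rw [← T.f_pt, ← hgi, Transvec.mulVec_inv_cancel, ← hy', ptL_apply, T.f_pt, hpp, zero_left' T.left]
    have hmem : K.val *ᵥ (g⁻¹.val *ᵥ p) - μ • (g⁻¹.val *ᵥ p) ∈ pureW a e := by
      refine mem_of_ctr_zero T hve (Z := (pureW a e).comap (Matrix.mulVecLin K.val - μ • LinearMap.id))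
        (fun x d hd => ?_) hq
      rw [Submodule.mem_comap]
      simp only [LinearMap.sub_apply, Matrix.mulVecLin_apply, LinearMap.smul_apply, LinearMap.id_apply]
      rw [hKpt, hDperp d hd, ← pt_smul_right, ← pt_sub_right, add_sub_cancel_left, pt_smul_right, ← pt_smul_left]
      exact pt_mem_pureW _ _
    obtain ⟨y, hy⟩ := hmem
    rw [ptL_apply] at hy
    obtain ⟨y', hy'⟩ : ∃ y', g.val *ᵥ pt y e = pt y' e := by
      obtain ⟨y', hy'⟩ : g.val *ᵥ pt y e ∈ pureW a e := hfix ▸ TWMax.mem_gim.2 ⟨_, pt_mem_pureW _ _, rfl⟩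
      exact ⟨y', hy'.symm⟩
    refine ⟨y' - (μ * (μ⁻¹ * (lam' - μ) * f₂ d v / lam')) • x, ?_⟩
    rw [Units.val_mul (g * K * g⁻¹), ← mulVec_mulVec, ← hp, Units.val_mul, Units.val_mul, ← mulVec_mulVec,
      ← mulVec_mulVec, show K.val *ᵥ (g⁻¹.val *ᵥ p) = μ • (g⁻¹.val *ᵥ p) + pt y e by rw [hy, add_sub_cancel],
      mulVec_add, mulVec_smul, Transvec.mulVec_inv_cancel, hy', hpd, pt_sub_right, pt_smul_right, pt_smul_right,
      pt_sub_left, pt_smul_left, smul_sub, smul_smul, smul_smul, mul_inv_cancel₀ hμ0, one_smul]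
    abel
  have hgKK : IsKron (g * K * g⁻¹) := by
    have := (Cfsg.Geo.kroneckerSubgroup a b F).mul_mem hc (hK ▸ isKron_kr _ _ : IsKron K)
    rwa [inv_mul_cancel_right] at this
  have hfx' : ∀ x, (g * K * g⁻¹).val *ᵥ pt x e = lam' • pt x e := hgKe
  obtain ⟨A₁, B₁, hAB⟩ := isKron_apply hgKK
  -- the first factor is a scalar
  obtain ⟨φ, -, hφ⟩ := exists_functional (E := (⊥ : Submodule F (Fin b → F))) (u := e) (by simpa using he0)
  have hA : ∀ x, (φ ⬝ᵥ (B₁.val *ᵥ e)) • (A₁.val *ᵥ x) = lam' • x := fun x => by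
    have := congrArg (sl φ) (hfx' x)
    rwa [hAB, sl_pt, map_smul, sl_pt, hφ, one_smul] at this
  obtain ⟨c, hcdef⟩ : ∃ c, c = φ ⬝ᵥ (B₁.val *ᵥ e) := ⟨_, rfl⟩
  rw [← hcdef] at hA
  have hc0 : c ≠ 0 := fun h0 => by
    have := hA (Pi.single ⟨0, by have := C.dimA; omega⟩ 1)
    rw [h0, zero_smul, eq_comm, smul_eq_zero] at this
    exact this.elim hl'0 (by simp)
  obtain ⟨Q, hQ⟩ : ∃ Q : (Fin b → F) →ₗ[F] (Fin b → F), ∀ u, Q u = (lam' / c) • (B₁.val *ᵥ u) :=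
    ⟨(lam' / c) • Matrix.mulVecLin B₁.val, fun u => rfl⟩
  have hQpt : ∀ x u, (g * K * g⁻¹).val *ᵥ pt x u = pt x (Q u) := fun x u => by
    rw [hAB, hQ, show A₁.val *ᵥ x = (lam' / c) • x by
      rw [div_eq_inv_mul, mul_smul, ← hA, inv_smul_smul₀ hc0], pt_smul_left, pt_smul_right]
  -- eigenvectors
  have hrow : ∀ (P : GL (Fin a × Fin b) F) (L : (Fin b → F) →ₗ[F] (Fin b → F)),
      (∀ x u, P.val *ᵥ pt x u = pt x (L u)) → ∀ w i, (fun j => (P.val *ᵥ w) (i, j)) = L fun j => w (i, j) := by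
    intro P L hP w i
    have := LinearMap.congr_fun (lin_ext (L := (slA (Pi.single i 1)).comp (Matrix.mulVecLin P.val))
      (L' := L.comp (slA (Pi.single i 1))) fun x u => by
        change slA (Pi.single i 1) (P.val *ᵥ pt x u) = L (slA (Pi.single i 1) (pt x u))
        rw [hP, slA_pt, slA_pt, map_smul]) w
    have e1 : ∀ v : Fin a × Fin b → F, (fun j => v (i, j)) = slA (Pi.single i 1) v := fun v => by
      funext j; simp [slA, Pi.single_apply]
    rw [e1, e1]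
    exact this
  have heig : ∀ w, K.val *ᵥ w = lam • w → w ∈ pureW a v := fun w hw => mem_pureW_of_slices fun i => by
    obtain ⟨z, hz⟩ : ∃ z : Fin b → F, z = fun j => w (i, j) := ⟨_, rfl⟩
    have e1 := hrow K (Matrix.mulVecLin D.val) (fun x u => hKpt x u) w i
    rw [hw, ← hz, Matrix.mulVecLin_apply, hDv, hDl] at e1
    have e1' : lam • z = μ • z + ((lam - μ) * f₂ z e) • v + ((lam' - μ) * f₂ z v) • e := by
      rw [← e1, hz]; rfl
    have e2 := congrArg (fun u => f₂ u v) e1'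
    simp only [h2.add_left, h2.smul_left, hvv, hev] at e2
    have hzv : f₂ z v = 0 := by
      by_contra hne
      exact hll' (mul_right_cancel₀ hne (by linear_combination -e2))
    rw [hzv, mul_zero, zero_smul, add_zero] at e1'
    refine hz ▸ Submodule.mem_span_singleton.2 ⟨f₂ z e, smul_right_injective _ (sub_ne_zero.2 hlμ) ?_⟩
    simp only [smul_smul]
    rw [sub_smul lam μ z, e1']
    abel
  have hKv : ∀ x, K.val *ᵥ pt x v = lam • pt x v := fun x => by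
    rw [hKpt, hDv, hDl, hve, hvv, ← pt_smul_right]
    congr 1
    module
  obtain ⟨x₀, hx₀⟩ : ∃ x : Fin a → F, x ≠ 0 := ⟨Pi.single ⟨0, by have := C.dimA; omega⟩ 1, by simp⟩
  have hp0 : g.val *ᵥ pt x₀ v ≠ 0 := mulVec_ne_zero g fun h => hx₀ (pt_eq_zero hv0 h)
  obtain ⟨⟨i, j⟩, hij⟩ := Function.ne_iff.1 hp0
  obtain ⟨κ, hκdef⟩ : ∃ κ : Fin b → F, κ = fun j => (g.val *ᵥ pt x₀ v) (i, j) := ⟨_, rfl⟩
  have hκ0 : κ ≠ 0 := fun h => hij (by have := congrFun h j; rwa [hκdef] at this)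
  have hκ : Q κ = lam • κ := by
    rw [hκdef, ← hrow (g * K * g⁻¹) Q hQpt, Units.val_mul, Units.val_mul, ← mulVec_mulVec, ← mulVec_mulVec,
      Transvec.inv_mulVec_cancel, hKv, mulVec_smul]
    rfl
  refine ⟨κ, hκ0, (Submodule.eq_of_le_of_finrank_eq ?_ (by rw [TWMax.finrank_gim, finrank_pureW hκ0,
    finrank_pureW hv0])).symm⟩
  rintro _ ⟨y, rfl⟩
  refine TWMax.mem_gim.2 ⟨g⁻¹.val *ᵥ pt y κ, heig _ ?_, Transvec.mulVec_inv_cancel _ _⟩
  refine mulVec_injective g ?_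
  simp only
  have := hQpt y κ
  rw [hκ, pt_smul_right, Units.val_mul, Units.val_mul, ← mulVec_mulVec, ← mulVec_mulVec] at this
  rw [this, mulVec_smul, Transvec.mulVec_inv_cancel]

/-- An element sending every isotropic pure subspace to a pure one is a tensor product. -/
theorem kron_of_pures (h2 : Cfsg.Geo.IsUnitaryForm σ f₂) (ha : 0 < a) (hb : 2 ≤ b) (he0 : e ≠ 0)
    (hee : f₂ e e = 0) {g : GL (Fin a × Fin b) F}
    (h : ∀ v, v ≠ 0 → f₂ v v = 0 → ∃ v', v' ≠ 0 ∧ gim g (pureW a v) = pureW a v') : IsKron g := by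
  have himg : ∀ {v v' : Fin b → F}, gim g (pureW a v) = pureW a v' → ∀ x, ∃ y, g.val *ᵥ pt x v = pt y v' := by
    intro v v' hv x
    obtain ⟨y, hy⟩ : g.val *ᵥ pt x v ∈ pureW a v' := hv ▸ TWMax.mem_gim.2 ⟨_, pt_mem_pureW _ _, rfl⟩
    exact ⟨y, hy.symm⟩
  obtain ⟨e1, he10, he1⟩ := h e he0 hee
  obtain ⟨φ₀, -, hφ₀⟩ := exists_functional (E := (⊥ : Submodule F (Fin b → F))) (u := e1) (by simpa using he10)
  obtain ⟨G, hG⟩ : ∃ G : (Fin a → F) →ₗ[F] (Fin a → F), ∀ x, G x = sl φ₀ (g.val *ᵥ pt x e) :=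
    ⟨(sl φ₀).comp ((Matrix.mulVecLin g.val).comp (ptL e)), fun x => rfl⟩
  have hGe : ∀ x, g.val *ᵥ pt x e = pt (G x) e1 := fun x => by
    obtain ⟨y, hy⟩ := himg he1 x
    rw [hG, hy, sl_pt, hφ₀, one_smul]
  have hGinj : Function.Injective G := fun x y hxy =>
    pt_injective he0 (mulVec_injective g (by simp only [ptL_apply]; rw [hGe, hGe, hxy]))
  obtain ⟨x₀, hx₀⟩ : ∃ x : Fin a → F, x ≠ 0 := ⟨Pi.single ⟨0, ha⟩ 1, by simp⟩
  obtain ⟨Sm, hSm⟩ : ∃ Sm : Submodule F (Fin b → F), ∀ y, y ∈ Sm ↔ ∃ w, ∀ x, g.val *ᵥ pt x y = pt (G x) w :=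
    ⟨{ carrier := {y | ∃ w, ∀ x, g.val *ᵥ pt x y = pt (G x) w}
       zero_mem' := ⟨0, fun x => by simp [pt_zero_right]⟩
       add_mem' := fun {p q} ⟨w, hw⟩ ⟨w', hw'⟩ => ⟨w + w', fun x => by
         rw [pt_add_right, mulVec_add, hw, hw', pt_add_right]⟩
       smul_mem' := fun c p ⟨w, hw⟩ => ⟨c • w, fun x => by rw [pt_smul_right, mulVec_smul, hw, pt_smul_right]⟩ },
      fun y => Iff.rfl⟩
  have hiso : ∀ v, f₂ v v = 0 → v ∈ Sm := by
    intro v hv
    by_cases hve : v ∈ Submodule.span F ({e} : Set (Fin b → F))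
    · obtain ⟨c, rfl⟩ := Submodule.mem_span_singleton.1 hve
      exact (hSm _).2 ⟨c • e1, fun x => by rw [pt_smul_right, mulVec_smul, hGe, pt_smul_right]⟩
    have hv0 : v ≠ 0 := fun h0 => hve (h0 ▸ Submodule.zero_mem _)
    obtain ⟨v', hv'0, hv'⟩ := h v hv0 hv
    obtain ⟨γ, hγ0, hγ⟩ : ∃ γ : F, γ ≠ 0 ∧ γ * f₂ e v + σ (γ * f₂ e v) = 0 := by
      by_cases h0 : f₂ e v = 0
      · exact ⟨1, one_ne_zero, by simp [h0]⟩
      · obtain ⟨c, hc0, hc⟩ := exists_skew h2.ne_refl h2.involutive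
        exact ⟨c / f₂ e v, div_ne_zero hc0 h0, by rw [div_mul_cancel₀ _ h0, hc]⟩
    have hsum : f₂ (v + γ • e) (v + γ • e) = 0 := by
      simp only [h2.add_left, h2.smul_left, Unitary.add_right' h2, smul_right' h2, hv, hee]
      rw [map_mul, ← h2.herm] at hγ
      linear_combination hγ
    have hsum0 : v + γ • e ≠ 0 := fun h0 => hve (Submodule.mem_span_singleton.2
      ⟨-γ, by rw [neg_smul]; exact (eq_neg_of_add_eq_zero_left h0).symm⟩)
    obtain ⟨u, hu0, hu⟩ := h _ hsum0 hsum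
    have hind : v' ∉ Submodule.span F ({e1} : Set (Fin b → F)) := fun hm => by
      obtain ⟨c, hc⟩ := Submodule.mem_span_singleton.1 hm
      obtain ⟨y, hy⟩ := himg hv' x₀
      rw [← hc, pt_smul_right, ← pt_smul_left] at hy
      obtain ⟨_, ⟨y', rfl⟩, hy'⟩ := TWMax.mem_gim.1 (he1.ge (pt_mem_pureW (c • y) e1))
      have e2 : pt x₀ v = pt y' e := mulVec_injective g (hy.trans hy'.symm)
      obtain ⟨φ, hφ, hφv⟩ := exists_functional hve
      have := congrArg (sl φ) e2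
      rw [sl_pt, sl_pt, hφv, hφ e (Submodule.mem_span_singleton_self e), one_smul, zero_smul] at this
      exact hx₀ this
    have hind' : e1 ∉ Submodule.span F ({v'} : Set (Fin b → F)) := fun hm => by
      obtain ⟨c, hc⟩ := Submodule.mem_span_singleton.1 hm
      have hc0 : c ≠ 0 := fun h0 => he10 (by rw [← hc, h0, zero_smul])
      exact hind (Submodule.mem_span_singleton.2 ⟨c⁻¹, by rw [← hc, inv_smul_smul₀ hc0]⟩)
    obtain ⟨φ, hφ, hφv⟩ := exists_functional hind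
    obtain ⟨ψ, hψ, hψe⟩ := exists_functional hind'
    have hboth : ∀ x, ∃ w, sl φ (g.val *ᵥ pt x v) = (φ ⬝ᵥ u) • w ∧ γ • G x = (ψ ⬝ᵥ u) • w ∧
        g.val *ᵥ pt x v = pt (sl φ (g.val *ᵥ pt x v)) v' := fun x => by
      obtain ⟨w, hw⟩ := himg hu x
      obtain ⟨y, hy⟩ := himg hv' x
      rw [pt_add_right, pt_smul_right, mulVec_add, mulVec_smul, hGe, hy] at hw
      have a1 := congrArg (sl φ) hw
      have a2 := congrArg (sl ψ) hw
      rw [map_add, map_smul, sl_pt, sl_pt, sl_pt, hφv, hφ e1 (Submodule.mem_span_singleton_self e1), one_smul,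
        zero_smul, smul_zero, add_zero] at a1
      rw [map_add, map_smul, sl_pt, sl_pt, sl_pt, hψe, hψ v' (Submodule.mem_span_singleton_self v'), one_smul,
        zero_smul, zero_add] at a2
      refine ⟨w, ?_, a2, ?_⟩ <;> rw [hy, sl_pt, hφv, one_smul]
      exact a1
    have hψu : ψ ⬝ᵥ u ≠ 0 := fun h0 => by
      obtain ⟨w, -, hw, -⟩ := hboth x₀
      rw [h0, zero_smul, smul_eq_zero] at hw
      exact hx₀ (hGinj (by rw [hw.resolve_left hγ0, map_zero]))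
    refine (hSm _).2 ⟨((φ ⬝ᵥ u) * γ / (ψ ⬝ᵥ u)) • v', fun x => ?_⟩
    obtain ⟨w, hw1, hw2, hw3⟩ := hboth x
    rw [hw3, hw1, pt_smul_right, ← pt_smul_left]
    congr 1
    rw [mul_div_right_comm, mul_smul, hw2, smul_smul, div_mul_cancel₀ _ hψu]
  have hall : ∀ y, y ∈ Sm := fun y =>
    Submodule.span_le.2 (fun v hv => hiso v hv) (UnitT.span_iso h2 (by rw [Fintype.card_fin]; exact hb) y)
  obtain ⟨ψ, -, hψ⟩ := exists_functional (E := (⊥ : Submodule F (Fin a → F))) (u := G x₀)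
    (by simpa using fun h0 => hx₀ (hGinj (h0.trans (map_zero G).symm)))
  obtain ⟨B, hB⟩ : ∃ B : (Fin b → F) →ₗ[F] (Fin b → F), ∀ y, B y = slA ψ (g.val *ᵥ pt x₀ y) :=
    ⟨(slA ψ).comp ((Matrix.mulVecLin g.val).comp (ptR x₀)), fun y => rfl⟩
  have hgB : ∀ x y, g.val *ᵥ pt x y = pt (G x) (B y) := fun x y => by
    obtain ⟨w, hw⟩ := (hSm y).1 (hall y)
    rw [hw, hB, hw, slA_pt, hψ, one_smul]
  have hBinj : Function.Injective B := (injective_iff_map_eq_zero B).2 fun y hy => by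
    have := hgB x₀ y
    rw [hy, pt_zero_right] at this
    have h0 : pt x₀ y = 0 := mulVec_injective g (by simpa using this)
    obtain ⟨i, hi⟩ := Function.ne_iff.1 hx₀
    exact funext fun j => (mul_eq_zero.1 (congrFun h0 (i, j))).resolve_left hi
  exact isKron_of_apply (glOfLin G hGinj) (glOfLin B hBinj) fun x y => by
    rw [hgB, glOfLin_mulVec, glOfLin_mulVec]

end CfsgLib.Classical22.UWr
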