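/-
Isometries conjugating a slot group into a slot group, fixing a pure subspace, are tensor products.
-/
import Cfsg.Agent.Lib.Classical22.UnitWreath.Core

set_option autoImplicit false
set_option linter.unusedSectionVars false
set_option linter.unusedSimpArgs false

namespace CfsgLib.Classical22.UWr

open Matrix Kronecker CfsgLib.Transvec CfsgLib.Transvec.Unitary CfsgLib.Classical22.TensorMax
open CfsgLib.Classical22.TensorMax.SpO (kr kr_apply isKron_kr)
open CfsgLib.Classical22.TensorMax.UnitT (Tens ctr exists_partner exists_aniso_pair exists_iso_mem exists_dual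
  exists_move_iso)
open CfsgLib.Classical22.TWMax (mv mem_mv gim mem_gim gim_mul gim_inv_gim mv_conj finrank_gim)
open scoped MatrixGroups

variable {F : Type*} [Field F] [Finite F] {a b : ℕ} {σ : F ≃+* F}
  {f : (Fin a × Fin b → F) → (Fin a × Fin b → F) → F} {f₁ : (Fin a → F) → (Fin a → F) → F}
  {f₂ : (Fin b → F) → (Fin b → F) → F} {M : Subgroup (GL (Fin a × Fin b) F)}

lemma pureW_smul {u : Fin b → F} {c : F} (hc : c ≠ 0) : pureW a (c • u) = pureW a u := by
  refine le_antisymm ?_ ?_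
  · rintro _ ⟨x, rfl⟩
    exact ⟨c • x, by rw [ptL_apply, ptL_apply, pt_smul_left, pt_smul_right]⟩
  · rintro _ ⟨x, rfl⟩
    exact ⟨c⁻¹ • x, by rw [ptL_apply, ptL_apply, pt_smul_left, pt_smul_right, smul_smul, inv_mul_cancel₀ hc, one_smul]⟩

/-- The image of a pure subspace under a Kronecker element. -/
lemma gim_kr_pureW (A : GL (Fin a) F) (B : GL (Fin b) F) (u : Fin b → F) :
    gim (kr A B) (pureW a u) = pureW a (B.val *ᵥ u) := by
  refine le_antisymm ?_ ?_
  · intro v hv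
    obtain ⟨_, ⟨x, rfl⟩, rfl⟩ := mem_gim.1 hv
    rw [ptL_apply, kr_apply]
    exact pt_mem_pureW _ _
  · rintro _ ⟨x, rfl⟩
    exact mem_gim.2 ⟨pt (A⁻¹.val *ᵥ x) u, pt_mem_pureW _ _, by
      rw [kr_apply, Transvec.mulVec_inv_cancel, ptL_apply]⟩

/-- The moved space of a root of the second factor. -/
lemma mv_root (T : Tens σ f f₁ f₂) {u : Fin b → F} (hu0 : u ≠ 0) (hu : f₂ u u = 0) {c : F} (hc : c ≠ 0) :
    mv (kr (1 : GL (Fin a) F) (uT f₂ u c)) = pureW a u := by
  refine le_antisymm ?_ ?_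
  · intro v hv
    obtain ⟨w, rfl⟩ := mem_mv.1 hv
    rw [T.root_apply hu, add_sub_cancel_left]
    exact Submodule.smul_mem _ _ (pt_mem_pureW _ _)
  · rintro _ ⟨x, rfl⟩
    obtain ⟨y, hy⟩ := exists_dual T.right hu0 1
    exact mem_mv.2 ⟨pt (c⁻¹ • x) y, by
      rw [T.root_apply hu, add_sub_cancel_left, T.ctr_pt, hy, one_smul, pt_smul_left, smul_inv_smul₀ hc, ptL_apply]⟩

/-- An isometry sends isotropic pure subspaces only to isotropic ones. -/
lemma iso_of_image (T : Tens σ f f₁ f₂) (ha : 0 < a) {g : GL (Fin a × Fin b) F} (hgi : Iso f g) {u r : Fin b → F}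
    (hu : f₂ u u = 0) (h : gim g (pureW a u) = pureW a r) : f₂ r r = 0 := by
  obtain ⟨x, hx⟩ : ∃ x : Fin a → F, x ≠ 0 := ⟨Pi.single ⟨0, ha⟩ 1, by simp⟩
  obtain ⟨y, hy⟩ := (T.left.nondegenerate x hx).2
  obtain ⟨_, ⟨p, rfl⟩, hp⟩ := mem_gim.1 (h.ge (pt_mem_pureW x r))
  obtain ⟨_, ⟨q, rfl⟩, hq⟩ := mem_gim.1 (h.ge (pt_mem_pureW y r))
  have e := hgi (ptL u p) (ptL u q)
  rw [hp, hq, ptL_apply, ptL_apply, T.pure, T.pure, hu, mul_zero] at e
  exact (mul_eq_zero.1 e).resolve_left hy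

/-- In dimension three the isotropic vectors orthogonal to an isotropic one lie on its line. -/
lemma mem_span_of_three (h2 : Cfsg.Geo.IsUnitaryForm σ f₂) (hb : b = 3) {e v : Fin b → F} (he0 : e ≠ 0)
    (hee : f₂ e e = 0) (hvv : f₂ v v = 0) (hve : f₂ v e = 0) : v ∈ Submodule.span F ({e} : Set (Fin b → F)) := by
  obtain ⟨e', he', h, h'⟩ := exists_partner h2 he0 hee
  obtain ⟨q, hqe, hqe', hqq⟩ := exists_aniso_pair h2 (by rw [Fintype.card_fin]; omega) hee he' h
  have hli : LinearIndependent F ![e, e', q] := by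
    rw [Fintype.linearIndependent_iff]
    intro g hg
    simp only [Fin.sum_univ_three, Matrix.cons_val_zero, Matrix.cons_val_one, Matrix.cons_val_two,
      Matrix.head_cons, Matrix.tail_cons] at hg
    have a1 := congrArg (fun z => f₂ z e) hg
    have a2 := congrArg (fun z => f₂ z e') hg
    have a3 := congrArg (fun z => f₂ z q) hg
    simp only [h2.add_left, h2.smul_left, zero_left' h2, hee, h, hqe, he', h', hqe', (eq_zero_comm h2).1 hqe,
      (eq_zero_comm h2).1 hqe', mul_zero, add_zero, zero_add, mul_one, mul_eq_zero, hqq, or_false] at a1 a2 a3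
    intro i
    fin_cases i <;> assumption
  have htop := hli.span_eq_top_of_card_eq_finrank' (by rw [Fintype.card_fin, Module.finrank_fin_fun, hb])
  obtain ⟨c, hc⟩ := (Submodule.mem_span_range_iff_exists_fun F).1 (htop ▸ Submodule.mem_top : v ∈ _)
  simp only [Fin.sum_univ_three, Matrix.cons_val_zero, Matrix.cons_val_one, Matrix.cons_val_two,
    Matrix.head_cons, Matrix.tail_cons] at hc
  rw [← hc] at hve hvv
  simp only [h2.add_left, h2.smul_left, Unitary.add_right' h2, smul_right' h2, hee, h, h', he', hqe, hqe',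
    (eq_zero_comm h2).1 hqe, (eq_zero_comm h2).1 hqe', mul_zero, add_zero, zero_add, mul_one] at hve hvv
  rw [hve] at hvv hc
  simp only [map_zero, zero_mul, mul_zero, add_zero, zero_add, mul_eq_zero, hqq, or_false,
    map_eq_zero_iff _ σ.injective, or_self] at hvv
  exact Submodule.mem_span_singleton.2 ⟨c 0, by rw [← hc, hvv, zero_smul, zero_smul, add_zero, add_zero]⟩

/-- An isometry conjugating the slot group into `M` and fixing a pure subspace is a tensor product. -/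
theorem kron_of_conj (C : SCtx σ f f₁ f₂ M) (hbig : 4 ≤ b ∨ ∃ r : F, σ r = r ∧ r ≠ 0 ∧ r ≠ 1)
    {g : GL (Fin a × Fin b) F} (hgi : Iso f g)
    (hg : ∀ B : GL (Fin b) F, Iso f₂ B → B.val.det = 1 → g * kr (1 : GL (Fin a) F) B * g⁻¹ ∈ M)
    {e : Fin b → F} (he0 : e ≠ 0) (hee : f₂ e e = 0) (hfix : gim g (pureW a e) = pureW a e) : IsKron g := by
  classical
  have T := C.tens
  have h2 := T.right
  have ha := C.dimA
  refine kron_of_pures h2 (by omega) (by have := C.three; omega) he0 hee fun v hv0 hvv => ?_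
  by_cases hve : v ∈ Submodule.span F ({e} : Set (Fin b → F))
  · obtain ⟨c, rfl⟩ := Submodule.mem_span_singleton.1 hve
    exact ⟨e, he0, by rw [pureW_smul (left_ne_zero_of_smul hv0), hfix]⟩
  by_cases hb : b = 3
  · obtain ⟨r, hr, hr0, hr1⟩ := hbig.resolve_left (by omega)
    have hne : f₂ v e ≠ 0 := fun h => hve (mem_span_of_three h2 hb he0 hee hvv h)
    obtain ⟨κ, hκ0, hκ⟩ := C.pure_of_torus hb hr hr0 hr1 he0 hee (v := (f₂ v e)⁻¹ • v)
      (by rw [h2.smul_left, smul_right' h2, hvv, mul_zero, mul_zero])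
      (by rw [h2.smul_left, inv_mul_cancel₀ hne]) hgi hg hfix
    exact ⟨κ, hκ0, by rwa [pureW_smul (inv_ne_zero hne)] at hκ⟩
  have hb4 : 4 ≤ b := by have := C.three; omega
  obtain ⟨cs, hcs0, hcs⟩ := exists_skew h2.ne_refl h2.involutive
  have step : ∀ (g : GL (Fin a × Fin b) F), Iso f g →
      (∀ B : GL (Fin b) F, Iso f₂ B → B.val.det = 1 → g * kr (1 : GL (Fin a) F) B * g⁻¹ ∈ M) →
      ∀ e : Fin b → F, e ≠ 0 → f₂ e e = 0 → gim g (pureW a e) = pureW a e →
      ∀ v, v ≠ 0 → f₂ v v = 0 → f₂ v e = 0 →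
      ∃ r, r ≠ 0 ∧ f₂ r r = 0 ∧ gim g (pureW a v) = pureW a r := by
    intro g hgi hg e he0 hee hfix v hv0 hvv hve
    obtain ⟨z, hz⟩ : ∃ z, z = g * kr (1 : GL (Fin a) F) (uT f₂ v cs) * g⁻¹ := ⟨_, rfl⟩
    have hzM : z ∈ M := hz ▸ hg _ (iso_uT h2 hvv hcs)
      ((mem_specialLinear_iff _).mp (transv_mem_specialLinear v (cs • uvec f₂ v)))
    have hzfix : ∀ x, z.val *ᵥ pt x e = pt x e := fun x => by
      obtain ⟨_, ⟨y, rfl⟩, hy⟩ := mem_gim.1 (hfix.ge (pt_mem_pureW x e))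
      rw [ptL_apply] at hy
      rw [hz, Transvec.mul_mulVec, ← hy, Transvec.inv_mulVec_cancel, Transvec.mul_mulVec, T.root_apply hvv, T.ctr_pt,
        (eq_zero_comm h2).1 hve, zero_smul, pt_zero_left, smul_zero, add_zero]
    have hmv : mv z = gim g (pureW a v) := by rw [hz, mv_conj, mv_root T hv0 hvv hcs0]
    obtain ⟨r, hr0, hr⟩ := C.pure_of_fix he0 hee hzM hzfix (fun p hp q hq => by
      rw [hmv] at hp hq
      obtain ⟨_, ⟨x, rfl⟩, rfl⟩ := mem_gim.1 hp
      obtain ⟨_, ⟨y, rfl⟩, rfl⟩ := mem_gim.1 hq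
      rw [hgi, ptL_apply, ptL_apply, T.pure, hvv, mul_zero]) (by rw [hmv, finrank_gim, finrank_pureW hv0])
    rw [hmv] at hr
    exact ⟨r, hr0, iso_of_image T (by omega) hgi hvv hr, hr⟩
  by_cases hfe : f₂ v e = 0
  · obtain ⟨r, hr0, -, hr⟩ := step g hgi hg e he0 hee hfix v hv0 hvv hfe
    exact ⟨r, hr0, hr⟩
  obtain ⟨w, hw, hw0, hww⟩ := exists_iso_mem h2 (U := LinearMap.ker ((linL h2 e).prod (linL h2 v))) (by
    have h1 := LinearMap.finrank_range_add_finrank_ker ((linL h2 e).prod (linL h2 v))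
    have h3 := Submodule.finrank_le (LinearMap.range ((linL h2 e).prod (linL h2 v)))
    rw [Module.finrank_prod, Module.finrank_self] at h3
    rw [Module.finrank_fin_fun] at h1
    omega)
  have hwe : f₂ w e = 0 := congrArg Prod.fst (LinearMap.mem_ker.1 hw)
  have hwv : f₂ w v = 0 := congrArg Prod.snd (LinearMap.mem_ker.1 hw)
  obtain ⟨r, hr0, hrr, hr⟩ := step g hgi hg e he0 hee hfix w hw0 hww hwe
  obtain ⟨B, hB, c, hc, hBr⟩ := exists_move_iso h2 (by rw [Fintype.card_fin]; omega) hr0 hw0 hrr hww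
  obtain ⟨hBi, hBd⟩ := transvGroup_le h2 hB
  obtain ⟨g', hg'⟩ : ∃ g', g' = kr (1 : GL (Fin a) F) B * g := ⟨_, rfl⟩
  have hBM := C.krB B hBi hBd
  have hg'i : Iso f g' := fun x y => by
    rw [hg', Transvec.mul_mulVec, Transvec.mul_mulVec, C.iso hBM, hgi]
  obtain ⟨r', hr'0, -, hr'⟩ := step g' hg'i (fun B' h h' => by
      rw [hg', show kr (1 : GL (Fin a) F) B * g * kr 1 B' * (kr 1 B * g)⁻¹ =
        kr 1 B * (g * kr 1 B' * g⁻¹) * (kr 1 B)⁻¹ from by group]
      exact mul_mem (mul_mem hBM (hg B' h h')) (inv_mem hBM))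
    w hw0 hww (by rw [hg', gim_mul, hr, gim_kr_pureW, hBr, pureW_smul hc]) v hv0 hvv ((eq_zero_comm h2).1 hwv)
  refine ⟨B⁻¹.val *ᵥ r', Transvec.mulVec_ne_zero _ hr'0, ?_⟩
  rw [hg', gim_mul] at hr'
  have e1 : gim (kr (1 : GL (Fin a) F) B) (pureW a (B⁻¹.val *ᵥ r')) = pureW a r' := by
    rw [gim_kr_pureW, Transvec.mulVec_inv_cancel]
  rw [← gim_inv_gim (kr (1 : GL (Fin a) F) B) (gim g (pureW a v)), hr', ← e1, gim_inv_gim]

end CfsgLib.Classical22.UWr
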