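/-
Elements sending one isotropic pure subspace to a pure one lie in the tensor wreath group.
-/
import Cfsg.Agent.Lib.Classical22.UnitWreath.SlotKron
import Cfsg.Agent.Lib.Classical22.TensorWreathMax.Conj

set_option autoImplicit false
set_option linter.unusedSectionVars false
set_option linter.unusedSimpArgs false

namespace CfsgLib.Classical22.UWr

open Matrix Kronecker CfsgLib.Transvec CfsgLib.Transvec.Unitary CfsgLib.Classical22.TensorMax
open CfsgLib.Classical22.TWMax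
open CfsgLib.Classical22.TensorMax.SpO (kr kr_apply isKron_kr)
open CfsgLib.Classical22.TensorMax.UnitT (Tens det_kr exists_iso exists_move_iso)
open scoped MatrixGroups

variable {F : Type*} [Field F]

lemma kr_mul {a b : ℕ} (A A' : GL (Fin a) F) (B B' : GL (Fin b) F) : kr A B * kr A' B' = kr (A * A') (B * B') :=
  ext_pt fun x j => by
    rw [Transvec.mul_mulVec, kr_apply, kr_apply, kr_apply, Transvec.mul_mulVec, Transvec.mul_mulVec]

lemma kr_one {a b : ℕ} : kr (1 : GL (Fin a) F) (1 : GL (Fin b) F) = 1 :=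
  ext_pt fun x j => by rw [kr_apply]; simp only [Units.val_one, one_mulVec]

lemma kr_inv {a b : ℕ} (A : GL (Fin a) F) (B : GL (Fin b) F) : (kr A B)⁻¹ = kr A⁻¹ B⁻¹ :=
  inv_eq_of_mul_eq_one_right (by rw [kr_mul, mul_inv_cancel, mul_inv_cancel, kr_one])

lemma kr_pow {a b : ℕ} (A : GL (Fin a) F) (B : GL (Fin b) F) (n : ℕ) : kr A B ^ n = kr (A ^ n) (B ^ n) := by
  induction n with
  | zero => simp [kr_one]
  | succ n ih => rw [pow_succ, ih, kr_mul, ← pow_succ, ← pow_succ]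

lemma iso_inv {ι : Type} [Fintype ι] [DecidableEq ι] {f : (ι → F) → (ι → F) → F} {g : GL ι F} (h : Iso f g) :
    Iso f g⁻¹ := fun x y => by
  rw [← h, Transvec.mulVec_inv_cancel, Transvec.mulVec_inv_cancel]

lemma iso_mul {ι : Type} [Fintype ι] [DecidableEq ι] {f : (ι → F) → (ι → F) → F} {g g' : GL ι F} (h : Iso f g)
    (h' : Iso f g') : Iso f (g * g') := fun x y => by
  rw [Transvec.mul_mulVec, Transvec.mul_mulVec, h, h']

lemma uT_mul {ι : Type} [Fintype ι] [DecidableEq ι] {σ : F ≃+* F} {f : (ι → F) → (ι → F) → F}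
    (hf : Cfsg.Geo.IsUnitaryForm σ f) {v : ι → F} (hv : f v v = 0) (c d : F) :
    uT f v c * uT f v d = uT f v (c + d) := gl_ext fun x => by
  rw [Transvec.mul_mulVec, uT_mulVec hf hv, uT_mulVec hf hv, uT_mulVec hf hv, hf.add_left, hf.smul_left, hv]
  module

lemma uT_pow {ι : Type} [Fintype ι] [DecidableEq ι] {σ : F ≃+* F} {f : (ι → F) → (ι → F) → F}
    (hf : Cfsg.Geo.IsUnitaryForm σ f) {v : ι → F} (hv : f v v = 0) (c : F) (n : ℕ) :
    uT f v c ^ n = uT f v ((n : F) * c) := by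
  induction n with
  | zero => exact gl_ext fun x => by rw [uT_mulVec hf hv]; simp
  | succ n ih => rw [pow_succ, ih, uT_mul hf hv]; congr 1; push_cast; ring

variable [Finite F] {t k : ℕ} {σ : F ≃+* F} {f₁ : (Fin k → F) → (Fin k → F) → F}

lemma slotG_comp (s : Fin (t + 1)) (g : GL (Idx (t + 1) k) F) (v : Fin (k ^ t) × Fin k → F) :
    ((slotG s g).val *ᵥ v) ∘ slotE s = g.val *ᵥ (v ∘ slotE s) := by
  have h := glReindex_mulVec (slotE s) g (v ∘ slotE s)
  rw [Function.comp_assoc, Equiv.self_comp_symm, Function.comp_id] at h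
  rw [slotG, h, Function.comp_assoc, Equiv.symm_comp_self, Function.comp_id]

lemma iso_slotG {s : Fin (t + 1)} {g : GL (Idx (t + 1) k) F} :
    Iso (sform σ f₁ s) (slotG s g) ↔ Iso (tform σ f₁ (t + 1)) g := by
  constructor
  · intro h v w
    have := h (v ∘ (slotE s).symm) (w ∘ (slotE s).symm)
    simp only [sform, slotG_comp] at this
    simpa [Function.comp_assoc] using this
  · intro h v w
    simp only [sform, slotG_comp]
    exact h _ _

lemma iso_flatG {A : GL (Idx t k) F} : Iso (pform σ f₁ t) (flatG t k A) ↔ Iso (tform σ f₁ t) A := by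
  have hc : ∀ v : Fin (k ^ t) → F, ((flatG t k A).val *ᵥ v) ∘ flatE t k = A.val *ᵥ (v ∘ flatE t k) := fun v => by
    have h := glReindex_mulVec (flatE t k) A (v ∘ flatE t k)
    rw [Function.comp_assoc, Equiv.self_comp_symm, Function.comp_id] at h
    rw [flatG, h, Function.comp_assoc, Equiv.symm_comp_self, Function.comp_id]
  constructor
  · intro h v w
    have := h (v ∘ (flatE t k).symm) (w ∘ (flatE t k).symm)
    simp only [pform, hc] at this
    simpa [Function.comp_assoc] using this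
  · intro h v w
    simp only [pform, hc]
    exact h _ _

lemma det_flatG (A : GL (Idx t k) F) : (flatG t k A).val.det = A.val.det := by
  rw [flatG_val, Matrix.reindexAlgEquiv_apply, Matrix.det_reindex_self]

lemma slotW_smul (s : Fin (t + 1)) {u : Fin k → F} {c : F} (hc : c ≠ 0) : slotW s (c • u) = slotW s u := by
  rw [slotW, slotW, pureW_smul hc]

lemma gim_slotEl (s : Fin (t + 1)) (B : GL (Fin k) F) {u : Fin k → F} (hu : u ≠ 0) :
    gim (slotEl s B) (slotW s u) = slotW s (B.val *ᵥ u) := by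
  have := (slotEl_data s B).gim_slotW s hu
  rwa [Equiv.Perm.one_apply, Function.update_self] at this

lemma gim_slotG {s : Fin (t + 1)} {g : GL (Idx (t + 1) k) F} {u u' : Fin k → F} (hu : u ≠ 0) (hu' : u' ≠ 0)
    (h : gim g (slotW s u) = slotW s u') : gim (slotG s g) (pureW (k ^ t) u) = pureW (k ^ t) u' := by
  refine Submodule.eq_of_le_of_finrank_eq ?_ (by rw [finrank_gim, finrank_pureW hu, finrank_pureW hu'])
  intro v hv
  obtain ⟨w, hw, rfl⟩ := mem_gim.1 hv
  have hm : (w ∘ slotE s) ∈ slotW s u := by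
    rw [mem_slotW, Function.comp_assoc, Equiv.self_comp_symm, Function.comp_id]; exact hw
  have := h ▸ mem_gim.2 ⟨_, hm, rfl⟩
  rw [← slotG_comp, mem_slotW, Function.comp_assoc, Equiv.self_comp_symm, Function.comp_id] at this
  exact this

/-- The statement to be proved by induction on the number of slots. -/
def UDich (σ : F ≃+* F) (f₁ : (Fin k → F) → (Fin k → F) → F) (t : ℕ) : Prop :=
  ∀ M : Subgroup (GL (Idx (t + 1) k) F), UCtx σ f₁ M →
    (∀ v, tform σ f₁ (t + 1) v v = 0 → UFull σ (tform σ f₁ (t + 1)) M v) ∨ ∀ g ∈ M, IsTW g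

/-- The hypotheses of the inductive step. -/
structure UHyp {T : ℕ} (σ : F ≃+* F) (f₁ : (Fin k → F) → (Fin k → F) → F)
    (M : Subgroup (GL (Idx (T + 2) k) F)) : Prop where
  ctx : UCtx σ f₁ M
  notFull : NotFull σ f₁ M
  ih : UDich σ f₁ T

variable {T : ℕ} {M : Subgroup (GL (Idx (T + 2) k) F)}

/-- The group seen from one slot. -/
theorem UCtx.sctx (C : UCtx σ f₁ M) (hne : NotFull σ f₁ M) (s : Fin (T + 2)) :
    SCtx σ (sform σ f₁ s) (pform σ f₁ (T + 1)) f₁ (M.map (slotG s).toMonoidHom) where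
  tens := tens C.data.uni s
  dimA := by
    have h3 := C.data.three
    calc 2 ≤ k ^ 1 := by rw [pow_one]; omega
      _ ≤ k ^ (T + 1) := Nat.pow_le_pow_right (by omega) (by omega)
  three := C.data.three
  iso := by
    rintro _ ⟨g, hg, rfl⟩
    exact iso_slotG.2 (C.iso g hg)
  krB B hB hd := ⟨slotEl s B, C.slotEl_mem s hB hd, slotG_slotEl s B⟩
  scalar e he0 hee S hS := scalar_shear C hne he0 hee hS

/-- An element of `M` that is a tensor product at one slot lies in the tensor wreath group. -/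
theorem UHyp.tw_of_kron (H : UHyp σ f₁ M) {g : GL (Idx (T + 2) k) F} (hgi : Iso (tform σ f₁ (T + 2)) g)
    (hor : T = 0 ∨ g ∈ M) {s : Fin (T + 2)} (hK : IsKron (slotG s g)) : IsTW g := by
  classical
  obtain ⟨A₀, B, hAB⟩ := hK
  have hAB : slotG s g = kr A₀ B := Units.ext hAB
  rcases hor with rfl | hg
  · obtain ⟨A, rfl⟩ := (flatG 1 k).surjective A₀
    obtain ⟨π, as, hA⟩ := isTW_one A
    exact twData_of_kr s hA B hAB
  by_cases hT : T = 0
  · subst hT
    obtain ⟨A, rfl⟩ := (flatG 1 k).surjective A₀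
    obtain ⟨π, as, hA⟩ := isTW_one A
    exact twData_of_kr s hA B hAB
  have C := H.ctx
  have h1 := C.data.uni
  have hp := uni_pform h1 (t := T + 1)
  have TT := tens h1 s
  have hk := C.data.three
  obtain ⟨x₀, hx₀⟩ : ∃ x : Fin (k ^ (T + 1)) → F, x ≠ 0 :=
    ⟨Pi.single ⟨0, Nat.pow_pos (by omega)⟩ 1, by simp⟩
  obtain ⟨y₀, hy₀⟩ := (hp.nondegenerate x₀ hx₀).2
  obtain ⟨u₀, hu₀⟩ : ∃ u : Fin k → F, u ≠ 0 := ⟨Pi.single ⟨0, by omega⟩ 1, by simp⟩
  obtain ⟨v₀, hv₀⟩ := (h1.nondegenerate u₀ hu₀).2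
  have hmul : ∀ x y u v, pform σ f₁ (T + 1) (A₀.val *ᵥ x) (A₀.val *ᵥ y) * f₁ (B.val *ᵥ u) (B.val *ᵥ v) =
      pform σ f₁ (T + 1) x y * f₁ u v := fun x y u v => by
    have := (iso_slotG (s := s)).2 hgi (pt x u) (pt y v)
    rwa [hAB, kr_apply, kr_apply, TT.pure, TT.pure] at this
  obtain ⟨α, hα⟩ : ∃ α, α = pform σ f₁ (T + 1) (A₀.val *ᵥ x₀) (A₀.val *ᵥ y₀) := ⟨_, rfl⟩
  have hα0 : α ≠ 0 := fun h0 => by
    have := hmul x₀ y₀ u₀ v₀
    rw [← hα, h0, zero_mul] at this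
    exact mul_ne_zero hy₀ hv₀ this.symm
  obtain ⟨μ, hμ⟩ : ∃ μ, μ = pform σ f₁ (T + 1) x₀ y₀ / α := ⟨_, rfl⟩
  have hB : ∀ u v, f₁ (B.val *ᵥ u) (B.val *ᵥ v) = μ * f₁ u v := fun u v => by
    rw [hμ, div_mul_eq_mul_div, eq_div_iff hα0, hα, ← hmul x₀ y₀ u v, mul_comm]
  have hμ0 : μ ≠ 0 := hμ ▸ div_ne_zero hy₀ hα0
  have hμs : σ μ = μ := by
    have e := h1.herm (B.val *ᵥ u₀) (B.val *ᵥ v₀)
    rw [hB, hB, map_mul, ← h1.herm] at e
    exact (mul_right_cancel₀ hv₀ e).symm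
  obtain ⟨l, hl⟩ := exists_norm_eq h1.ne_refl h1.involutive (b := μ⁻¹) (by rw [map_inv₀, hμs])
  have hl0 : l ≠ 0 := fun h0 => inv_ne_zero hμ0 (by rw [← hl, h0, zero_mul])
  obtain ⟨B', hB'⟩ : ∃ B' : GL (Fin k) F, ∀ u, B'.val *ᵥ u = l • (B.val *ᵥ u) :=
    ⟨⟨l • B.val, l⁻¹ • B⁻¹.val,
      by rw [Matrix.smul_mul, Matrix.mul_smul, smul_smul, mul_inv_cancel₀ hl0, Units.mul_inv, one_smul],
      by rw [Matrix.smul_mul, Matrix.mul_smul, smul_smul, inv_mul_cancel₀ hl0, Units.inv_mul, one_smul]⟩,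
      fun u => smul_mulVec _ _ _⟩
  obtain ⟨A₁, hA₁⟩ : ∃ A₁ : GL (Fin (k ^ (T + 1))) F, ∀ x, A₁.val *ᵥ x = l⁻¹ • (A₀.val *ᵥ x) :=
    ⟨⟨l⁻¹ • A₀.val, l • A₀⁻¹.val,
      by rw [Matrix.smul_mul, Matrix.mul_smul, smul_smul, inv_mul_cancel₀ hl0, Units.mul_inv, one_smul],
      by rw [Matrix.smul_mul, Matrix.mul_smul, smul_smul, mul_inv_cancel₀ hl0, Units.inv_mul, one_smul]⟩,
      fun u => smul_mulVec _ _ _⟩
  have hB'i : Iso f₁ B' := fun u v => by
    rw [hB', hB', h1.smul_left, smul_right' h1, hB, ← mul_assoc, ← mul_assoc, hl, inv_mul_cancel₀ hμ0, one_mul]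
  have hgk : slotG s g = kr A₁ B' := by
    refine ext_pt fun x j => ?_
    rw [hAB, kr_apply, kr_apply, hA₁, hB', pt_smul_left, pt_smul_right, smul_smul, inv_mul_cancel₀ hl0, one_smul]
  have hA₁i : Iso (pform σ f₁ (T + 1)) A₁ := fun x y => by
    have := (iso_slotG (s := s)).2 hgi (pt x u₀) (pt y v₀)
    rw [hgk, kr_apply, kr_apply, TT.pure, TT.pure, hB'i] at this
    exact mul_right_cancel₀ hv₀ this
  obtain ⟨A, rfl⟩ := (flatG (T + 1) k).surjective A₁
  -- the group on the other slots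
  obtain ⟨Ms, hMs⟩ : ∃ Ms : Subgroup (GL (Idx (T + 1) k) F), ∀ a, a ∈ Ms ↔ Iso (tform σ f₁ (T + 1)) a ∧
      ∃ b : GL (Fin k) F, Iso f₁ b ∧ kr (flatG (T + 1) k a) b ∈ M.map (slotG s).toMonoidHom :=
    ⟨{ carrier := {a | Iso (tform σ f₁ (T + 1)) a ∧ ∃ b : GL (Fin k) F, Iso f₁ b ∧
          kr (flatG (T + 1) k a) b ∈ M.map (slotG s).toMonoidHom}
       one_mem' := ⟨fun x y => by simp, 1, fun x y => by simp, by rw [map_one, kr_one]; exact one_mem _⟩
       mul_mem' := fun {a a'} ⟨ha, b, hb, hm⟩ ⟨ha', b', hb', hm'⟩ => ⟨iso_mul ha ha', b * b', iso_mul hb hb', by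
         rw [map_mul, ← kr_mul]; exact mul_mem hm hm'⟩
       inv_mem' := fun {a} ⟨ha, b, hb, hm⟩ => ⟨iso_inv ha, b⁻¹, iso_inv hb, by
         rw [map_inv, ← kr_inv]; exact inv_mem hm⟩ }, fun a => Iff.rfl⟩
  have Cs : UCtx σ f₁ Ms := by
    refine ⟨C.data, fun a ha => ((hMs a).1 ha).1, fun a ha hai had => (hMs a).2 ⟨hai, 1, fun x y => by simp, ?_⟩⟩
    obtain ⟨π, as, had'⟩ := ha
    obtain ⟨g₀, hg₀⟩ := (slotG s).surjective (kr (flatG (T + 1) k a) (1 : GL (Fin k) F))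
    refine ⟨g₀, C.le g₀ (twData_of_kr s had' 1 hg₀) ((iso_slotG (s := s)).1 ?_) ?_, hg₀⟩
    · rw [hg₀]
      exact TT.iso_kr (m := 1) (n := 1) (fun x y => by rw [one_mul, iso_flatG.2 hai]) (fun x y => by simp)
        (one_mul 1)
    · have e := det_slotG s g₀
      rw [hg₀, det_kr, det_flatG, had, one_pow, Units.val_one, det_one, one_pow, one_mul] at e
      exact e.symm
  have hAs : A ∈ Ms := (hMs A).2 ⟨iso_flatG.1 hA₁i, B', hB'i, g, hg, hgk⟩
  rcases H.ih Ms Cs with hfull | htw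
  · exfalso
    obtain ⟨e, he0, hee⟩ := exists_iso h1 (by rw [Fintype.card_fin]; omega)
    obtain ⟨cs, hcs0, hcs⟩ := exists_skew h1.ne_refl h1.involutive
    obtain ⟨p, hpdef⟩ : ∃ p : Idx (T + 1) k → F, p = pv fun _ => e := ⟨_, rfl⟩
    have hu := uni_tform h1 (t := T + 1)
    have hpp : tform σ f₁ (T + 1) p p = 0 := by
      rw [hpdef, tform_pv h1]; exact Finset.prod_eq_zero (Finset.mem_univ 0) hee
    obtain ⟨-, b, hb, hm⟩ := (hMs _).1 ((hfull p hpp).2 cs hcs)
    letI := Fintype.ofFinite F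
    obtain ⟨n, hn⟩ : ∃ n, n + 1 = Fintype.card F := ⟨_, Nat.sub_add_cancel Fintype.card_pos⟩
    have hnF : (n : F) = -1 := by
      have := FiniteField.cast_card_eq_zero F
      rw [← hn, Nat.cast_succ] at this
      exact eq_neg_of_add_eq_zero_left this
    have hbn : ∀ m : ℕ, Iso f₁ (b ^ m) := fun m => by
      induction m with
      | zero => exact fun x y => by simp
      | succ m ih => rw [pow_succ]; exact iso_mul ih hb
    have hbd : (b ^ n).val.det = 1 := by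
      rw [Units.val_pow_eq_pow_val, det_pow, show n = Fintype.card F - 1 by omega]
      refine FiniteField.pow_card_sub_one_eq_one _ ?_
      exact (b.isUnit.map (Matrix.detMonoidHom (R := F))).ne_zero
    have hm' := mul_mem (pow_mem hm n) (inv_mem ((C.sctx H.notFull s).krB _ (hbn n) hbd))
    rw [kr_pow, kr_inv, kr_mul, inv_one, mul_one, mul_inv_cancel, ← map_pow, uT_pow hu hpp, hnF] at hm'
    obtain ⟨g₀, hg₀M, hg₀⟩ := hm'
    rw [neg_one_mul] at hg₀
    obtain ⟨S, hS⟩ : ∃ S, S = (Finset.univ : Finset (Fin (T + 2))).erase s := ⟨_, rfl⟩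
    refine H.notFull (UCtx.full_of_roots T M C _ S (fun _ => e) (-cs) rfl ?_ (fun _ => ⟨he0, hee⟩) (neg_ne_zero.2 hcs0)
      ⟨g₀, hg₀M, mat_ext_pv fun xs => (slotE s).symm.surjective.injective_comp_right ?_⟩)
    · rw [hS, Finset.card_erase_of_mem (Finset.mem_univ s), Finset.card_univ, Fintype.card_fin]; omega
    simp only
    obtain ⟨cf, hcf⟩ : ∃ cf : Fin (T + 2) → F, cf = fun l => if l ∈ S then f₁ (xs l) e else 1 := ⟨_, rfl⟩
    have hN : nT f₁ S (fun _ => e) *ᵥ pv xs =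
        (∏ l, cf l) • pv (fun l => if l ∈ S then e else xs l) := by
      rw [nT, tmat_mulVec, ← pv_smul]
      congr 1
      funext l
      rw [hcf]
      by_cases hl : l ∈ S
      · simp [hl, nd_mulVec h1]
      · simp [hl]
    have hprod : ∏ l, cf l = tform σ f₁ (T + 1) (pv fun j => xs (s.succAbove j)) p := by
      rw [Fin.prod_univ_succAbove _ s, hpdef, tform_pv h1, hcf]
      simp [hS, Fin.succAbove_ne]
    rw [add_mulVec, one_mulVec, smul_mulVec, hN, hprod, ← glReindex_mulVec, ← slotG, slot_vec]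
    change (slotG s g₀).val *ᵥ _ = _
    rw [show slotG s g₀ = kr (flatG (T + 1) k (uT (tform σ f₁ (T + 1)) p (-cs))) (1 : GL (Fin k) F) from hg₀,
      kr_apply, flatG_apply, uT_mulVec hu hpp, Units.val_one, one_mulVec]
    funext q
    obtain ⟨w, rfl⟩ := (slotE s).surjective q
    simp only [Function.comp_apply, Equiv.symm_apply_apply, Pi.add_apply, Pi.smul_apply, smul_eq_mul]
    simp only [slotE_apply, pt, Equiv.symm_apply_apply, Function.comp_apply, Pi.add_apply, Pi.smul_apply, smul_eq_mul]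
    simp only [pv, hpdef, Equiv.symm_apply_apply, Fin.prod_univ_succAbove _ s, hS, Finset.mem_erase, Finset.mem_univ,
      Fin.succAbove_ne, ne_eq, not_false_eq_true, not_true, and_true, if_true, if_false, and_self]
    ring
  · obtain ⟨π, as, hA⟩ := htw A hAs
    exact twData_of_kr s hA B' hgk

/-- An element of `M` sending an isotropic pure subspace to a pure one lies in the tensor wreath group. -/
theorem UHyp.tw_of_image (H : UHyp σ f₁ M) {g : GL (Idx (T + 2) k) F} (hg : g ∈ M) {s r : Fin (T + 2)}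
    {e e' : Fin k → F} (he0 : e ≠ 0) (he0' : e' ≠ 0) (hee : f₁ e e = 0) (hee' : f₁ e' e' = 0)
    (himg : gim g (slotW s e) = slotW r e') : IsTW g := by
  classical
  haveI := Fintype.ofFinite F
  have C := H.ctx
  have h1 := C.data.uni
  obtain ⟨M', q, C', hne', π, gs, hqd, hπ, hgs, hconj, hor⟩ : ∃ (M' : Subgroup (GL (Idx (T + 2) k) F))
      (q : GL (Idx (T + 2) k) F), UCtx σ f₁ M' ∧ NotFull σ f₁ M' ∧ ∃ (π : Equiv.Perm (Fin (T + 2)))
      (gs : Fin (T + 2) → GL (Fin k) F), TWData q π gs ∧ π s = r ∧ (∀ i, Iso f₁ (gs i)) ∧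
      (∀ x ∈ M, q * x * q⁻¹ ∈ M') ∧ (T = 0 ∨ (q ∈ M ∧ M' = M)) := by
    by_cases hrs : r = s
    · exact ⟨M, 1, C, H.notFull, 1, fun _ => 1, twData_one, by rw [hrs, Equiv.Perm.one_apply],
        fun i x y => by simp, fun x hx => by simpa using hx, Or.inr ⟨one_mem M, rfl⟩⟩
    by_cases hT : T = 0
    · obtain ⟨q, hq⟩ : ∃ q, q = permGL (F := F) (m := k) (Equiv.swap s r) := ⟨_, rfl⟩
      have hd : TWData q (Equiv.swap s r) fun _ => 1 := fun xs => by rw [hq, permGL_apply]; simp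
      have hqi : Iso (tform σ f₁ (T + 2)) q := TWData_iso h1 hd fun i x y => by simp
      obtain ⟨M', hM'⟩ : ∃ M', M' = M.map (MulAut.conj q).toMonoidHom := ⟨_, rfl⟩
      have hmem : ∀ x ∈ M, q * x * q⁻¹ ∈ M' := fun x hx => hM' ▸ ⟨x, hx, rfl⟩
      have C' : UCtx σ f₁ M' := by
        refine ⟨C.data, fun x hx => ?_, fun x hx hxi hxd => ?_⟩
        · rw [hM'] at hx
          obtain ⟨y, hy, rfl⟩ := hx
          exact iso_mul (iso_mul hqi (C.iso y hy)) (iso_inv hqi)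
        · have := hmem _ (C.le (q⁻¹ * x * q) (((IsTW.inv ⟨_, _, hd⟩).mul hx).mul ⟨_, _, hd⟩)
            (iso_mul (iso_mul (iso_inv hqi) hxi) hqi) (by
              rw [Units.val_mul, Units.val_mul, Matrix.det_units_conj', hxd]))
          rwa [show q * (q⁻¹ * x * q) * q⁻¹ = x by group] at this
      have hne' : NotFull σ f₁ M' := fun hall => H.notFull fun v hv => ⟨hv, fun c hc => by
        have := (hall (q.val *ᵥ v) (by rw [hqi]; exact hv)).2 c hc
        rw [← conj_uT C.uni hqi hv, hM'] at this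
        obtain ⟨y, hy, hye⟩ := this
        change q * y * q⁻¹ = _ at hye
        rwa [← mul_left_cancel (mul_right_cancel hye)]⟩
      exact ⟨M', q, C', hne', _, _, hd, Equiv.swap_apply_left _ _, fun i x y => by simp, hmem, Or.inl hT⟩
    obtain ⟨g₀, hg₀, gs, hd, hi, -⟩ := C.exists_swap (Ne.symm hrs) (by
      obtain ⟨o, ho⟩ : ∃ o, o ∉ ({s, r} : Finset (Fin (T + 2))) := by
        by_contra hno
        push Not at hno
        have := (Finset.card_le_card fun x _ => hno x : (Finset.univ : Finset (Fin (T + 2))).card ≤ _).trans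
          Finset.card_le_two
        rw [Finset.card_univ, Fintype.card_fin] at this
        omega
      exact ⟨o, fun h => ho (by simp [h]), fun h => ho (by simp [h])⟩)
    exact ⟨M, g₀, C, H.notFull, _, gs, hd, Equiv.swap_apply_left _ _, hi,
      fun x hx => mul_mem (mul_mem hg₀ hx) (inv_mem hg₀), Or.inr ⟨hg₀, rfl⟩⟩
  have hu0 := Transvec.mulVec_ne_zero (gs s) he0'
  obtain ⟨B, hB, c, hc, hBe⟩ := exists_move_iso h1 (by rw [Fintype.card_fin]; have := C.data.three; omega)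
    hu0 he0 (by rw [hgs]; exact hee') hee
  obtain ⟨g₁, hg₁⟩ : ∃ g₁, g₁ = slotEl s B * q * g := ⟨_, rfl⟩
  have hBM := C'.slotT_mem s hB
  have hfix : gim g₁ (slotW s e) = slotW s e := by
    rw [hg₁, gim_mul, himg, gim_mul, ← hπ, hqd.gim_slotW s he0', gim_slotEl s B hu0, hBe, slotW_smul s hc]
  have hg₁i : Iso (tform σ f₁ (T + 2)) g₁ :=
    hg₁ ▸ iso_mul (iso_mul (C'.iso _ hBM) (TWData_iso h1 hqd hgs)) (C.iso g hg)
  have hK : IsKron (slotG s g₁) := by
    refine kron_of_conj (C'.sctx hne' s) C.data.big (iso_slotG.2 hg₁i) (fun B₂ hB₂ hd₂ => ?_) he0 hee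
      (gim_slotG he0 he0 hfix)
    refine ⟨slotEl s B * (q * (g * slotEl s B₂ * g⁻¹) * q⁻¹) * (slotEl s B)⁻¹,
      mul_mem (mul_mem hBM (hconj _ (mul_mem (mul_mem hg (C.slotEl_mem s hB₂ hd₂)) (inv_mem hg)))) (inv_mem hBM), ?_⟩
    rw [← slotG_slotEl s, hg₁]
    simp only [MulEquiv.coe_toMonoidHom, map_mul, map_inv, _root_.mul_inv_rev, mul_assoc]
  obtain hTW := H.tw_of_kron hg₁i (hor.imp id fun ⟨hq, hM⟩ =>
    hg₁ ▸ mul_mem (mul_mem (hM ▸ hBM) hq) hg) hK
  have := ((IsTW.inv ⟨_, _, hqd⟩).mul (IsTW.inv ⟨_, _, slotEl_data s B⟩)).mul hTW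
  rwa [hg₁, show q⁻¹ * (slotEl s B)⁻¹ * (slotEl s B * q * g) = g by group] at this

end CfsgLib.Classical22.UWr
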