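/-
The slot root groups and the elements conjugating them into the tensor wreath group.
-/
import Cfsg.Agent.Lib.Classical22.UnitWreath.Fix
import Cfsg.Agent.Lib.Classical22.UnitTensor.PGroup

set_option autoImplicit false
set_option linter.unusedSectionVars false
set_option linter.unusedSimpArgs false

namespace CfsgLib.Classical22.UWr

open Matrix Kronecker CfsgLib.Transvec CfsgLib.Transvec.Unitary CfsgLib.Classical22.TensorMax
open CfsgLib.Classical22.TWMax
open CfsgLib.Classical22.TensorMax.SpO (kr kr_apply isKron_kr)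
open CfsgLib.Classical22.TensorMax.UnitT (Tens chain chain_succ_le chain_even_le)
open scoped MatrixGroups

variable {F : Type*} [Field F]

/-- Unipotent elements whose displacements are multiples of two of square zero with nilpotent composite generate a
p-group. -/
theorem isPGroup_closure' {ι : Type} [Fintype ι] [DecidableEq ι] [Nonempty ι] [Finite F] (p : ℕ) [Fact p.Prime]
    [CharP F p] {X Z : Matrix ι ι F} (hx : X * X = 0) (hz : Z * Z = 0) {N : ℕ} (hN : (X * Z) ^ N = 0)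
    {G : Set (GL ι F)} (hG : ∀ h ∈ G, ∃ c : F, h.val - 1 = c • X ∨ h.val - 1 = c • Z) :
    IsPGroup p (Subgroup.closure G) := by
  obtain ⟨P, hP⟩ : ∃ P : GL ι F → Prop, ∀ h, P h ↔
      ∀ k, ∀ v ∈ chain X Z k, h.val *ᵥ v - v ∈ chain X Z (k + 1) := ⟨_, fun h => Iff.rfl⟩
  have hone : P 1 := (hP 1).mpr fun k v _ => by rw [Units.val_one, one_mulVec, sub_self]; exact zero_mem _
  have hmul : ∀ g h, P g → P h → P (g * h) := fun g h hg hh => (hP _).mpr fun k v hv => by
    have e1 := (hP h).mp hh k v hv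
    have e2 := (hP g).mp hg (k + 1) _ e1
    have e3 := (hP g).mp hg k v hv
    have := add_mem (chain_succ_le X Z (k + 1) e2) (add_mem e1 e3)
    rw [Transvec.mul_mulVec]
    convert this using 1
    rw [mulVec_sub]
    abel
  have hgen : ∀ h ∈ G, P h := fun h hh => (hP _).mpr fun k v hv => by
    obtain ⟨c, hc | hc⟩ := hG h hh
    · rw [show h.val *ᵥ v - v = c • (X *ᵥ v) by rw [← smul_mulVec, ← hc, sub_mulVec, one_mulVec]]
      exact Submodule.smul_mem _ _ (Submodule.mem_sup_left ⟨v, hv, rfl⟩)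
    · rw [show h.val *ᵥ v - v = c • (Z *ᵥ v) by rw [← smul_mulVec, ← hc, sub_mulVec, one_mulVec]]
      exact Submodule.smul_mem _ _ (Submodule.mem_sup_right ⟨v, hv, rfl⟩)
  have hall : ∀ h ∈ Subgroup.closure G, P h := fun h hh => by
    induction hh using Subgroup.closure_induction with
    | mem h hh => exact hgen h hh
    | one => exact hone
    | mul g h _ _ hg hh => exact hmul g h hg hh
    | inv g _ hg =>
      have hpow : ∀ n : ℕ, P (g ^ n) := fun n => by
        induction n with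
        | zero => rw [pow_zero]; exact hone
        | succ n ih => rw [pow_succ]; exact hmul _ _ ih hg
      rw [inv_eq_of_mul_eq_one_right (show g * g ^ (orderOf g - 1) = 1 by
        rw [← pow_succ', Nat.sub_add_cancel (orderOf_pos g), pow_orderOf_eq_one])]
      exact hpow _
  have hbot : chain X Z (2 * (N + 1)) = ⊥ := by
    refine le_bot_iff.mp ((chain_even_le hx hz (N + 1)).trans (sup_le ?_ ?_))
    · rw [pow_succ, hN, zero_mul, Matrix.mulVecLin_zero, LinearMap.range_zero]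
    · have e : ∀ n, (Z * X) ^ (n + 1) = Z * (X * Z) ^ n * X := fun n => by
        induction n with
        | zero => simp
        | succ n ih => rw [pow_succ, ih, pow_succ (X * Z)]; simp only [mul_assoc]
      rw [e, hN, mul_zero, zero_mul, Matrix.mulVecLin_zero, LinearMap.range_zero]
  rintro ⟨h, hh⟩
  refine ⟨2 * (N + 1), Subtype.ext (Units.ext ?_)⟩
  have hnil : (h.val - 1) ^ (2 * (N + 1)) = 0 := Matrix.ext_iff_mulVec.2 fun v => by
    have key : ∀ k, (h.val - 1) ^ k *ᵥ v ∈ chain X Z k := fun k => by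
      induction k with
      | zero => trivial
      | succ k ih =>
        rw [pow_succ', ← mulVec_mulVec, sub_mulVec, one_mulVec]
        exact (hP h).mp (hall h hh) k _ ih
    have := key (2 * (N + 1))
    rw [hbot, Submodule.mem_bot] at this
    rw [this, zero_mulVec]
  haveI : CharP (Matrix ι ι F) p := Matrix.charP p
  rw [SubmonoidClass.coe_pow, Units.val_pow_eq_pow_val]
  change h.val ^ p ^ (2 * (N + 1)) = 1
  rw [← sub_eq_zero]
  have e := sub_pow_char_pow_of_commute p (2 * (N + 1)) (Commute.one_right h.val)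
  rw [one_pow] at e
  rw [← e]
  exact pow_eq_zero_of_le (Nat.lt_pow_self (Fact.out : p.Prime).one_lt).le hnil

variable [Finite F] {t k : ℕ} {σ : F ≃+* F} {f₁ : (Fin k → F) → (Fin k → F) → F}

/-- The root element of slot `s` at `u`. -/
noncomputable def sx (f₁ : (Fin k → F) → (Fin k → F) → F) (s : Fin (t + 1)) (u : Fin k → F) (c : F) :
    GL (Idx (t + 1) k) F := slotEl s (uT f₁ u c)

section

variable (h1 : Cfsg.Geo.IsUnitaryForm σ f₁) {s : Fin (t + 1)} {u : Fin k → F} (hu : f₁ u u = 0)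
include h1 hu

lemma sx_mul (c d : F) : sx f₁ s u c * sx f₁ s u d = sx f₁ s u (c + d) := by
  rw [sx, sx, sx, slotEl_mul, uT_mul h1 hu]

lemma sx_sub (c : F) : (sx f₁ s u c).val - 1 = c • emb s (nd f₁ u) := by
  rw [sx, slotEl_val, uT_val h1 hu, emb_add, emb_one, emb_smul, add_sub_cancel_left, nd]

lemma sx_sq (c : F) : ((sx f₁ s u c).val - 1) * ((sx f₁ s u c).val - 1) = 0 := by
  rw [sx_sub h1 hu, Matrix.smul_mul, Matrix.mul_smul, ← emb_mul, nd_sq h1 hu,
    show emb s (0 : Matrix (Fin k) (Fin k) F) = 0 from map_zero (embL s), smul_zero, smul_zero]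

lemma mv_sx (hu0 : u ≠ 0) {c : F} (hc : c ≠ 0) : mv (sx f₁ s u c) = slotW s u :=
  mv_slotW (by rw [sx, slotG_slotEl, mv_root (tens h1 s) hu0 hu hc])

end

variable {T : ℕ} {M : Subgroup (GL (Idx (T + 2) k) F)}

lemma UCtx.sx_mem (C : UCtx σ f₁ M) (s : Fin (T + 2)) {u : Fin k → F} (hu : f₁ u u = 0) {c : F} (hc : c + σ c = 0) :
    sx f₁ s u c ∈ M := C.slotT_mem s (uT_mem C.data.uni hu hc)

/-- Pure subspaces with totally isotropic image come from isotropic vectors. -/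
lemma iso_of_slot_image (C : UCtx σ f₁ M) {g : GL (Idx (T + 2) k) F} (hg : g ∈ M) {s r : Fin (T + 2)}
    {u u' : Fin k → F} (hu : f₁ u u = 0) (h : gim g (slotW s u) = slotW r u') : f₁ u' u' = 0 := by
  have h1 := C.data.uni
  have hiso : ∀ p ∈ slotW s u, ∀ q ∈ slotW s u, tform σ f₁ (T + 2) p q = 0 := fun p hp q hq => by
    obtain ⟨x, hx⟩ := mem_slotW.1 hp
    obtain ⟨y, hy⟩ := mem_slotW.1 hq
    have e := (tens h1 s).pure x u y u
    rw [hu, mul_zero] at e
    rw [← e, sform, ← ptL_apply, ← ptL_apply, hx, hy, Function.comp_assoc, Function.comp_assoc, Equiv.symm_comp_self,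
      Function.comp_id, Function.comp_id]
  obtain ⟨x, hx⟩ : ∃ x : Fin (k ^ (T + 1)) → F, x ≠ 0 :=
    ⟨Pi.single ⟨0, Nat.pow_pos (by have := C.data.three; omega)⟩ 1, by simp⟩
  obtain ⟨y, hy⟩ := ((uni_pform h1 (t := T + 1)).nondegenerate x hx).2
  have hm : ∀ z, pt z u' ∘ slotE r ∈ slotW r u' := fun z => by
    rw [mem_slotW, Function.comp_assoc, Equiv.self_comp_symm, Function.comp_id]; exact pt_mem_pureW _ _
  obtain ⟨p, hp, hpe⟩ := mem_gim.1 (h.ge (hm x))
  obtain ⟨q, hq, hqe⟩ := mem_gim.1 (h.ge (hm y))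
  have e := C.iso g hg p q
  rw [hpe, hqe, hiso p hp q hq] at e
  have e' := (tens h1 r).pure x u' y u'
  rw [sform, e] at e'
  exact (mul_eq_zero.1 e'.symm).resolve_left hy

/-- An element conjugating a slot root group into the tensor wreath group lies in it. -/
theorem UHyp.tw_of_conj (H : UHyp σ f₁ M) {g : GL (Idx (T + 2) k) F} (hg : g ∈ M) {s : Fin (T + 2)}
    {u : Fin k → F} (hu0 : u ≠ 0) (hu : f₁ u u = 0)
    (h : ∀ c, c + σ c = 0 → IsTW (g * sx f₁ s u c * g⁻¹)) : IsTW g := by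
  classical
  haveI := Fintype.ofFinite F
  have C := H.ctx
  have h1 := C.data.uni
  have hk := C.data.three
  obtain ⟨c, hc0, hc⟩ := exists_skew h1.ne_refl h1.involutive
  have hrk : ∀ d, d ≠ 0 → Module.finrank F (mv (g * sx f₁ s u d * g⁻¹)) = k ^ (T + 1) := fun d hd => by
    rw [mv_conj, mv_sx h1 hu hu0 hd, finrank_gim, finrank_slotW _ hu0]
  by_cases hbase : ∃ d, d ≠ 0 ∧ d + σ d = 0 ∧ ∃ gs, TWData (g * sx f₁ s u d * g⁻¹) 1 gs
  · obtain ⟨d, hd0, -, gs, hgs⟩ := hbase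
    obtain ⟨s', u', hu', he⟩ := pure_of_base hk hgs (fun h => by
      have := hrk d hd0
      rw [h, show mv (1 : GL (Idx (T + 2) k) F) = ⊥ from (Submodule.eq_bot_iff _).mpr fun v hv => by
        obtain ⟨w, rfl⟩ := mem_mv.mp hv; rw [Units.val_one, one_mulVec, sub_self], finrank_bot] at this
      exact (Nat.pow_pos (n := T + 1) (show 0 < k by omega)).ne this) (hrk d hd0).le
    rw [mv_conj, mv_sx h1 hu hu0 hd0] at he
    exact H.tw_of_image hg hu0 hu' hu (iso_of_slot_image C hg hu he) he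
  exfalso
  push Not at hbase
  have hsgn : ∀ d, d ≠ 0 → d + σ d = 0 → ∃ π gs, TWData (g * sx f₁ s u d * g⁻¹) π gs ∧ Equiv.Perm.sign π = -1 ∧
      k = 3 ∧ (2 : F) = 0 := fun d hd0 hd => by
    obtain ⟨π, gs, hgs⟩ := h d hd
    have hπ : π ≠ 1 := fun e => hbase d hd0 hd gs (e ▸ hgs)
    obtain ⟨h2, h3, i, j, hij, rfl⟩ := perm_small hk hgs (conj_sq g _ (sx_sq h1 hu d)) hπ (hrk d hd0).le
    exact ⟨_, gs, hgs, Equiv.Perm.sign_swap hij, h3, h2⟩
  obtain ⟨π, gs, hgs, hπ, h3, h2⟩ := hsgn c hc0 hc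
  obtain ⟨r, hr, hr0, hr1⟩ := C.data.big.resolve_left (by omega)
  obtain ⟨π', gs', hgs', hπ', -, -⟩ := hsgn (r * c) (mul_ne_zero hr0 hc0)
    (by rw [map_mul, hr]; linear_combination r * hc)
  obtain ⟨π'', gs'', hgs'', hπ'', -, -⟩ := hsgn (c + r * c) (fun h0 => hr1 (by
      have : (1 + r) * c = 0 := by linear_combination h0
      linear_combination (mul_eq_zero.1 this).resolve_right hc0 - h2))
    (by rw [map_add, map_mul, hr]; linear_combination (1 + r) * hc)
  have hm := hgs.mul hgs'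
  rw [show g * sx f₁ s u c * g⁻¹ * (g * sx f₁ s u (r * c) * g⁻¹) = g * (sx f₁ s u c * sx f₁ s u (r * c)) * g⁻¹ by
    group, sx_mul h1 hu] at hm
  have e := congrArg Equiv.Perm.sign (hgs''.perm_eq (by omega) hm)
  rw [map_mul, hπ, hπ', hπ''] at e
  exact absurd e (by decide)

/-- An element of `M` commuting with a slot root lies in the tensor wreath group. -/
theorem UHyp.tw_of_commute (H : UHyp σ f₁ M) {g : GL (Idx (T + 2) k) F} (hg : g ∈ M) {s : Fin (T + 2)}
    {u : Fin k → F} (hu0 : u ≠ 0) (hu : f₁ u u = 0) {c : F} (hc : c ≠ 0)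
    (h : g * sx f₁ s u c * g⁻¹ = sx f₁ s u c) : IsTW g := by
  refine H.tw_of_image hg hu0 hu0 hu hu (s := s) (r := s) ?_
  rw [← mv_sx H.ctx.data.uni hu hu0 hc, ← mv_conj, h]

/-- An element of `M` with nilpotent composite of roots. -/
theorem UHyp.tw_of_nilpotent (H : UHyp σ f₁ M) {g : GL (Idx (T + 2) k) F} (hg : g ∈ M) {s r : Fin (T + 2)}
    {u v : Fin k → F} (hu0 : u ≠ 0) (hu : f₁ u u = 0) (hv0 : v ≠ 0) (hv : f₁ v v = 0) {c d : F} (hc : c ≠ 0)
    (hd : d ≠ 0) {N : ℕ} (hN : (((sx f₁ s u c).val - 1) * ((g * sx f₁ r v d * g⁻¹).val - 1)) ^ N = 0) : IsTW g := by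
  classical
  obtain ⟨p, hp⟩ := CharP.exists F
  haveI : Fact p.Prime := ⟨CharP.char_is_prime F p⟩
  haveI := Fintype.ofFinite F
  have C := H.ctx
  have h1 := C.data.uni
  haveI : Nonempty (Idx (T + 2) k) := ⟨fun _ => ⟨0, by have := C.data.three; omega⟩⟩
  have hzsub : ∀ e : F, (g * sx f₁ r v e * g⁻¹).val - 1 = e • (g.val * emb r (nd f₁ v) * g⁻¹.val) := fun e => by
    rw [← Matrix.smul_mul, ← Matrix.mul_smul, ← sx_sub h1 hv, mul_sub, sub_mul, mul_one, Units.mul_inv,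
      Units.val_mul, Units.val_mul]
  obtain ⟨G, hG⟩ : ∃ G : Set (GL (Idx (T + 2) k) F),
      G = {h | ∃ e : F, e + σ e = 0 ∧ (h = sx f₁ s u e ∨ h = g * sx f₁ r v e * g⁻¹)} := ⟨_, rfl⟩
  have hp' : IsPGroup p (Subgroup.closure G) := by
    refine isPGroup_closure' p (sx_sq h1 hu c) (conj_sq g _ (sx_sq h1 hv d)) hN fun h hh => ?_
    rw [hG] at hh
    obtain ⟨e, -, rfl | rfl⟩ := hh
    · exact ⟨e / c, Or.inl (by rw [sx_sub h1 hu, sx_sub h1 hu, smul_smul, div_mul_cancel₀ _ hc])⟩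
    · exact ⟨e / d, Or.inr (by rw [hzsub, hzsub, smul_smul, div_mul_cancel₀ _ hd])⟩
  have hle : Subgroup.closure G ≤ M := (Subgroup.closure_le M).2 fun h hh => by
    rw [hG] at hh
    obtain ⟨e, he, rfl | rfl⟩ := hh
    exacts [C.sx_mem s hu he, mul_mem (mul_mem hg (C.sx_mem r hv he)) (inv_mem hg)]
  obtain ⟨Q, hQ⟩ : ∃ Q, Q = Subgroup.closure G := ⟨_, rfl⟩
  rw [← hQ] at hp' hle
  have hxQ : ∀ e, e + σ e = 0 → sx f₁ s u e ∈ Q := fun e he =>
    hQ ▸ Subgroup.subset_closure (hG ▸ ⟨e, he, Or.inl rfl⟩)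
  refine H.tw_of_conj hg (s := r) hv0 hv fun e he => ?_
  have hzQ : g * sx f₁ r v e * g⁻¹ ∈ Q := hQ ▸ Subgroup.subset_closure (hG ▸ ⟨e, he, Or.inr rfl⟩)
  revert hzQ
  generalize g * sx f₁ r v e * g⁻¹ = z
  revert z
  by_contra hne
  push Not at hne
  obtain ⟨L, hL⟩ : ∃ L, L = (Cfsg.Geo.tensorWreathStandard k (T + 2) F).subgroupOf Q := ⟨_, rfl⟩
  have hLmem : ∀ q : Q, q ∈ L ↔ IsTW (q : GL (Idx (T + 2) k) F) := fun q => by
    rw [hL, Subgroup.mem_subgroupOf, mem_standard_iff]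
  haveI : Finite (GL (Idx (T + 2) k) F) := inferInstance
  haveI := hp'.isNilpotent
  have hlt : L < ⊤ := lt_top_iff_ne_top.mpr fun h => by
    obtain ⟨z, hz, hzK⟩ := hne
    exact hzK ((hLmem ⟨z, hz⟩).mp (h ▸ Subgroup.mem_top _))
  obtain ⟨⟨q, hqQ⟩, hqn, hqL⟩ := SetLike.exists_of_lt (Group.normalizerCondition_of_isNilpotent L hlt)
  refine hqL ((hLmem _).mpr (H.tw_of_conj (hle hqQ) (s := s) hu0 hu fun e he => ?_))
  have hxL : (⟨_, hxQ e he⟩ : Q) ∈ L := (hLmem _).mpr ⟨1, _, slotEl_data _ _⟩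
  exact (hLmem _).mp ((Subgroup.mem_normalizer_iff.mp hqn ⟨_, hxQ e he⟩).mp hxL)

end CfsgLib.Classical22.UWr
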