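/-
Two slot root groups, one conjugated: shared facts.
-/
import Cfsg.Agent.Lib.Classical22.UnitWreath.SlotKron
import Cfsg.Agent.Lib.Classical22.UnitWreath.Root
import Cfsg.Agent.Lib.Classical22.TensorWreathMax.Dihedral

set_option autoImplicit false
set_option linter.unusedSectionVars false
set_option linter.unusedSimpArgs false

namespace CfsgLib.Classical22.UWr

open Matrix Kronecker CfsgLib.Transvec CfsgLib.Transvec.Unitary CfsgLib.Classical22.TensorMax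
open CfsgLib.Classical22.TensorMax.SpO (kr kr_apply isKron_kr)
open CfsgLib.Classical22.TensorMax.SympO
open CfsgLib.Classical22.TensorMax.UnitT (Tens ctr exists_partner exists_move_iso)
open CfsgLib.Classical22.TWMax (mv mem_mv gim mem_gim gim_mul gim_inv_gim gim_one mv_conj finrank_gim conj_sq)
open scoped MatrixGroups

section General

variable {F : Type*} [Field F] {ι : Type} [Fintype ι] [DecidableEq ι]

/-- An element preserves a subspace as soon as it moves it into itself. -/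
lemma gim_eq_of_moved {h : GL ι F} {W : Submodule F (ι → F)} (H : ∀ v ∈ W, h.val *ᵥ v - v ∈ W) : gim h W = W := by
  refine Submodule.eq_of_le_of_finrank_eq ?_ (finrank_gim h W)
  intro v hv
  obtain ⟨w, hw, rfl⟩ := mem_gim.1 hv
  have := W.add_mem (H w hw) hw
  rwa [sub_add_cancel] at this

lemma moved_of_gim {h : GL ι F} {W : Submodule F (ι → F)} (H : gim h W = W) {v : ι → F} (hv : v ∈ W) :
    h.val *ᵥ v - v ∈ W := W.sub_mem (H.le (mem_gim.2 ⟨v, hv, rfl⟩)) hv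

lemma closure_moved {G : Set (GL ι F)} {W : Submodule F (ι → F)} (H : ∀ h ∈ G, ∀ v, h.val *ᵥ v - v ∈ W)
    {h : GL ι F} (hh : h ∈ Subgroup.closure G) : ∀ v, h.val *ᵥ v - v ∈ W := by
  induction hh using Subgroup.closure_induction with
  | mem h hh => exact H h hh
  | one => intro v; rw [Units.val_one, one_mulVec, sub_self]; exact zero_mem _
  | mul g g' _ _ hg hg' =>
    intro v
    rw [Transvec.mul_mulVec, ← sub_add_sub_cancel _ (g'.val *ᵥ v)]
    exact add_mem (hg _) (hg' _)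
  | inv g _ hg =>
    intro v
    have := W.neg_mem (hg (g⁻¹.val *ᵥ v))
    rwa [Transvec.mulVec_inv_cancel, neg_sub] at this

lemma closure_fix {G : Set (GL ι F)} {p : ι → F} (H : ∀ h ∈ G, h.val *ᵥ p = p) {h : GL ι F}
    (hh : h ∈ Subgroup.closure G) : h.val *ᵥ p = p := by
  induction hh using Subgroup.closure_induction with
  | mem h hh => exact H h hh
  | one => rw [Units.val_one, one_mulVec]
  | mul g g' _ _ hg hg' => rw [Transvec.mul_mulVec, hg', hg]
  | inv g _ hg => conv_lhs => rw [← hg, Transvec.inv_mulVec_cancel]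

end General

variable {F : Type*} [Field F] {a b : ℕ} {σ : F ≃+* F} {f : (Fin a × Fin b → F) → (Fin a × Fin b → F) → F}
  {f₁ : (Fin a → F) → (Fin a → F) → F} {f₂ : (Fin b → F) → (Fin b → F) → F}

/-- The root elements of the second factor. -/
noncomputable def rt (f₂ : (Fin b → F) → (Fin b → F) → F) (u : Fin b → F) (c : F) : GL (Fin a × Fin b) F :=
  kr (1 : GL (Fin a) F) (uT f₂ u c)

/-- The pure vectors at `u` and `w` span a space of twice the dimension. -/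
lemma pure_pair_injective {u w : Fin b → F} (hu : u ≠ 0) (hw : w ∉ Submodule.span F ({u} : Set (Fin b → F)))
    {p q : Fin a → F} (h : pt p u + pt q w = 0) : p = 0 ∧ q = 0 := by
  obtain ⟨φ, hφ, hφw⟩ := exists_functional hw
  have hq : q = 0 := by
    have := congrArg (sl φ) h
    rwa [map_add, sl_pt, sl_pt, hφ u (Submodule.mem_span_singleton_self u), hφw, zero_smul, zero_add, one_smul,
      map_zero] at this
  rw [hq, pt_zero_left, add_zero] at h
  exact ⟨pt_injective hu (h.trans (pt_zero_left u).symm), hq⟩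

lemma finrank_two_le {W : Submodule F (Fin a × Fin b → F)} {u w : Fin b → F} (hu : u ≠ 0)
    (hw : w ∉ Submodule.span F ({u} : Set (Fin b → F))) (h : ∀ p q, pt p u + pt q w ∈ W) :
    a + a ≤ Module.finrank F W ∧ (Module.finrank F W ≤ a + a → ∀ v ∈ W, ∃ p q, pt p u + pt q w = v) := by
  obtain ⟨L, hL⟩ : ∃ L : (Fin a → F) × (Fin a → F) →ₗ[F] (Fin a × Fin b → F),
      ∀ p q, L (p, q) = pt p u + pt q w :=
    ⟨(ptL u).comp (LinearMap.fst F _ _) + (ptL w).comp (LinearMap.snd F _ _), fun p q => rfl⟩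
  have hinj : Function.Injective L := (injective_iff_map_eq_zero L).2 fun x hx => by
    obtain ⟨p, q⟩ := x
    rw [hL] at hx
    obtain ⟨rfl, rfl⟩ := pure_pair_injective hu hw hx
    rfl
  have hle : LinearMap.range L ≤ W := by
    rintro _ ⟨⟨p, q⟩, rfl⟩
    rw [hL]; exact h p q
  have hr : Module.finrank F (LinearMap.range L) = a + a := by
    rw [LinearMap.finrank_range_of_inj hinj, Module.finrank_prod, Module.finrank_fin_fun]
  refine ⟨hr ▸ Submodule.finrank_mono hle, fun hW v hv => ?_⟩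
  obtain ⟨⟨p, q⟩, hpq⟩ := (Submodule.eq_of_le_of_finrank_le hle (by rw [hr]; exact hW)).ge hv
  exact ⟨p, q, by rw [← hL]; exact hpq⟩

variable [Finite F]

section

variable (T : Tens σ f f₁ f₂)
include T

lemma rt_mulVec {u : Fin b → F} (hu : f₂ u u = 0) (c : F) (v : Fin a × Fin b → F) :
    (rt f₂ u c).val *ᵥ v = v + c • pt (ctr f₂ u v) u := T.root_apply hu c v

lemma rt_fix {u : Fin b → F} (hu : f₂ u u = 0) (c : F) {v : Fin a × Fin b → F} (hv : ctr f₂ u v = 0) :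
    (rt f₂ u c).val *ᵥ v = v := by rw [rt_mulVec T hu, hv, pt_zero_left, smul_zero, add_zero]

lemma rt_sq {u : Fin b → F} (hu : f₂ u u = 0) (c : F) :
    ((rt (a := a) f₂ u c).val - 1) * ((rt f₂ u c).val - 1) = 0 := Matrix.ext_iff_mulVec.2 fun v => by
  rw [← mulVec_mulVec, zero_mulVec, sub_mulVec, sub_mulVec, one_mulVec, one_mulVec, rt_mulVec T hu c v,
    add_sub_cancel_left, rt_mulVec T hu, add_sub_cancel_left, map_smul, T.ctr_pt, hu, zero_smul, smul_zero,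
    pt_zero_left, smul_zero]

lemma conj_rt_mulVec (g : GL (Fin a × Fin b) F) {u : Fin b → F} (hu : f₂ u u = 0) (c : F) (v : Fin a × Fin b → F) :
    (g * rt f₂ u c * g⁻¹).val *ᵥ v = v + c • (g.val *ᵥ pt (ctr f₂ u (g⁻¹.val *ᵥ v)) u) := by
  rw [Transvec.mul_mulVec, Transvec.mul_mulVec, rt_mulVec T hu, mulVec_add, Transvec.mulVec_inv_cancel, mulVec_smul]

/-- Preserving pure subspaces with one root element of a conjugate group or with all of them agree. -/
lemma gim_conj_rt (g : GL (Fin a × Fin b) F) {u : Fin b → F} (hu : f₂ u u = 0) {c d : F} (hd : d ≠ 0)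
    {W : Submodule F (Fin a × Fin b → F)} (h : gim (g * rt f₂ u d * g⁻¹) W = W) :
    gim (g * rt f₂ u c * g⁻¹) W = W := gim_eq_of_moved fun v hv => by
  have := W.smul_mem (c / d) (moved_of_gim h hv)
  rw [conj_rt_mulVec T g hu, add_sub_cancel_left, smul_smul, div_mul_cancel₀ _ hd] at this
  rwa [conj_rt_mulVec T g hu, add_sub_cancel_left]

/-- An isometry preserving a pure subspace preserves its orthogonal. -/
lemma ctr_image_zero {h : GL (Fin a × Fin b) F} (hi : Iso f h) {u : Fin b → F}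
    (hfix : gim h (pureW a u) = pureW a u) {v : Fin a × Fin b → F} (hv : ctr f₂ u v = 0) :
    ctr f₂ u (h.val *ᵥ v) = 0 := by
  by_contra hne
  obtain ⟨p, hp⟩ := (T.left.nondegenerate _ hne).2
  obtain ⟨_, ⟨q, rfl⟩, hq⟩ := mem_gim.1 (hfix.ge (pt_mem_pureW p u))
  refine hp ?_
  rw [← T.f_pt, ← hq, hi, ptL_apply, T.f_pt, hv, zero_left' T.left]

/-- The factors of an isometry are similitudes with inverse multipliers. -/
lemma factors_sim (ha : 0 < a) (hb : 0 < b) {A : GL (Fin a) F} {B : GL (Fin b) F} (hi : Iso f (kr A B)) :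
    ∃ μ : F, μ ≠ 0 ∧ σ μ = μ ∧ (∀ u v, f₂ (B.val *ᵥ u) (B.val *ᵥ v) = μ * f₂ u v) ∧
      ∀ x y, f₁ (A.val *ᵥ x) (A.val *ᵥ y) = μ⁻¹ * f₁ x y := by
  obtain ⟨x₀, hx₀⟩ : ∃ x : Fin a → F, x ≠ 0 := ⟨Pi.single ⟨0, ha⟩ 1, by simp⟩
  obtain ⟨y₀, hy₀⟩ := (T.left.nondegenerate x₀ hx₀).2
  obtain ⟨u₀, hu₀⟩ : ∃ u : Fin b → F, u ≠ 0 := ⟨Pi.single ⟨0, hb⟩ 1, by simp⟩
  obtain ⟨v₀, hv₀⟩ := (T.right.nondegenerate u₀ hu₀).2
  have hmul : ∀ x y u v, f₁ (A.val *ᵥ x) (A.val *ᵥ y) * f₂ (B.val *ᵥ u) (B.val *ᵥ v) = f₁ x y * f₂ u v :=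
    fun x y u v => by
      have := hi (pt x u) (pt y v)
      rwa [kr_apply, kr_apply, T.pure, T.pure] at this
  obtain ⟨α, hα⟩ : ∃ α, α = f₁ (A.val *ᵥ x₀) (A.val *ᵥ y₀) := ⟨_, rfl⟩
  have hα0 : α ≠ 0 := fun h0 => by
    have := hmul x₀ y₀ u₀ v₀
    rw [← hα, h0, zero_mul] at this
    exact mul_ne_zero hy₀ hv₀ this.symm
  obtain ⟨μ, hμ⟩ : ∃ μ, μ = f₁ x₀ y₀ / α := ⟨_, rfl⟩
  have hB : ∀ u v, f₂ (B.val *ᵥ u) (B.val *ᵥ v) = μ * f₂ u v := fun u v => by
    rw [hμ, div_mul_eq_mul_div, eq_div_iff hα0, hα, ← hmul x₀ y₀ u v, mul_comm]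
  have hμ0 : μ ≠ 0 := hμ ▸ div_ne_zero hy₀ hα0
  refine ⟨μ, hμ0, ?_, hB, fun x y => ?_⟩
  · have e := T.right.herm (B.val *ᵥ u₀) (B.val *ᵥ v₀)
    rw [hB, hB, map_mul, ← T.right.herm] at e
    exact (mul_right_cancel₀ hv₀ e).symm
  · have := hmul x y u₀ v₀
    rw [hB, ← mul_assoc] at this
    rw [eq_inv_mul_iff_mul_eq₀ hμ0, mul_comm, mul_right_cancel₀ hv₀ this]

end

variable {N : Subgroup (GL (Fin a × Fin b) F)}

/-- The hypotheses at one slot. -/
structure SHyp (σ : F ≃+* F) (f : (Fin a × Fin b → F) → (Fin a × Fin b → F) → F)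
    (f₁ : (Fin a → F) → (Fin a → F) → F) (f₂ : (Fin b → F) → (Fin b → F) → F)
    (N : Subgroup (GL (Fin a × Fin b) F)) : Prop where
  ctx : SCtx σ f f₁ f₂ N
  big : 4 ≤ b ∨ ∃ r : F, σ r = r ∧ r ≠ 0 ∧ r ≠ 1

/-- An element whose root group at `u₀` is in general position against all slot roots. -/
structure Off (σ : F ≃+* F) (f₂ : (Fin b → F) → (Fin b → F) → F) (N : Subgroup (GL (Fin a × Fin b) F))
    (g : GL (Fin a × Fin b) F) (u₀ : Fin b → F) : Prop where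
  mem : g ∈ N
  ne_zero : u₀ ≠ 0
  iso : f₂ u₀ u₀ = 0
  notKeep : ∀ e, e ≠ 0 → f₂ e e = 0 → ∀ c : F, c ≠ 0 → c + σ c = 0 →
    gim (g * rt f₂ u₀ c * g⁻¹) (pureW a e) ≠ pureW a e
  notNil : ∀ e, e ≠ 0 → f₂ e e = 0 → ∀ c d : F, c ≠ 0 → c + σ c = 0 → d ≠ 0 → d + σ d = 0 →
    ¬ IsNilpotent (((rt (a := a) f₂ e c).val - 1) * ((g * rt f₂ u₀ d * g⁻¹).val - 1))

namespace SHyp

variable (S : SHyp σ f f₁ f₂ N)
include S

lemma rt_mem {u : Fin b → F} (hu : f₂ u u = 0) {c : F} (hc : c + σ c = 0) : rt f₂ u c ∈ N :=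
  S.ctx.krB _ (iso_uT S.ctx.tens.right hu hc)
    ((mem_specialLinear_iff _).mp (transv_mem_specialLinear u (c • uvec f₂ u)))

lemma z_mem {g : GL (Fin a × Fin b) F} {u₀ : Fin b → F} (G : Off σ f₂ N g u₀) {c : F} (hc : c + σ c = 0) :
    g * rt f₂ u₀ c * g⁻¹ ∈ N := mul_mem (mul_mem G.mem (S.rt_mem G.iso hc)) (inv_mem G.mem)

lemma mv_rt {u : Fin b → F} (hu0 : u ≠ 0) (hu : f₂ u u = 0) {c : F} (hc : c ≠ 0) :
    mv (rt (a := a) f₂ u c) = pureW a u := mv_root S.ctx.tens hu0 hu hc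

lemma gim_of_commute {h : GL (Fin a × Fin b) F} {u : Fin b → F} (hu0 : u ≠ 0) (hu : f₂ u u = 0) {c : F} (hc : c ≠ 0)
    (hcomm : h * rt f₂ u c * h⁻¹ = rt f₂ u c) : gim h (pureW a u) = pureW a u := by
  rw [← S.mv_rt hu0 hu hc, ← mv_conj, hcomm]

/-- An element of `N` preserving a pure subspace is a tensor product with the second factor fixing its vector. -/
theorem factor {h : GL (Fin a × Fin b) F} (hN : h ∈ N) {u : Fin b → F} (hu0 : u ≠ 0) (hu : f₂ u u = 0)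
    (hfix : gim h (pureW a u) = pureW a u) :
    ∃ (A : GL (Fin a) F) (B : GL (Fin b) F), h = kr A B ∧ B.val *ᵥ u = u := by
  have T := S.ctx.tens
  obtain ⟨A, B, hAB⟩ := kron_of_conj S.ctx S.big (S.ctx.iso hN)
    (fun B hB hd => mul_mem (mul_mem hN (S.ctx.krB B hB hd)) (inv_mem hN)) hu0 hu hfix
  have hAB : h = kr A B := Units.ext hAB
  obtain ⟨x₀, hx₀⟩ : ∃ x : Fin a → F, x ≠ 0 := ⟨Pi.single ⟨0, by have := S.ctx.dimA; omega⟩ 1, by simp⟩
  obtain ⟨φ, -, hφ⟩ := exists_functional (E := (⊥ : Submodule F (Fin b → F))) (u := u) (by simpa using hu0)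
  obtain ⟨l, hl⟩ : ∃ l, l = φ ⬝ᵥ (B.val *ᵥ u) := ⟨_, rfl⟩
  obtain ⟨y, hy⟩ : h.val *ᵥ pt x₀ u ∈ pureW a u := hfix.le (mem_gim.2 ⟨_, pt_mem_pureW _ _, rfl⟩)
  rw [ptL_apply, hAB, kr_apply] at hy
  have hAx : A.val *ᵥ x₀ ≠ 0 := Transvec.mulVec_ne_zero A hx₀
  have hBu : B.val *ᵥ u = l • u := by
    obtain ⟨ψ, -, hψ⟩ := exists_functional (E := (⊥ : Submodule F (Fin a → F))) (u := A.val *ᵥ x₀) (by simpa using hAx)
    have e := congrArg (slA ψ) hy
    rw [slA_pt, slA_pt, hψ, one_smul] at e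
    rw [hl, ← e, dotProduct_smul, hφ, smul_eq_mul, mul_one]
  have hl0 : l ≠ 0 := fun h0 => Transvec.mulVec_ne_zero B hu0 (by rw [hBu, h0, zero_smul])
  refine ⟨⟨l • A.val, l⁻¹ • A⁻¹.val,
      by rw [Matrix.smul_mul, Matrix.mul_smul, smul_smul, mul_inv_cancel₀ hl0, Units.mul_inv, one_smul],
      by rw [Matrix.smul_mul, Matrix.mul_smul, smul_smul, inv_mul_cancel₀ hl0, Units.inv_mul, one_smul]⟩,
    ⟨l⁻¹ • B.val, l • B⁻¹.val,
      by rw [Matrix.smul_mul, Matrix.mul_smul, smul_smul, inv_mul_cancel₀ hl0, Units.mul_inv, one_smul],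
      by rw [Matrix.smul_mul, Matrix.mul_smul, smul_smul, mul_inv_cancel₀ hl0, Units.inv_mul, one_smul]⟩,
    ext_pt fun x j => ?_, ?_⟩
  · rw [hAB, kr_apply, kr_apply, smul_mulVec, smul_mulVec, pt_smul_left, pt_smul_right, smul_smul,
      mul_inv_cancel₀ hl0, one_smul]
  · rw [smul_mulVec, hBu, inv_smul_smul₀ hl0]

/-- The images of a pure subspace have its dimension. -/
lemma finrank_image (g : GL (Fin a × Fin b) F) {u₀ : Fin b → F} (h0 : u₀ ≠ 0) :
    Module.finrank F (gim g (pureW a u₀)) = a := by rw [finrank_gim, finrank_pureW h0]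

/-- A second pure direction inside `D + R` puts `R` on a plane. -/
theorem plane_of {g : GL (Fin a × Fin b) F} {u u₀ w : Fin b → F} (hu0 : u ≠ 0) (h0 : u₀ ≠ 0)
    (hw : w ∉ Submodule.span F ({u} : Set (Fin b → F)))
    (h : ∀ q, pt q w ∈ pureW a u ⊔ gim g (pureW a u₀)) :
    ∃ w', ∀ v ∈ gim g (pureW a u₀), ∃ p q, pt p u + pt q w' = v := by
  obtain ⟨-, h2⟩ := finrank_two_le (W := pureW a u ⊔ gim g (pureW a u₀)) hu0 hw fun p q =>
    Submodule.add_mem _ (Submodule.mem_sup_left (pt_mem_pureW p u)) (h q)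
  refine ⟨w, fun v hv => h2 ?_ v (Submodule.mem_sup_right hv)⟩
  refine (Submodule.finrank_add_le_finrank_add_finrank _ _).trans ?_
  rw [S.finrank_image g h0, finrank_pureW hu0]

end SHyp

end CfsgLib.Classical22.UWr
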