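/-
Odd characteristic: the conjugate root group lies on a plane through every isotropic direction.
-/
import Cfsg.Agent.Lib.Classical22.UnitWreath.PairBase
import Cfsg.Agent.Lib.Classical22.UnitTensor.Inv

set_option autoImplicit false
set_option linter.unusedSectionVars false
set_option linter.unusedSimpArgs false

namespace CfsgLib.Classical22.UWr

open Matrix Kronecker CfsgLib.Transvec CfsgLib.Transvec.Unitary CfsgLib.Classical22.TensorMax
open CfsgLib.Classical22.TensorMax.SpO (kr kr_apply isKron_kr)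
open CfsgLib.Classical22.TensorMax.SympO
open CfsgLib.Classical22.TensorMax.UnitT (Tens ctr exists_partner exists_aniso_pair)
open CfsgLib.Classical22.TWMax (mv gim mem_gim)
open scoped MatrixGroups

variable {F : Type*} [Field F] [Finite F] {a b : ℕ} {σ : F ≃+* F}
  {f : (Fin a × Fin b → F) → (Fin a × Fin b → F) → F}
  {f₁ : (Fin a → F) → (Fin a → F) → F} {f₂ : (Fin b → F) → (Fin b → F) → F}
  {N : Subgroup (GL (Fin a × Fin b) F)}

/-- In odd characteristic the image of the pure subspace at `u₀` lies on a plane through `u`. -/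
theorem SHyp.plane_odd (S : SHyp σ f f₁ f₂ N) (h2 : (2 : F) ≠ 0) {g : GL (Fin a × Fin b) F} {u₀ : Fin b → F}
    (G : Off σ f₂ N g u₀) {u : Fin b → F} (hu0 : u ≠ 0) (hu : f₂ u u = 0) :
    ∃ w, ∀ v ∈ gim g (pureW a u₀), ∃ p q, pt p u + pt q w = v := by
  classical
  haveI := Fintype.ofFinite F
  have T := S.ctx.tens
  have hr := T.right
  have ha := S.ctx.dimA
  obtain ⟨c, hc0, hc⟩ := exists_skew hr.ne_refl hr.involutive
  obtain ⟨x, hx⟩ : ∃ x, x = rt (a := a) f₂ u c := ⟨_, rfl⟩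
  obtain ⟨z, hz⟩ : ∃ z, z = g * rt f₂ u₀ c * g⁻¹ := ⟨_, rfl⟩
  obtain ⟨R, hR⟩ : ∃ R, R = gim g (pureW a u₀) := ⟨_, rfl⟩
  obtain ⟨D, hD⟩ : ∃ D, D = pureW a u := ⟨_, rfl⟩
  obtain ⟨M1, hM1⟩ : ∃ M1 : (Fin a → F) →ₗ[F] (Fin a → F), ∀ p, M1 p = ctr f₂ u (g.val *ᵥ pt p u₀) :=
    ⟨(ctr f₂ u).comp ((Matrix.mulVecLin g.val).comp (ptL u₀)), fun p => rfl⟩
  obtain ⟨M2, hM2⟩ : ∃ M2 : (Fin a → F) →ₗ[F] (Fin a → F), ∀ p, M2 p = ctr f₂ u₀ (g⁻¹.val *ᵥ pt p u) :=
    ⟨(ctr f₂ u₀).comp ((Matrix.mulVecLin g⁻¹.val).comp (ptL u)), fun p => rfl⟩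
  obtain ⟨T', hT'⟩ : ∃ T' : Module.End F (Fin a → F), ∀ p, T' p = (c * c) • M1 (M2 p) :=
    ⟨(c * c) • M1.comp M2, fun p => rfl⟩
  have hTn : ¬ IsNilpotent T' := by
    rintro ⟨n, hn⟩
    refine G.notNil u hu0 hu c c hc0 hc hc0 hc ⟨n + 1, Matrix.ext_iff_mulVec.2 fun v => ?_⟩
    obtain ⟨X, hX⟩ : ∃ X, X = ((rt (a := a) f₂ u c).val - 1) * ((g * rt f₂ u₀ c * g⁻¹).val - 1) := ⟨_, rfl⟩
    have hXv : ∀ v, X *ᵥ v = pt ((c * c) • M1 (ctr f₂ u₀ (g⁻¹.val *ᵥ v))) u := fun v => by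
      rw [hX, ← mulVec_mulVec, sub_mulVec, sub_mulVec, one_mulVec, one_mulVec, conj_rt_mulVec T g G.iso c v,
        add_sub_cancel_left, rt_mulVec T hu, add_sub_cancel_left, map_smul, hM1, pt_smul_left, pt_smul_left,
        smul_smul]
    have hk : ∀ m : ℕ, X ^ (m + 1) *ᵥ v = pt ((T' ^ m) ((c * c) • M1 (ctr f₂ u₀ (g⁻¹.val *ᵥ v)))) u := fun m => by
      induction m with
      | zero => rw [pow_one, hXv, pow_zero, Module.End.one_apply]
      | succ m ih => rw [pow_succ', ← mulVec_mulVec, ih, hXv, ← hM2, ← hT', ← Module.End.mul_apply, ← pow_succ']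
    rw [← hX, hk, hn, LinearMap.zero_apply, pt_zero_left, zero_mulVec]
  obtain ⟨Ψ, hΨ⟩ : ∃ Ψ : (Fin a → F) × (Fin a → F) → (Fin a × Fin b → F),
      ∀ p q, Ψ (p, q) = c • (g.val *ᵥ pt (M2 p) u₀) + pt q u :=
    ⟨fun x => c • (g.val *ᵥ pt (M2 x.1) u₀) + pt x.2 u, fun p q => rfl⟩
  have hzΨ : ∀ p q, z.val *ᵥ Ψ (p, q) = Ψ (p + q, q) := fun p q => by
    rw [hΨ, hΨ, hz, conj_rt_mulVec T g G.iso, mulVec_add, mulVec_smul, Transvec.inv_mulVec_cancel, map_add,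
      map_smul, T.ctr_pt, G.iso, zero_smul, smul_zero, zero_add, ← hM2, map_add, pt_add_left, mulVec_add, smul_add]
    abel
  have hxΨ : ∀ p q, x.val *ᵥ Ψ (p, q) = Ψ (p, q + T' p) := fun p q => by
    rw [hΨ, hΨ, hx, rt_mulVec T hu, map_add, map_smul, ← hM1, T.ctr_pt, hu, zero_smul, add_zero, hT', pt_add_left,
      pt_smul_left, pt_smul_left, smul_smul]
    abel
  obtain ⟨Q, hQ⟩ : ∃ Q, Q = Subgroup.closure ({x, z} : Set (GL (Fin a × Fin b) F)) := ⟨_, rfl⟩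
  have hQN : Q ≤ N := hQ ▸ (Subgroup.closure_le N).2 (by
    rintro h (rfl | rfl)
    exacts [hx ▸ S.rt_mem hu hc, hz ▸ S.z_mem G hc])
  obtain ⟨α, hαα, hα1, m, ⟨h, hhQ, hh⟩, hm⟩ := UnitT.exists_scalar_involution_of_not_nilpotent h2 T' hTn
    (Rep := fun m => ∃ h ∈ Q, ∀ p, h.val *ᵥ Ψ p = Ψ (m p))
    ⟨1, one_mem Q, fun p => by rw [Units.val_one, one_mulVec, Module.End.one_apply]⟩
    (fun m m' ⟨h, hh, e⟩ ⟨h', hh', e'⟩ => ⟨h * h', mul_mem hh hh', fun p => by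
      rw [Transvec.mul_mulVec, e', e, Module.End.mul_apply]⟩)
    (fun m m' h1 _ ⟨h, hh, e⟩ => ⟨h⁻¹, inv_mem hh, fun p => by
      have := e (m' p)
      rw [← Module.End.mul_apply, h1, Module.End.one_apply] at this
      conv_lhs => rw [← this, Transvec.inv_mulVec_cancel]⟩)
    (fun X hX => ⟨z, hQ ▸ Subgroup.subset_closure (by simp), fun ⟨p, q⟩ => by rw [hzΨ, hX]⟩)
    (fun Y hY => ⟨x, hQ ▸ Subgroup.subset_closure (by simp), fun ⟨p, q⟩ => by rw [hxΨ, hY]⟩)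
  have hhN := hQN hhQ
  have hhD : ∀ q, h.val *ᵥ pt q u = pt (α q) u := fun q => by
    have := hh (0, q)
    rw [hm, hΨ, hΨ] at this
    simpa [pt_zero_left] using this
  have hfix : gim h (pureW a u) = pureW a u := gim_eq_of_moved fun v hv => by
    obtain ⟨q, rfl⟩ := hv
    rw [ptL_apply, hhD]
    exact Submodule.sub_mem _ (pt_mem_pureW _ _) (pt_mem_pureW _ _)
  obtain ⟨A, B, hAB, hBu⟩ := S.factor hhN hu0 hu hfix
  have hA : ∀ q, A.val *ᵥ q = α q := fun q => pt_injective hu0 (by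
    change pt (A.val *ᵥ q) u = pt (α q) u
    rw [← hhD, hAB, kr_apply, hBu])
  have hmoved : ∀ v, h.val *ᵥ v - v ∈ D ⊔ R := by
    refine closure_moved ?_ (hQ ▸ hhQ)
    rintro h' (rfl | rfl) v
    · rw [hx, rt_mulVec T hu, add_sub_cancel_left, hD]
      exact Submodule.mem_sup_left (Submodule.smul_mem _ _ (pt_mem_pureW _ _))
    · rw [hz, conj_rt_mulVec T g G.iso, add_sub_cancel_left, hR]
      exact Submodule.mem_sup_right (Submodule.smul_mem _ _ (mem_gim.2 ⟨_, pt_mem_pureW _ _, rfl⟩))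
  have hR0 : ∀ r ∈ R, ctr f₂ u r = 0 → h.val *ᵥ r = r := fun r hr hr0 => by
    refine closure_fix ?_ (hQ ▸ hhQ)
    rintro h' (rfl | rfl)
    · rw [hx, rt_fix T hu c hr0]
    · rw [hR] at hr
      obtain ⟨_, ⟨p, rfl⟩, rfl⟩ := mem_gim.1 hr
      rw [hz, conj_rt_mulVec T g G.iso, Transvec.inv_mulVec_cancel, ptL_apply, T.ctr_pt, G.iso, zero_smul,
        pt_zero_left, mulVec_zero, smul_zero, add_zero]
  -- a vector orthogonal to `u` outside its line
  obtain ⟨u', hu', h'u, huu'⟩ := exists_partner hr hu0 hu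
  obtain ⟨y, hyu, hyu', hyy⟩ := exists_aniso_pair hr (by rw [Fintype.card_fin]; exact S.ctx.three) hu hu' h'u
  have hys : y ∉ Submodule.span F ({u} : Set (Fin b → F)) := fun hm => by
    obtain ⟨l, rfl⟩ := Submodule.mem_span_singleton.1 hm
    exact hyy (by rw [hr.smul_left, smul_right' hr, hu, mul_zero, mul_zero])
  have hsq : ∀ q, ∃ p, h.val *ᵥ (h.val *ᵥ pt q y) - h.val *ᵥ pt q y - (h.val *ᵥ pt q y - pt q y) = pt p u := by
    intro q
    obtain ⟨_, ⟨p, rfl⟩, r, hrR, hpr⟩ := Submodule.mem_sup.1 (hD ▸ hmoved (pt q y))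
    rw [ptL_apply] at hpr
    have hc0' : ctr f₂ u r = 0 := by
      have e1 := congrArg (ctr f₂ u) hpr
      rwa [map_add, map_sub, ctr_image_zero T (S.ctx.iso hhN) hfix (by rw [T.ctr_pt, hyu, zero_smul]), T.ctr_pt,
        T.ctr_pt, hyu, hu, zero_smul, zero_smul, zero_add, sub_zero] at e1
    refine ⟨α p - p, ?_⟩
    rw [← mulVec_sub, ← hpr, mulVec_add, hhD, hR0 r hrR hc0', UnitT.pt_sub_left]
    abel
  have hαneg : ∀ q, α q = -q := by
    intro q
    by_contra hne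
    obtain ⟨e1, he1⟩ : ∃ e, e = q + α q := ⟨_, rfl⟩
    have hαα' : ∀ v, α (α v) = v := fun v => by rw [← Module.End.mul_apply, hαα, Module.End.one_apply]
    have he10 : e1 ≠ 0 := fun h0 => hne (eq_neg_of_add_eq_zero_right (he1 ▸ h0))
    obtain ⟨q', hq'⟩ : ∃ v, α v ≠ v := by
      by_contra hno
      push Not at hno
      exact hα1 (LinearMap.ext fun v => by rw [hno, Module.End.one_apply])
    obtain ⟨e2, he2⟩ : ∃ e, e = q' - α q' := ⟨_, rfl⟩
    have he20 : e2 ≠ 0 := he2 ▸ sub_ne_zero.2 (Ne.symm hq')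
    obtain ⟨ψ, -, hψ⟩ := exists_functional (E := (⊥ : Submodule F (Fin a → F))) (u := e1) (by simpa using he10)
    obtain ⟨ψ', -, hψ'⟩ := exists_functional (E := (⊥ : Submodule F (Fin a → F))) (u := e2) (by simpa using he20)
    obtain ⟨p1, hp1⟩ := hsq e1
    obtain ⟨p2, hp2⟩ := hsq e2
    have f1 : α e1 = e1 := by rw [he1, map_add, hαα', add_comm]
    have f2 : α e2 = -e2 := by rw [he2, map_sub, hαα', neg_sub]
    rw [hAB, kr_apply, kr_apply, hA, hA, f1, f1] at hp1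
    rw [hAB, kr_apply, kr_apply, hA, hA, f2, map_neg, f2, neg_neg, UnitT.pt_neg_left] at hp2
    have g1 := congrArg (slA ψ) hp1
    have g2 := congrArg (slA ψ') hp2
    simp only [map_sub, map_neg, slA_pt, hψ, one_smul] at g1
    simp only [map_sub, map_neg, slA_pt, hψ', one_smul] at g2
    have h4 : (4 : F) • (B.val *ᵥ y) ∈ Submodule.span F ({u} : Set (Fin b → F)) := by
      have e : (4 : F) • (B.val *ᵥ y) = (ψ' ⬝ᵥ p2) • u - (ψ ⬝ᵥ p1) • u := by
        rw [← g1, ← g2]; module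
      rw [e]
      exact Submodule.sub_mem _ (Submodule.smul_mem _ _ (Submodule.mem_span_singleton_self u))
        (Submodule.smul_mem _ _ (Submodule.mem_span_singleton_self u))
    have h40 : (4 : F) ≠ 0 := by
      rw [show (4 : F) = 2 * 2 by norm_num]; exact mul_ne_zero h2 h2
    have hBy := (Submodule.smul_mem_iff _ h40).1 h4
    obtain ⟨l, hl⟩ := Submodule.mem_span_singleton.1 hBy
    refine hys (Submodule.mem_span_singleton.2 ⟨l, Transvec.mulVec_injective B ?_⟩)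
    simp only
    rw [mulVec_smul, hBu, hl]
  obtain ⟨μ, hμ0, -, hB, hAμ⟩ := factors_sim T (by omega) (by have := S.ctx.three; omega) (hAB ▸ S.ctx.iso hhN)
  have hμ1 : μ = 1 := by
    obtain ⟨x₀, hx₀⟩ : ∃ x : Fin a → F, x ≠ 0 := ⟨Pi.single ⟨0, by omega⟩ 1, by simp⟩
    obtain ⟨y₀, hy₀⟩ := (T.left.nondegenerate x₀ hx₀).2
    have e := hAμ x₀ y₀
    rw [hA, hA, hαneg, hαneg, neg_left' T.left, ← neg_one_smul F y₀, smul_right' T.left, map_neg, map_one,
      neg_mul, one_mul, neg_neg] at e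
    exact inv_eq_one.1 (mul_right_cancel₀ hy₀ (e.symm.trans (one_mul _).symm))
  have hw : -(B.val *ᵥ u') - u' ∉ Submodule.span F ({u} : Set (Fin b → F)) := fun hm => by
    obtain ⟨l, hl⟩ := Submodule.mem_span_singleton.1 hm
    have e := congrArg (fun v => f₂ v u) hl
    simp only [hr.smul_left, hu, mul_zero, sub_left' hr, neg_left' hr] at e
    have e' := hB u' u
    rw [hBu, hμ1, one_mul] at e'
    rw [e', h'u] at e
    exact h2 (by linear_combination e)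
  refine hR ▸ S.plane_of hu0 G.ne_zero hw fun q => ?_
  have := hmoved (pt q u')
  rw [hAB, kr_apply, hA, hαneg, hD, hR, UnitT.pt_neg_left,
    show -pt q (B.val *ᵥ u') = pt q (-(B.val *ᵥ u')) from ((ptR q).map_neg _).symm, ← pt_sub_right] at this
  exact this

end CfsgLib.Classical22.UWr
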