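/-
Characteristic two: elements of dihedral groups generated by two slot roots, one conjugated.
-/
import Cfsg.Agent.Lib.Classical22.UnitWreath.PairBase

set_option autoImplicit false
set_option linter.unusedSectionVars false
set_option linter.unusedSimpArgs false

namespace CfsgLib.Classical22.UWr

open Matrix Kronecker CfsgLib.Transvec CfsgLib.Transvec.Unitary CfsgLib.Classical22.TensorMax
open CfsgLib.Classical22.TensorMax.SpO (kr kr_apply isKron_kr)
open CfsgLib.Classical22.TensorMax.SympO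
open CfsgLib.Classical22.TensorMax.UnitT (Tens ctr exists_partner)
open CfsgLib.Classical22.TWMax (mv mem_mv gim mem_gim mv_conj conj_sq invol_of_sq invol_conj_pow mul_odd_pow_conj
 )
open scoped MatrixGroups

section Group

variable {G : Type*} [Group G] {x z : G}

/-- A product of two involutions of even order powers to a central involution. -/
lemma exists_central (hx : x * x = 1) (hz : z * z = 1) (hev : ¬ Odd (orderOf (x * z))) (hfin : 0 < orderOf (x * z)) :
    ∃ h ∈ Subgroup.closure ({x, z} : Set G), h ≠ 1 ∧ h * h = 1 ∧ h * x * h⁻¹ = x ∧ h * z * h⁻¹ = z := by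
  obtain ⟨m, hm⟩ := Nat.not_odd_iff_even.1 hev
  obtain ⟨h, hh⟩ : ∃ h, h = (x * z) ^ m := ⟨_, rfl⟩
  have hh2 : h * h = 1 := by rw [hh, ← pow_add, ← hm, pow_orderOf_eq_one]
  have hhi : h⁻¹ = h := inv_eq_of_mul_eq_one_right hh2
  have hhx : x * h * x = h := by rw [hh, invol_conj_pow hx hz, ← hh, hhi]
  have hc : h * x = x * h := by
    conv_rhs => rw [← hhx, ← mul_assoc, ← mul_assoc, hx, one_mul]
  have hw : h * (x * z) = x * z * h := by rw [hh]; exact Commute.pow_self (x * z) m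
  refine ⟨h, hh ▸ pow_mem (mul_mem (Subgroup.subset_closure (by simp)) (Subgroup.subset_closure (by simp))) m,
    fun h1 => ?_, hh2, by rw [hc, mul_inv_cancel_right], ?_⟩
  · exact pow_ne_one_of_lt_orderOf (n := m) (x := x * z) (by omega) (by omega) (hh ▸ h1)
  · have hz' : h * z = z * h := by
      rw [show z = x * (x * z) by rw [← mul_assoc, hx, one_mul], ← mul_assoc, hc, mul_assoc, hw, ← mul_assoc]
    rw [hz', mul_inv_cancel_right]

/-- Two involutions with product of odd order are conjugate. -/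
lemma exists_conj_odd (hx : x * x = 1) (hz : z * z = 1) (ho : Odd (orderOf (x * z))) :
    ∃ δ ∈ Subgroup.closure ({x, z} : Set G), δ * z * δ⁻¹ = x := by
  obtain ⟨l, hl⟩ := ho
  refine ⟨((x * z) ^ l)⁻¹,
    inv_mem (pow_mem (mul_mem (Subgroup.subset_closure (by simp)) (Subgroup.subset_closure (by simp))) l), ?_⟩
  rw [inv_inv, ← mul_odd_pow_conj hx hz l, ← hl, pow_orderOf_eq_one, mul_one]

end Group

variable {F : Type*} [Field F]

lemma natCast_odd' (hc : (2 : F) = 0) {n : ℕ} (hn : Odd n) : (n : F) = 1 := by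
  obtain ⟨l, rfl⟩ := hn
  push_cast
  rw [hc, zero_mul, zero_add]

/-- The average over an odd cyclic part of a dihedral group. -/
lemma exists_average {ι : Type} [Fintype ι] [DecidableEq ι] (hc : (2 : F) = 0) {x z : GL ι F} (hx : x * x = 1)
    (hz : z * z = 1) (ho : Odd (orderOf (x * z))) :
    ∃ P : Matrix ι ι F, x.val * P = P * x.val ∧ z.val * P = P * z.val ∧ z.val * P = x.val * P ∧
      (∀ r, x.val *ᵥ r = r → z.val *ᵥ r = r → P *ᵥ r = r) ∧
      ∀ h : GL ι F, h * x = x * h → h * z = z * h → h.val * P = P * h.val := by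
  obtain ⟨w, hw⟩ : ∃ w, w = x * z := ⟨_, rfl⟩
  rw [← hw] at ho
  obtain ⟨o, hodef⟩ : ∃ o, o = orderOf w := ⟨_, rfl⟩
  rw [← hodef] at ho
  have hwo : w ^ o = 1 := hodef ▸ pow_orderOf_eq_one w
  obtain ⟨P, hP⟩ : ∃ P : Matrix ι ι F, P = ∑ i ∈ Finset.range o, (w ^ i).val := ⟨_, rfl⟩
  have hshift : ∑ i ∈ Finset.range o, (w ^ (i + 1)).val = P := by
    have e := (Finset.sum_range_succ' (fun i => (w ^ i).val) o).symm.trans (Finset.sum_range_succ (fun i => (w ^ i).val) o)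
    rw [hwo, pow_zero] at e
    rw [hP]
    exact add_right_cancel e
  have hwP : w.val * P = P := by
    conv_rhs => rw [← hshift]
    rw [hP, Finset.mul_sum]
    exact Finset.sum_congr rfl fun i _ => by rw [← Units.val_mul, ← pow_succ']
  have hPw : P * w.val = P := by
    conv_rhs => rw [← hshift]
    rw [hP, Finset.sum_mul]
    exact Finset.sum_congr rfl fun i _ => by rw [← Units.val_mul, ← pow_succ]
  have hxPx : x.val * P * x.val = P := by
    conv_rhs => rw [← hshift, ← Finset.sum_range_reflect (fun i => (w ^ (i + 1)).val) o]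
    rw [hP, Finset.mul_sum, Finset.sum_mul]
    refine Finset.sum_congr rfl fun i hi => ?_
    rw [Finset.mem_range] at hi
    rw [← Units.val_mul, ← Units.val_mul, hw, invol_conj_pow hx hz, ← hw]
    congr 1
    exact inv_eq_of_mul_eq_one_right (by rw [← pow_add, show i + (o - 1 - i + 1) = o by omega, hwo])
  have hxP : x.val * P = P * x.val := by
    conv_rhs => rw [← hxPx]
    rw [mul_assoc, mul_assoc, ← Units.val_mul, hx, Units.val_one, mul_one]
  have hzxw : z = x * w := by rw [hw, ← mul_assoc, hx, one_mul]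
  have hzP : z.val * P = x.val * P := by rw [hzxw, Units.val_mul, mul_assoc, hwP]
  refine ⟨P, hxP, ?_, hzP, fun r hxr hzr => ?_, fun h hhx hhz => ?_⟩
  · rw [hzP, hzxw, Units.val_mul, ← mul_assoc, ← hxP, mul_assoc, hPw]
  · have hwr : ∀ i : ℕ, (w ^ i).val *ᵥ r = r := fun i => by
      induction i with
      | zero => rw [pow_zero, Units.val_one, one_mulVec]
      | succ i ih => rw [pow_succ, Transvec.mul_mulVec, hw, Transvec.mul_mulVec, hzr, hxr, ← hw, ih]
    rw [hP, sum_mulVec, Finset.sum_congr rfl fun i _ => hwr i, Finset.sum_const, Finset.card_range,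
      ← Nat.cast_smul_eq_nsmul F, natCast_odd' hc ho, one_smul]
  · have hhw : Commute h w := hw ▸ (show Commute h x from hhx).mul_right hhz
    rw [hP, Finset.mul_sum, Finset.sum_mul]
    exact Finset.sum_congr rfl fun i _ => by rw [← Units.val_mul, ← Units.val_mul, (hhw.pow_right i).eq]

variable {a b : ℕ} {σ : F ≃+* F} {f : (Fin a × Fin b → F) → (Fin a × Fin b → F) → F}
  {f₁ : (Fin a → F) → (Fin a → F) → F} {f₂ : (Fin b → F) → (Fin b → F) → F}

/-- An isometry moving everything along one isotropic vector is a transvection. -/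
lemma eq_uT_of_moved {h2 : Cfsg.Geo.IsUnitaryForm σ f₂} [Finite F] {B : GL (Fin b) F} (hB : Iso f₂ B) {u : Fin b → F}
    (hu0 : u ≠ 0) (hu : f₂ u u = 0) (hm : ∀ y, B.val *ᵥ y - y ∈ Submodule.span F ({u} : Set (Fin b → F))) :
    ∃ l, B = uT f₂ u l := by
  choose l hl using fun y => Submodule.mem_span_singleton.1 (hm y)
  have hBy : ∀ y, B.val *ᵥ y = y + l y • u := fun y => by rw [hl, add_sub_cancel]
  have key : ∀ y y', l y * f₂ u y' + σ (l y') * f₂ y u = 0 := fun y y' => by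
    have e := hB y y'
    simp only [hBy, h2.add_left, h2.smul_left, Unitary.add_right' h2, smul_right' h2, hu] at e
    linear_combination e
  obtain ⟨u', -, hu'u, huu'⟩ := exists_partner h2 hu0 hu
  refine ⟨-σ (l u'), gl_ext fun y => ?_⟩
  rw [uT_mulVec h2 hu, hBy]
  congr 2
  have := key y u'
  rw [huu', mul_one] at this
  linear_combination this

variable [Finite F]

/-- An element fixed by two involutions of odd product in the moved space of the second is pure. -/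
lemma exists_meet (T : Tens σ f f₁ f₂) (hc : (2 : F) = 0) {g : GL (Fin a × Fin b) F} {u u₀ : Fin b → F}
    (hu : f₂ u u = 0) (hu₀ : f₂ u₀ u₀ = 0) (h0 : u₀ ≠ 0) {c d : F} (hd : d ≠ 0)
    (ho : Odd (orderOf (rt (a := a) f₂ u c * (g * rt f₂ u₀ d * g⁻¹)))) {r : Fin a × Fin b → F}
    (hr : r ∈ gim g (pureW a u₀)) (hr0 : ctr f₂ u r = 0) :
    ∃ y, (rt f₂ u c).val *ᵥ y - y = r ∧ (g * rt f₂ u₀ d * g⁻¹).val *ᵥ y - y = r := by
  haveI := Fintype.ofFinite F
  have hx := invol_of_sq hc (rt_sq T hu c)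
  have hz := invol_of_sq hc (conj_sq g _ (rt_sq T hu₀ d))
  obtain ⟨P, hxP, hzP, hzx, hfix, -⟩ := exists_average hc hx hz ho
  obtain ⟨y₀, hy₀⟩ : r ∈ mv (g * rt f₂ u₀ d * g⁻¹) := by rw [mv_conj, rt, mv_root T h0 hu₀ hd]; exact hr
  replace hy₀ : (g * rt f₂ u₀ d * g⁻¹).val *ᵥ y₀ - y₀ = r := hy₀
  have hzr : (g * rt f₂ u₀ d * g⁻¹).val *ᵥ r = r := by
    obtain ⟨_, ⟨p, rfl⟩, rfl⟩ := mem_gim.1 hr
    rw [conj_rt_mulVec T g hu₀, Transvec.inv_mulVec_cancel, ptL_apply, T.ctr_pt, hu₀, zero_smul, pt_zero_left,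
      mulVec_zero, smul_zero, add_zero]
  have e : (g * rt f₂ u₀ d * g⁻¹).val *ᵥ (P *ᵥ y₀) - P *ᵥ y₀ = r := by
    rw [mulVec_mulVec, hzP, ← mulVec_mulVec, ← mulVec_sub, hy₀, hfix r (rt_fix T hu c hr0) hzr]
  refine ⟨P *ᵥ y₀, ?_, e⟩
  rwa [mulVec_mulVec, hzx, ← mulVec_mulVec] at e

/-- An element of `N` preserving a pure subspace and moving little fixes the first factor. -/
theorem SHyp.kr_one_of_moved {N : Subgroup (GL (Fin a × Fin b) F)} (S : SHyp σ f f₁ f₂ N) {h : GL (Fin a × Fin b) F}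
    (hN : h ∈ N) {u : Fin b → F} (hu0 : u ≠ 0) (hu : f₂ u u = 0) (hfix : gim h (pureW a u) = pureW a u)
    {R : Submodule F (Fin a × Fin b → F)} (hmov : ∀ v, h.val *ᵥ v - v ∈ pureW a u ⊔ R)
    (hmeet : ∀ r ∈ R, ctr f₂ u r = 0 → r ∈ pureW a u) :
    ∃ (B : GL (Fin b) F) (β : F), h = kr 1 B ∧ Iso f₂ B ∧ β ≠ 0 ∧ B.val *ᵥ u = β • u ∧
      ∀ y, f₂ (B.val *ᵥ y - y) u = 0 → B.val *ᵥ y - y ∈ Submodule.span F ({u} : Set (Fin b → F)) := by
  have T := S.ctx.tens
  have ha := S.ctx.dimA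
  have hd : ∀ v, ctr f₂ u (h.val *ᵥ v - v) = 0 → h.val *ᵥ v - v ∈ pureW a u := fun v hv => by
    obtain ⟨_, ⟨p, rfl⟩, r, hr, hpr⟩ := Submodule.mem_sup.1 (hmov v)
    rw [← hpr, map_add, ptL_apply, T.ctr_pt, hu, zero_smul, zero_add] at hv
    rw [← hpr]
    exact Submodule.add_mem _ (pt_mem_pureW p u) (hmeet r hr hv)
  obtain ⟨A, B, hAB, hBu⟩ := S.factor hN hu0 hu hfix
  obtain ⟨u', hu', hu'u, huu'⟩ := exists_partner T.right hu0 hu
  obtain ⟨y, hyu, hyu', hyy⟩ := UnitT.exists_aniso_pair T.right (by rw [Fintype.card_fin]; exact S.ctx.three) hu hu' hu'u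
  have hys : y ∉ Submodule.span F ({u} : Set (Fin b → F)) := fun hm => by
    obtain ⟨l, rfl⟩ := Submodule.mem_span_singleton.1 hm
    exact hyy (by rw [T.right.smul_left, smul_right' T.right, hu, mul_zero, mul_zero])
  obtain ⟨φ, hφ, hφy⟩ := exists_functional hys
  obtain ⟨κ, hκ⟩ : ∃ κ, κ = φ ⬝ᵥ (B.val *ᵥ y) := ⟨_, rfl⟩
  have hA : ∀ q, κ • (A.val *ᵥ q) = q := fun q => by
    obtain ⟨p, hp⟩ := hd (pt q y) (by
      rw [map_sub, ctr_image_zero T (S.ctx.iso hN) hfix (by rw [T.ctr_pt, hyu, zero_smul]), T.ctr_pt, hyu, zero_smul,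
        sub_zero])
    have e := congrArg (sl φ) hp
    rw [ptL_apply, sl_pt, hφ u (Submodule.mem_span_singleton_self u), zero_smul, map_sub, hAB, kr_apply, sl_pt, sl_pt,
      hφy, one_smul, ← hκ] at e
    exact sub_eq_zero.1 e.symm
  obtain ⟨x₀, hx₀⟩ : ∃ x : Fin a → F, x ≠ 0 := ⟨Pi.single ⟨0, by omega⟩ 1, by simp⟩
  have hκ0 : κ ≠ 0 := fun h0 => hx₀ (by rw [← hA x₀, h0, zero_smul])
  obtain ⟨B', hB'⟩ : ∃ B' : GL (Fin b) F, ∀ v, B'.val *ᵥ v = κ⁻¹ • (B.val *ᵥ v) :=
    ⟨⟨κ⁻¹ • B.val, κ • B⁻¹.val,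
      by rw [Matrix.smul_mul, Matrix.mul_smul, smul_smul, inv_mul_cancel₀ hκ0, Units.mul_inv, one_smul],
      by rw [Matrix.smul_mul, Matrix.mul_smul, smul_smul, mul_inv_cancel₀ hκ0, Units.inv_mul, one_smul]⟩,
      fun v => smul_mulVec _ _ _⟩
  have hh : h = kr 1 B' := ext_pt fun x j => by
    rw [hAB, kr_apply, kr_apply, hB', Units.val_one, one_mulVec, pt_smul_right, ← pt_smul_left]
    congr 1
    rw [eq_inv_smul_iff₀ hκ0, hA]
  obtain ⟨μ, hμ0, -, hBμ, hAμ⟩ := factors_sim T (by omega) (by have := S.ctx.three; omega) (hh ▸ S.ctx.iso hN)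
  have hμ1 : μ = 1 := by
    obtain ⟨y₀, hy₀⟩ := (T.left.nondegenerate x₀ hx₀).2
    have e := hAμ x₀ y₀
    rw [Units.val_one, one_mulVec, one_mulVec] at e
    exact inv_eq_one.1 (mul_right_cancel₀ hy₀ (e.symm.trans (one_mul _).symm))
  refine ⟨B', κ⁻¹, hh, fun v w => by rw [hBμ, hμ1, one_mul], inv_ne_zero hκ0, by rw [hB', hBu], fun v hv => ?_⟩
  obtain ⟨ψ, -, hψ⟩ := exists_functional (E := (⊥ : Submodule F (Fin a → F))) (u := x₀) (by simpa using hx₀)
  have e : h.val *ᵥ pt x₀ v - pt x₀ v = pt x₀ (B'.val *ᵥ v - v) := by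
    rw [hh, kr_apply, Units.val_one, one_mulVec, pt_sub_right]
  obtain ⟨p, hp⟩ := hd (pt x₀ v) (by rw [e, T.ctr_pt, hv, zero_smul])
  have e' := congrArg (slA ψ) (hp.trans e)
  rw [ptL_apply, slA_pt, slA_pt, hψ, one_smul] at e'
  exact Submodule.mem_span_singleton.2 ⟨_, e'⟩

/-- With meeting spaces inside, a conjugate root commutes with no common involution. -/
theorem SHyp.odd_order {N : Subgroup (GL (Fin a × Fin b) F)} (S : SHyp σ f f₁ f₂ N) (hc2 : (2 : F) = 0)
    {g : GL (Fin a × Fin b) F} {u u₀ : Fin b → F} (G : Off σ f₂ N g u₀) (hu0 : u ≠ 0) (hu : f₂ u u = 0) {c d : F}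
    (hc0 : c ≠ 0) (hc : c + σ c = 0) (hd0 : d ≠ 0) (hd : d + σ d = 0)
    (hmeet : ∀ r ∈ gim g (pureW a u₀), ctr f₂ u r = 0 → r ∈ pureW a u) :
    Odd (orderOf (rt (a := a) f₂ u c * (g * rt f₂ u₀ d * g⁻¹))) := by
  haveI := Fintype.ofFinite F
  have T := S.ctx.tens
  by_contra hev
  obtain ⟨h, hh, hh1, hh2, hhx, hhz⟩ := exists_central (invol_of_sq hc2 (rt_sq T hu c))
    (invol_of_sq hc2 (conj_sq g _ (rt_sq T G.iso d))) hev (orderOf_pos _)
  have hN : h ∈ N := (Subgroup.closure_le N).2 (by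
    rintro y (rfl | rfl)
    exacts [S.rt_mem hu hc, S.z_mem G hd]) hh
  have hmov : ∀ v, h.val *ᵥ v - v ∈ pureW a u ⊔ gim g (pureW a u₀) := by
    refine closure_moved ?_ hh
    rintro y (rfl | rfl) v
    · rw [rt_mulVec T hu, add_sub_cancel_left]
      exact Submodule.mem_sup_left (Submodule.smul_mem _ _ (pt_mem_pureW _ _))
    · rw [conj_rt_mulVec T g G.iso, add_sub_cancel_left]
      exact Submodule.mem_sup_right (Submodule.smul_mem _ _ (mem_gim.2 ⟨_, pt_mem_pureW _ _, rfl⟩))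
  obtain ⟨B, β, hB, hBi, hβ0, hBu, hBm⟩ := S.kr_one_of_moved hN hu0 hu (S.gim_of_commute hu0 hu hc0 hhx) hmov hmeet
  have hβ : β = 1 := by
    have e := congrArg (fun k : GL (Fin a × Fin b) F => k.val *ᵥ pt (Pi.single ⟨0, by have := S.ctx.dimA; omega⟩ 1) u) hh2
    rw [hB] at e
    simp only [Transvec.mul_mulVec, kr_apply, Units.val_one, one_mulVec, hBu, mulVec_smul, smul_smul] at e
    obtain ⟨φ, -, hφ⟩ := exists_functional (E := (⊥ : Submodule F (Fin b → F))) (u := u) (by simpa using hu0)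
    have e' := congrArg (sl φ) e
    rw [sl_pt, sl_pt, dotProduct_smul, hφ, smul_eq_mul, mul_one, one_smul] at e'
    have e'' : β * β = 1 := by simpa using congrFun e' ⟨0, by have := S.ctx.dimA; omega⟩
    have : (β - 1) * (β - 1) = 0 := by linear_combination e'' + (1 - β) * hc2
    exact sub_eq_zero.1 (mul_self_eq_zero.1 this)
  rw [hβ, one_smul] at hBu
  obtain ⟨u', -, hu'u, -⟩ := exists_partner T.right hu0 hu
  obtain ⟨l, hl⟩ := eq_uT_of_moved (h2 := T.right) hBi hu0 hu fun y => hBm y (by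
    rw [sub_left' T.right]
    nth_rewrite 1 [← hBu]
    rw [hBi, sub_self])
  have hl0 : l ≠ 0 := fun h0 => hh1 (by
    rw [hB, hl, h0]
    exact gl_ext fun v => by rw [T.root_apply hu, zero_smul, add_zero, Units.val_one, one_mulVec])
  refine G.notKeep u hu0 hu d hd0 hd (S.gim_of_commute hu0 hu hl0 ?_)
  have hhz' : h * (g * rt f₂ u₀ d * g⁻¹) = g * rt f₂ u₀ d * g⁻¹ * h := mul_inv_eq_iff_eq_mul.1 hhz
  have hr : rt (a := a) f₂ u l = h := by rw [hB, hl]; rfl
  rw [hr, ← hhz', mul_inv_cancel_right]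

end CfsgLib.Classical22.UWr
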