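/-
Characteristic two: the twisted pairs and the planes they give.
-/
import Cfsg.Agent.Lib.Classical22.UnitWreath.Dihed

set_option autoImplicit false
set_option linter.unusedSectionVars false
set_option linter.unusedSimpArgs false
set_option maxHeartbeats 1000000

namespace CfsgLib.Classical22.UWr

open Matrix Kronecker CfsgLib.Transvec CfsgLib.Transvec.Unitary CfsgLib.Classical22.TensorMax
open CfsgLib.Classical22.TensorMax.SpO (kr kr_apply isKron_kr)
open CfsgLib.Classical22.TensorMax.SympO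
open CfsgLib.Classical22.TensorMax.UnitT (Tens ctr exists_partner exists_iso_perp' exists_move_iso)
open CfsgLib.Classical22.TWMax (mv mem_mv gim mem_gim gim_mul gim_inv_gim mv_conj conj_sq invol_of_sq invol_conj_pow
  mul_odd_pow_conj)
open scoped MatrixGroups

variable {F : Type*} [Field F] [Finite F] {a b : ℕ} {σ : F ≃+* F}
  {f : (Fin a × Fin b → F) → (Fin a × Fin b → F) → F}
  {f₁ : (Fin a → F) → (Fin a → F) → F} {f₂ : (Fin b → F) → (Fin b → F) → F}
  {N : Subgroup (GL (Fin a × Fin b) F)}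

section Twist

variable (S : SHyp σ f f₁ f₂ N) (hc2 : (2 : F) = 0) {g : GL (Fin a × Fin b) F} {u : Fin b → F}
  (G : Off σ f₂ N g u) {c : F} (hc0 : c ≠ 0) (hc : c + σ c = 0)
  (ho : Odd (orderOf (rt (a := a) f₂ u c * (g * rt f₂ u c * g⁻¹))))
  (hg : g ∈ Subgroup.closure ({rt (a := a) f₂ u c, g * rt f₂ u c * g⁻¹} : Set (GL (Fin a × Fin b) F)))
include S hc2 G hc0 hc ho hg

/-- In a twisted pair, the meeting space of the two pure subspaces is inside both. -/
lemma twist_meet : ∀ r ∈ gim g (pureW a u), ctr f₂ u r = 0 → r ∈ pureW a u := fun r hr hr0 => by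
  obtain ⟨y, hy, -⟩ := exists_meet S.ctx.tens hc2 G.iso G.iso G.ne_zero hc0 ho hr hr0
  rw [← hy, rt_mulVec S.ctx.tens G.iso, add_sub_cancel_left]
  exact Submodule.smul_mem _ _ (pt_mem_pureW _ _)

/-- With a fixed scalar other than one, a twisted pair spans a plane. -/
theorem twist_plane {r : F} (hr : σ r = r) (hr0 : r ≠ 0) (hr1 : r ≠ 1) :
    ∃ w, w ∉ Submodule.span F ({u} : Set (Fin b → F)) ∧ ∀ q, pt q w ∈ pureW a u ⊔ gim g (pureW a u) := by
  haveI := Fintype.ofFinite F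
  have T := S.ctx.tens
  have hu := G.iso
  have hu0 := G.ne_zero
  obtain ⟨z, hz⟩ : ∃ z, z = g * rt f₂ u c * g⁻¹ := ⟨_, rfl⟩
  have hc' : r * c + σ (r * c) = 0 := by rw [map_mul, hr]; linear_combination r * hc
  have hc'0 : r * c ≠ 0 := mul_ne_zero hr0 hc0
  obtain ⟨x', hx'⟩ : ∃ x', x' = rt (a := a) f₂ u (r * c) := ⟨_, rfl⟩
  have hmeet := twist_meet S hc2 G hc0 hc ho hg
  have ho' : Odd (orderOf (x' * z)) := hx' ▸ hz ▸ S.odd_order hc2 G hu0 hu hc'0 hc' hc0 hc hmeet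
  have hzero : ∀ r₀ ∈ gim g (pureW a u), ctr f₂ u r₀ = 0 → r₀ = 0 := fun r₀ hr₀ hr₀0 => by
    obtain ⟨y, hy1, hy2⟩ := exists_meet T hc2 hu hu G.ne_zero hc0 ho hr₀ hr₀0
    rw [← hz] at hy2
    have hx'y : x'.val *ᵥ y = y + r • r₀ := by
      rw [← hy1, hx', rt_mulVec T hu, rt_mulVec T hu, add_sub_cancel_left, smul_smul]
    have hx'r : x'.val *ᵥ r₀ = r₀ := hx' ▸ rt_fix T hu _ hr₀0
    have hzr : z.val *ᵥ r₀ = r₀ := by
      obtain ⟨_, ⟨p, rfl⟩, rfl⟩ := mem_gim.1 hr₀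
      rw [hz, conj_rt_mulVec T g hu, Transvec.inv_mulVec_cancel, ptL_apply, T.ctr_pt, hu, zero_smul, pt_zero_left,
        mulVec_zero, smul_zero, add_zero]
    have hw : (x' * z).val *ᵥ y = y + (r + 1) • r₀ := by
      rw [Transvec.mul_mulVec, show z.val *ᵥ y = y + r₀ by rw [← hy2, add_sub_cancel], mulVec_add, hx'y, hx'r,
        add_smul, one_smul, add_assoc]
    have hwn : ∀ n : ℕ, ((x' * z) ^ n).val *ᵥ y = y + ((n : F) * (r + 1)) • r₀ := fun n => by
      induction n with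
      | zero => simp
      | succ n ih =>
        rw [pow_succ', Transvec.mul_mulVec, ih, mulVec_add, mulVec_smul, hw, Transvec.mul_mulVec, hzr, hx'r]
        push_cast
        module
    have e := hwn (orderOf (x' * z))
    rw [pow_orderOf_eq_one, Units.val_one, one_mulVec, natCast_odd' hc2 ho', one_mul, left_eq_add, smul_eq_zero] at e
    exact e.resolve_left fun h0 => hr1 (by linear_combination h0 - hc2)
  obtain ⟨δ, hδ, hδz⟩ := exists_conj_odd (hx' ▸ invol_of_sq hc2 (rt_sq T hu (r * c)))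
    (hz ▸ invol_of_sq hc2 (conj_sq g _ (rt_sq T hu c))) ho'
  have hx'N : x' ∈ N := hx' ▸ S.rt_mem hu hc'
  have hδN : δ ∈ N := (Subgroup.closure_le N).2 (by
    rintro y (rfl | rfl)
    exacts [hx'N, hz ▸ S.z_mem G hc]) hδ
  obtain ⟨d, hd⟩ : ∃ d, d = δ * g := ⟨_, rfl⟩
  have hdx : d * rt f₂ u c * d⁻¹ = x' := by rw [hd, ← hδz, hz]; group
  have hfix : gim d (pureW a u) = pureW a u := by
    conv_lhs => rw [← S.mv_rt hu0 hu hc0]
    rw [← mv_conj, hdx, hx', S.mv_rt hu0 hu hc'0]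
  have hmov : ∀ v, d.val *ᵥ v - v ∈ pureW a u ⊔ gim g (pureW a u) := by
    have hx1 : ∀ (e : F) v, (rt (a := a) f₂ u e).val *ᵥ v - v ∈ pureW a u ⊔ gim g (pureW a u) := fun e v => by
      rw [rt_mulVec T hu, add_sub_cancel_left]
      exact Submodule.mem_sup_left (Submodule.smul_mem _ _ (pt_mem_pureW _ _))
    have hz1 : ∀ v, z.val *ᵥ v - v ∈ pureW a u ⊔ gim g (pureW a u) := fun v => by
      rw [hz, conj_rt_mulVec T g hu, add_sub_cancel_left]
      exact Submodule.mem_sup_right (Submodule.smul_mem _ _ (mem_gim.2 ⟨_, pt_mem_pureW _ _, rfl⟩))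
    intro v
    rw [hd, Transvec.mul_mulVec, ← sub_add_sub_cancel _ (g.val *ᵥ v)]
    refine add_mem (closure_moved ?_ hδ _) (closure_moved ?_ hg _)
    · rintro y (rfl | rfl)
      exacts [hx' ▸ hx1 _, hz1]
    · rintro y (rfl | rfl)
      exacts [hx1 _, hz ▸ hz1]
  obtain ⟨B, β, hB, hBi, hβ0, hBu, -⟩ := S.kr_one_of_moved (hd ▸ mul_mem hδN G.mem) hu0 hu hfix hmov
    fun r₀ hr₀ hr₀0 => by rw [hzero r₀ hr₀ hr₀0]; exact zero_mem _
  obtain ⟨u', -, hu'u, -⟩ := exists_partner T.right hu0 hu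
  obtain ⟨x₀, hx₀⟩ : ∃ x : Fin a → F, x ≠ 0 := ⟨Pi.single ⟨0, by have := S.ctx.dimA; omega⟩ 1, by simp⟩
  have hN : β * σ β = r := by
    have e := congrArg (fun k : GL (Fin a × Fin b) F => k.val *ᵥ (d.val *ᵥ pt x₀ u')) hdx
    simp only [Transvec.mul_mulVec, Transvec.inv_mulVec_cancel] at e
    simp only [hx', rt_mulVec T hu, hB, kr_apply, Units.val_one,
      one_mulVec, T.ctr_pt, hu'u, one_smul, mulVec_add, mulVec_smul, hBu] at e
    have h1 : σ β * f₂ (B.val *ᵥ u') u = 1 := by rw [← smul_right' T.right, ← hBu, hBi, hu'u]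
    rw [add_right_inj, pt_smul_left, smul_smul, pt_smul_right, smul_smul] at e
    obtain ⟨φ, -, hφ⟩ := exists_functional (E := (⊥ : Submodule F (Fin b → F))) (u := u) (by simpa using hu0)
    have e' := congrArg (sl φ) e
    rw [map_smul, map_smul, sl_pt, hφ, one_smul] at e'
    have e'' := smul_left_injective F hx₀ e'
    calc β * σ β = (c * β) * σ β * c⁻¹ := by field_simp
      _ = r * (σ β * f₂ (B.val *ᵥ u') u) := by rw [e'']; field_simp
      _ = r := by rw [h1, mul_one]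
  refine ⟨B.val *ᵥ u' - u', fun hm => ?_, fun q => ?_⟩
  · obtain ⟨l, hl⟩ := Submodule.mem_span_singleton.1 hm
    have e := congrArg (fun v => f₂ v u) hl
    simp only [T.right.smul_left, hu, mul_zero, sub_left' T.right, hu'u] at e
    have h1 := hBi u' u
    rw [hBu, smul_right' T.right, sub_eq_zero.1 e.symm, mul_one, hu'u] at h1
    have hβ1 : β = 1 := by rw [← T.right.involutive β, h1, map_one]
    exact hr1 (by rw [← hN, hβ1, map_one, mul_one])
  · have := hmov (pt q u')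
    rwa [hB, kr_apply, Units.val_one, one_mulVec, ← pt_sub_right] at this

/-- Without a fixed scalar other than one, an element fixing a perpendicular direction has odd product. -/
lemma twist_odd (hno : ∀ r : F, σ r = r → r ≠ 0 → r = 1) {v : Fin b → F} (hv : f₂ v v = 0) (hvu : f₂ v u = 0)
    (hvs : v ∉ Submodule.span F ({u} : Set (Fin b → F))) :
    Odd (orderOf (rt (a := a) f₂ v c * (g * rt f₂ u c * g⁻¹))) := by
  classical
  haveI := Fintype.ofFinite F
  have T := S.ctx.tens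
  have h2 := T.right
  have hu := G.iso
  have hu0 := G.ne_zero
  have ha := S.ctx.dimA
  have huv : f₂ u v = 0 := (eq_zero_comm h2).1 hvu
  have hv0 : v ≠ 0 := fun h0 => hvs (h0 ▸ Submodule.zero_mem _)
  by_contra hev
  obtain ⟨z, hz⟩ : ∃ z, z = g * rt f₂ u c * g⁻¹ := ⟨_, rfl⟩
  rw [← hz] at hev
  obtain ⟨h, hh, hh1, hh2, hhx, hhz⟩ := exists_central (invol_of_sq hc2 (rt_sq T hv c))
    (hz ▸ invol_of_sq hc2 (conj_sq g _ (rt_sq T hu c))) hev (orderOf_pos _)
  have hN : h ∈ N := (Subgroup.closure_le N).2 (by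
    rintro y (rfl | rfl)
    exacts [S.rt_mem hv hc, hz ▸ S.z_mem G hc]) hh
  obtain ⟨K, hK⟩ : ∃ K : Submodule F (Fin a × Fin b → F), K = gim g (pureW a u) ⊓ LinearMap.ker (ctr f₂ v) :=
    ⟨_, rfl⟩
  have hKfix : ∀ k ∈ K, h.val *ᵥ k = k := fun k hk => by
    rw [hK, Submodule.mem_inf, LinearMap.mem_ker] at hk
    refine closure_fix ?_ hh
    rintro y (rfl | rfl)
    · exact rt_fix T hv c hk.2
    · obtain ⟨_, ⟨p, rfl⟩, rfl⟩ := mem_gim.1 hk.1
      rw [hz, conj_rt_mulVec T g hu, Transvec.inv_mulVec_cancel, ptL_apply, T.ctr_pt, hu, zero_smul, pt_zero_left,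
        mulVec_zero, smul_zero, add_zero]
  have hKdim : Module.finrank F K < a := by
    by_contra hge
    have hle : K ≤ gim g (pureW a u) := hK ▸ inf_le_left
    have heq := Submodule.eq_of_le_of_finrank_le hle (by rw [S.finrank_image g hu0]; omega)
    refine G.notKeep v hv0 hv c hc0 hc (gim_eq_of_moved fun w hw => ?_)
    obtain ⟨p, rfl⟩ := hw
    have hp : ctr f₂ u (g⁻¹.val *ᵥ ptL v p) = 0 := by
      by_contra hne
      obtain ⟨q, hq⟩ := (T.left.nondegenerate _ hne).2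
      refine hq ?_
      have hmem : g.val *ᵥ pt q u ∈ K := heq.ge (mem_gim.2 ⟨_, pt_mem_pureW _ _, rfl⟩)
      rw [hK, Submodule.mem_inf, LinearMap.mem_ker] at hmem
      rw [← T.f_pt, ← S.ctx.iso G.mem, Transvec.mulVec_inv_cancel, T.uni.herm, ptL_apply, T.f_pt, hmem.2,
        zero_left' T.left, map_zero]
    rw [conj_rt_mulVec T g hu, hp, pt_zero_left, mulVec_zero, smul_zero, add_zero, sub_self]
    exact zero_mem _
  have hfix := S.gim_of_commute hv0 hv hc0 hhx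
  obtain ⟨W, hW⟩ : ∃ W : Submodule F (Fin a × Fin b → F), W = pureW a v ⊔ K := ⟨_, rfl⟩
  have hWdim : Module.finrank F W < a + a := by
    have := Submodule.finrank_add_le_finrank_add_finrank (pureW a v) K
    rw [finrank_pureW hv0] at this
    rw [hW]; omega
  have hmov : ∀ w, ctr f₂ v (h.val *ᵥ w - w) = 0 → h.val *ᵥ w - w ∈ W := fun w hw => by
    have hm : h.val *ᵥ w - w ∈ pureW a v ⊔ gim g (pureW a u) := by
      refine closure_moved ?_ hh w
      rintro y (rfl | rfl) w'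
      · rw [rt_mulVec T hv, add_sub_cancel_left]
        exact Submodule.mem_sup_left (Submodule.smul_mem _ _ (pt_mem_pureW _ _))
      · rw [hz, conj_rt_mulVec T g hu, add_sub_cancel_left]
        exact Submodule.mem_sup_right (Submodule.smul_mem _ _ (mem_gim.2 ⟨_, pt_mem_pureW _ _, rfl⟩))
    obtain ⟨_, ⟨p, rfl⟩, k, hk, hpk⟩ := Submodule.mem_sup.1 hm
    rw [← hpk, map_add, ptL_apply, T.ctr_pt, hv, zero_smul, zero_add] at hw
    rw [← hpk, hW]
    exact Submodule.add_mem _ (Submodule.mem_sup_left (pt_mem_pureW p v))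
      (Submodule.mem_sup_right (hK ▸ Submodule.mem_inf.2 ⟨hk, LinearMap.mem_ker.2 hw⟩))
  obtain ⟨A, B, hAB, hBv⟩ := S.factor hN hv0 hv hfix
  obtain ⟨μ, hμ0, hμs, hBμ, hAμ⟩ := factors_sim T (by omega) (by have := S.ctx.three; omega) (hAB ▸ S.ctx.iso hN)
  have hμ1 := hno μ hμs hμ0
  simp only [hμ1, one_mul, inv_one] at hBμ hAμ
  have hdu : ∀ q, pt (A.val *ᵥ q) (B.val *ᵥ u) - pt q u ∈ W := fun q => by
    have := hmov (pt q u) (by rw [map_sub, ctr_image_zero T (S.ctx.iso hN) hfix (by rw [T.ctr_pt, huv, zero_smul]),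
      T.ctr_pt, huv, zero_smul, sub_zero])
    rwa [hAB, kr_apply] at this
  -- the image of `u`
  have hBu : B.val *ᵥ u ∈ Submodule.span F ({u, v} : Set (Fin b → F)) := by
    by_contra hn
    obtain ⟨φ, hφ, hφB⟩ := exists_functional hn
    have hφu := hφ u (Submodule.subset_span (by simp))
    have hφv := hφ v (Submodule.subset_span (by simp))
    obtain ⟨L, hL⟩ : ∃ L : (Fin a → F) × (Fin a → F) →ₗ[F] (Fin a × Fin b → F),
        ∀ p q, L (p, q) = pt p v + (pt (A.val *ᵥ q) (B.val *ᵥ u) - pt q u) :=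
      ⟨(ptL v).comp (LinearMap.fst F _ _) +
        (((ptL (B.val *ᵥ u)).comp (Matrix.mulVecLin A.val)) - ptL u).comp (LinearMap.snd F _ _), fun p q => rfl⟩
    have hinj : Function.Injective L := (injective_iff_map_eq_zero L).2 fun x hx => by
      obtain ⟨p, q⟩ := x
      rw [hL] at hx
      have hq : q = 0 := by
        have := congrArg (sl φ) hx
        rw [map_add, map_sub, sl_pt, sl_pt, sl_pt, hφu, hφv, hφB, zero_smul, zero_smul, one_smul, sub_zero, zero_add,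
          map_zero] at this
        exact mulVec_injective A (by simpa using this)
      rw [hq, mulVec_zero, pt_zero_left, pt_zero_left, sub_zero, add_zero] at hx
      rw [hq, pt_injective hv0 (hx.trans (pt_zero_left v).symm)]
      rfl
    have hle : LinearMap.range L ≤ W := by
      rintro _ ⟨⟨p, q⟩, rfl⟩
      rw [hL]
      exact W.add_mem (hW ▸ Submodule.mem_sup_left (pt_mem_pureW p v)) (hdu q)
    have := Submodule.finrank_mono hle
    rw [LinearMap.finrank_range_of_inj hinj, Module.finrank_prod, Module.finrank_fin_fun] at this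
    omega
  obtain ⟨l, m, hlm⟩ := Submodule.mem_span_pair.1 hBu
  have hl : l ≠ 0 := fun h0 => hvs (Submodule.mem_span_singleton.2 (by
    rw [h0, zero_smul, zero_add] at hlm
    have e : m • v = u := by
      refine Transvec.mulVec_injective B ?_
      simp only
      rw [mulVec_smul, hBv, hlm]
    have hm0 : m ≠ 0 := fun hm0 => hu0 (by rw [← e, hm0, zero_smul])
    exact ⟨m⁻¹, by rw [← e, inv_smul_smul₀ hm0]⟩))
  have hll : l * σ l = 1 := by
    obtain ⟨u', -, hu'u, -⟩ := exists_partner h2 hu0 hu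
    refine hno _ (by rw [map_mul, h2.involutive, mul_comm]) (mul_ne_zero hl ((map_ne_zero_iff _ σ.injective).2 hl))
  obtain ⟨A', hA'⟩ : ∃ A' : (Fin a → F) →ₗ[F] (Fin a → F), ∀ q, A' q = l • (A.val *ᵥ q) :=
    ⟨l • Matrix.mulVecLin A.val, fun q => rfl⟩
  have hhu : ∀ q, h.val *ᵥ pt q u = pt (A' q) u + pt ((m / l) • A' q) v := fun q => by
    rw [hAB, kr_apply, ← hlm, pt_add_right, pt_smul_right, pt_smul_right, hA', smul_smul, div_mul_cancel₀ _ hl,
      pt_smul_left, pt_smul_left]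
  have hk : ∀ q, pt (A' q - q) u ∈ gim g (pureW a u) := fun q => by
    have hd := hdu q
    rw [← kr_apply, ← hAB, hhu, hW] at hd
    obtain ⟨_, ⟨p, rfl⟩, k, hkK, hpk⟩ := Submodule.mem_sup.1 hd
    rw [hK, Submodule.mem_inf] at hkK
    have hk0 : ctr f₂ u k = 0 := by
      have e1 := congrArg (ctr f₂ u) hpk
      simpa [map_add, map_sub, ptL_apply, T.ctr_pt, hu, hvu] using e1
    obtain ⟨q', hq'⟩ := twist_meet S hc2 G hc0 hc ho hg k hkK.1 hk0
    rw [ptL_apply] at hq' hpk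
    rw [← hq'] at hpk
    have e2 : pt (A' q - q - q') u + pt ((m / l) • A' q - p) v = 0 := by
      rw [UnitT.pt_sub_left, UnitT.pt_sub_left, UnitT.pt_sub_left]
      linear_combination (norm := abel) -hpk
    obtain ⟨e3, -⟩ := pure_pair_injective hu0 hvs e2
    rw [sub_eq_zero.1 e3, hq']
    exact hkK.1
  have hKu : ∀ q, pt q u ∈ gim g (pureW a u) → h.val *ᵥ pt q u = pt q u := fun q hq =>
    hKfix _ (hK ▸ Submodule.mem_inf.2 ⟨hq, LinearMap.mem_ker.2 (by rw [T.ctr_pt, huv, zero_smul])⟩)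
  have hNN : ∀ q, A' (A' q - q) = A' q - q ∧ (m / l) • (A' q - q) = 0 := fun q => by
    have e := hKu _ (hk q)
    rw [hhu] at e
    have e' : pt (A' (A' q - q) - (A' q - q)) u + pt ((m / l) • A' (A' q - q)) v = 0 := by
      rw [UnitT.pt_sub_left]
      linear_combination (norm := abel) e
    obtain ⟨e1, e2⟩ := pure_pair_injective hu0 hvs e'
    rw [sub_eq_zero.1 e1] at e2
    exact ⟨sub_eq_zero.1 e1, e2⟩
  have hA1 : ∀ q, A' q = q := by
    by_cases hm0 : m / l = 0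
    swap
    · exact fun q => sub_eq_zero.1 ((smul_eq_zero.1 (hNN q).2).resolve_left hm0)
    have hhu' : ∀ q, h.val *ᵥ pt q u = pt (A' q) u := fun q => by
      rw [hhu, hm0, zero_smul, pt_zero_left, add_zero]
    have hfu : gim h (pureW a u) = pureW a u := gim_eq_of_moved fun w hw => by
      obtain ⟨q, rfl⟩ := hw
      rw [ptL_apply, hhu', ← UnitT.pt_sub_left]
      exact pt_mem_pureW _ _
    have hsurj : Function.Surjective A' := fun q => ⟨l⁻¹ • (A⁻¹.val *ᵥ q), by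
      rw [map_smul, hA', Transvec.mulVec_inv_cancel, inv_smul_smul₀ hl]⟩
    have hctr : ∀ w, ctr f₂ u (h.val *ᵥ w) = A' (ctr f₂ u w) := fun w => by
      by_contra hne
      obtain ⟨p, hp⟩ := (T.left.nondegenerate _ (sub_ne_zero.2 hne)).2
      obtain ⟨q, rfl⟩ := hsurj p
      refine hp ?_
      rw [sub_left' T.left, ← T.f_pt, ← hhu', S.ctx.iso hN, T.f_pt, hA', hA', T.left.smul_left, smul_right' T.left,
        hAμ, ← mul_assoc, hll, one_mul, sub_self]
    have hxh : h * rt f₂ u c = rt f₂ u c * h := gl_ext fun w => by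
      rw [Transvec.mul_mulVec, Transvec.mul_mulVec, rt_mulVec T hu, rt_mulVec T hu, mulVec_add, mulVec_smul, hhu', hctr]
    have hzh : h * z = z * h := mul_inv_eq_iff_eq_mul.1 hhz
    obtain ⟨P, hxP, -, hzx, hPfix, hPcomm⟩ := exists_average hc2 (invol_of_sq hc2 (rt_sq T hu c))
      (invol_of_sq hc2 (conj_sq g _ (rt_sq T hu c))) ho
    have hhP := hPcomm h hxh (hz ▸ hzh)
    intro q
    obtain ⟨u', -, hu'u, -⟩ := exists_partner h2 hu0 hu
    obtain ⟨y, hy⟩ : ∃ y, y = pt (c⁻¹ • q) u' := ⟨_, rfl⟩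
    have hxy : (rt f₂ u c).val *ᵥ y - y = pt q u := by
      rw [hy, rt_mulVec T hu, add_sub_cancel_left, T.ctr_pt, hu'u, one_smul, pt_smul_left, smul_inv_smul₀ hc0]
    have hPq : h.val *ᵥ (P *ᵥ pt q u) = P *ᵥ pt q u := by
      have e1 : P *ᵥ pt q u = (rt f₂ u c).val *ᵥ (P *ᵥ y) - P *ᵥ y := by
        rw [← hxy, mulVec_sub, mulVec_mulVec, ← hxP, ← mulVec_mulVec]
      obtain ⟨q', hq'⟩ : ∃ q', P *ᵥ pt q u = pt q' u := by
        rw [e1, rt_mulVec T hu, add_sub_cancel_left, ← pt_smul_left]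
        exact ⟨_, rfl⟩
      rw [hq']
      refine hKu _ ?_
      rw [← hq', e1, show (rt f₂ u c).val *ᵥ (P *ᵥ y) = (g * rt f₂ u c * g⁻¹).val *ᵥ (P *ᵥ y) by
        rw [mulVec_mulVec, mulVec_mulVec, hzx], conj_rt_mulVec T g hu, add_sub_cancel_left]
      exact Submodule.smul_mem _ _ (mem_gim.2 ⟨_, pt_mem_pureW _ _, rfl⟩)
    have e2 : P *ᵥ pt (A' q - q) u = pt (A' q - q) u := by
      refine hPfix _ (rt_fix T hu c (by rw [T.ctr_pt, hu, zero_smul])) ?_
      obtain ⟨_, ⟨p, rfl⟩, hp⟩ := mem_gim.1 (hk q)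
      rw [← hp, conj_rt_mulVec T g hu, Transvec.inv_mulVec_cancel, ptL_apply, T.ctr_pt, hu, zero_smul, pt_zero_left,
        mulVec_zero, smul_zero, add_zero]
    rw [UnitT.pt_sub_left, mulVec_sub, ← hhu', mulVec_mulVec, ← hhP, ← mulVec_mulVec, hPq, sub_self, hhu',
      ← UnitT.pt_sub_left] at e2
    exact sub_eq_zero.1 (pt_injective hu0 (e2.symm.trans (pt_zero_left u).symm))
  obtain ⟨B', hB'⟩ : ∃ B' : GL (Fin b) F, ∀ y, B'.val *ᵥ y = l⁻¹ • (B.val *ᵥ y) :=
    ⟨⟨l⁻¹ • B.val, l • B⁻¹.val,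
      by rw [Matrix.smul_mul, Matrix.mul_smul, smul_smul, inv_mul_cancel₀ hl, Units.mul_inv, one_smul],
      by rw [Matrix.smul_mul, Matrix.mul_smul, smul_smul, mul_inv_cancel₀ hl, Units.inv_mul, one_smul]⟩,
      fun y => smul_mulVec _ _ _⟩
  have hh' : h = kr 1 B' := ext_pt fun x j => by
    rw [hAB, kr_apply, kr_apply, hB', Units.val_one, one_mulVec, pt_smul_right, ← pt_smul_left]
    congr 1
    rw [eq_inv_smul_iff₀ hl, ← hA', hA1]
  have hB'i : Iso f₂ B' := fun p q => by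
    rw [hB', hB', h2.smul_left, smul_right' h2, hBμ, ← mul_assoc, map_inv₀, ← mul_inv, hll, inv_one, one_mul]
  obtain ⟨ψ, -, hψ⟩ := exists_functional (E := (⊥ : Submodule F (Fin b → F))) (u := v) (by simpa using hv0)
  have hl1 : l = 1 := by
    obtain ⟨x₀, hx₀⟩ : ∃ x : Fin a → F, x ≠ 0 := ⟨Pi.single ⟨0, by omega⟩ 1, by simp⟩
    have e := congrArg (fun k : GL (Fin a × Fin b) F => sl ψ (k.val *ᵥ pt x₀ v)) hh2
    simp only [hh', Transvec.mul_mulVec, kr_apply, Units.val_one, one_mulVec, hB', hBv, mulVec_smul, smul_smul,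
      sl_pt, dotProduct_smul, hψ, smul_eq_mul, mul_one] at e
    have e' : l⁻¹ * l⁻¹ = 1 := smul_left_injective F hx₀ e
    have e'' : l * l = 1 := by rw [← mul_inv, inv_eq_one] at e'; exact e'
    have : (l - 1) * (l - 1) = 0 := by linear_combination e'' + (1 - l) * hc2
    exact sub_eq_zero.1 (mul_self_eq_zero.1 this)
  have hB'v : B'.val *ᵥ v = v := by rw [hB', hBv, hl1, inv_one, one_smul]
  have hmovB : ∀ y, B'.val *ᵥ y - y ∈ Submodule.span F ({v} : Set (Fin b → F)) := fun y => by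
    by_contra hn
    obtain ⟨h4, -⟩ := finrank_two_le (a := a) (W := W) hv0 hn fun p q => by
      refine W.add_mem (hW ▸ Submodule.mem_sup_left (pt_mem_pureW p v)) ?_
      have e : h.val *ᵥ pt q y - pt q y = pt q (B'.val *ᵥ y - y) := by
        rw [hh', kr_apply, Units.val_one, one_mulVec, pt_sub_right]
      rw [← e]
      refine hmov _ ?_
      rw [e, T.ctr_pt, sub_left' h2]
      nth_rewrite 1 [← hB'v]
      rw [hB'i, sub_self, zero_smul]
    omega
  obtain ⟨e, he⟩ := eq_uT_of_moved (h2 := h2) hB'i hv0 hv hmovB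
  have he0 : e ≠ 0 := fun h0 => hh1 (by
    rw [hh', he, h0]
    exact gl_ext fun w => by rw [T.root_apply hv, zero_smul, add_zero, Units.val_one, one_mulVec])
  refine G.notKeep v hv0 hv c hc0 hc (S.gim_of_commute hv0 hv he0 ?_)
  have hhz' : h * z = z * h := mul_inv_eq_iff_eq_mul.1 hhz
  rw [show rt (a := a) f₂ v e = h by rw [hh', he]; rfl, ← hz, ← hhz', mul_inv_cancel_right]

/-- Without a fixed scalar other than one there are no twisted pairs. -/
theorem twist_false (hb : 4 ≤ b) (hno : ∀ r : F, σ r = r → r ≠ 0 → r = 1) : False := by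
  classical
  haveI := Fintype.ofFinite F
  have T := S.ctx.tens
  have h1 := T.left
  have h2 := T.right
  have hu := G.iso
  have hu0 := G.ne_zero
  have ha := S.ctx.dimA
  obtain ⟨v₀, hv₀, hv₀u, hv₀s⟩ := exists_iso_perp' h2 (by rw [Fintype.card_fin]; exact hb) hu0 hu
  obtain ⟨M1, hM1⟩ : ∃ M : (Fin a → F) →ₗ[F] (Fin a → F), ∀ p, M p = ctr f₂ u (g.val *ᵥ pt p u) :=
    ⟨(ctr f₂ u).comp ((Matrix.mulVecLin g.val).comp (ptL u)), fun p => rfl⟩
  have hzero : ∀ r₀ ∈ gim g (pureW a u), ctr f₂ u r₀ = 0 → r₀ = 0 := fun r₀ hr₀ hr₀0 => by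
    obtain ⟨p, hp⟩ := twist_meet S hc2 G hc0 hc ho hg r₀ hr₀ hr₀0
    rw [ptL_apply] at hp
    obtain ⟨y, hy, -⟩ := exists_meet T hc2 hv₀ hu hu0 hc0 (twist_odd S hc2 G hc0 hc ho hg hno hv₀ hv₀u hv₀s) hr₀
      (by rw [← hp, T.ctr_pt, (eq_zero_comm h2).1 hv₀u, zero_smul])
    rw [rt_mulVec T hv₀, add_sub_cancel_left, ← hp, ← pt_smul_left] at hy
    have e : pt p u + pt (-(c • ctr f₂ v₀ y)) v₀ = 0 := by rw [UnitT.pt_neg_left, hy, add_neg_cancel]
    rw [← hp, (pure_pair_injective hu0 hv₀s e).1, pt_zero_left]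
  have hM1i : Function.Injective M1 := (injective_iff_map_eq_zero M1).2 fun p hp => by
    have := hzero (g.val *ᵥ pt p u) (mem_gim.2 ⟨_, pt_mem_pureW _ _, rfl⟩) (hM1 p ▸ hp)
    exact pt_injective hu0 (show pt p u = pt 0 u by
      rw [pt_zero_left]; exact Transvec.mulVec_injective g (this.trans (mulVec_zero _).symm))
  have hM1s : Function.Surjective M1 := LinearMap.injective_iff_surjective.1 hM1i
  have key : ∀ v, f₂ v v = 0 → f₂ v u = 0 → v ∉ Submodule.span F ({u} : Set (Fin b → F)) → ∀ p p',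
      f₁ (ctr f₂ v (g.val *ᵥ pt p u)) (ctr f₂ v (g.val *ᵥ pt p' u)) = f₁ (M1 p) (M1 p') := by
    intro v hv hvu hvs
    have hv0 : v ≠ 0 := fun h0 => hvs (h0 ▸ Submodule.zero_mem _)
    have huv : f₂ u v = 0 := (eq_zero_comm h2).1 hvu
    obtain ⟨z, hz⟩ : ∃ z, z = g * rt f₂ u c * g⁻¹ := ⟨_, rfl⟩
    obtain ⟨δ, hδ, hδz⟩ := exists_conj_odd (invol_of_sq hc2 (rt_sq T hv c))
      (hz ▸ invol_of_sq hc2 (conj_sq g _ (rt_sq T hu c))) (hz ▸ twist_odd S hc2 G hc0 hc ho hg hno hv hvu hvs)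
    have hδN : δ ∈ N := (Subgroup.closure_le N).2 (by
      rintro y (rfl | rfl)
      exacts [S.rt_mem hv hc, hz ▸ S.z_mem G hc]) hδ
    obtain ⟨d, hd⟩ : ∃ d, d = δ * g := ⟨_, rfl⟩
    have hdN : d ∈ N := hd ▸ mul_mem hδN G.mem
    have himg : gim d (pureW a u) = pureW a v := by
      rw [← S.mv_rt hu0 hu hc0, ← S.mv_rt hv0 hv hc0, ← mv_conj, hd, ← hδz, hz]
      congr 1; group
    obtain ⟨B₁, hB₁, s, hs, hBs⟩ := exists_move_iso h2 (by rw [Fintype.card_fin]; omega) hv0 hu0 hv hu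
    obtain ⟨hB₁i, hB₁d⟩ := transvGroup_le h2 hB₁
    have hB₁N := S.ctx.krB B₁ hB₁i hB₁d
    obtain ⟨A, B₀, hAB, hB₀⟩ := S.factor (mul_mem hB₁N hdN) hu0 hu (by
      rw [gim_mul, himg, gim_kr_pureW, hBs, pureW_smul hs])
    obtain ⟨B, hB⟩ : ∃ B, B = B₁⁻¹ * B₀ := ⟨_, rfl⟩
    have hdk : d = kr A B := by
      rw [show d = (kr (1 : GL (Fin a) F) B₁)⁻¹ * (kr 1 B₁ * d) by group, hAB, kr_inv, kr_mul, hB, inv_one, one_mul]
    obtain ⟨β, hβu⟩ : ∃ β : F, B.val *ᵥ u = β • v := by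
      refine ⟨s⁻¹, ?_⟩
      rw [hB, Transvec.mul_mulVec, hB₀, eq_inv_smul_iff₀ hs, ← mulVec_smul]
      refine Transvec.mulVec_injective B₁ ?_
      simp only
      rw [Transvec.mulVec_inv_cancel, hBs]
    obtain ⟨μ, hμ0, hμs, -, hAμ⟩ := factors_sim T (by omega) (by omega) (hdk ▸ S.ctx.iso hdN)
    simp only [hno μ hμs hμ0, one_mul, inv_one] at hAμ
    obtain ⟨Mu, hMu⟩ : ∃ M : (Fin a → F) →ₗ[F] (Fin a → F), ∀ q, M q = ctr f₂ u (g⁻¹.val *ᵥ pt q u) :=
      ⟨(ctr f₂ u).comp ((Matrix.mulVecLin g⁻¹.val).comp (ptL u)), fun q => rfl⟩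
    have hadj : ∀ w p q, f₁ (ctr f₂ w (g.val *ᵥ pt p u)) q = f₁ p (ctr f₂ u (g⁻¹.val *ᵥ pt q w)) := fun w p q => by
      conv_rhs => rw [h1.herm, ← T.f_pt, ← S.ctx.iso G.mem, Transvec.mulVec_inv_cancel, ← T.uni.herm, T.f_pt]
    have hMui : Function.Injective Mu := (injective_iff_map_eq_zero Mu).2 fun q hq => by
      by_contra hne
      obtain ⟨p, hp⟩ := (h1.nondegenerate q hne).1
      obtain ⟨p', rfl⟩ := hM1s p
      exact hp (by rw [hM1, hadj, ← hMu, hq, zero_right' h1])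
    -- vectors fixed by `d`
    have hfixd : ∀ p q, ctr f₂ u (g⁻¹.val *ᵥ (pt p u + pt q v)) = 0 →
        pt (A.val *ᵥ p) (β • v) + pt (A.val *ᵥ q) (B.val *ᵥ v) = pt p u + pt q v := fun p q hpq => by
      rw [← hβu, ← kr_apply, ← kr_apply, ← mulVec_add, ← hdk, hd, Transvec.mul_mulVec]
      have hzf : z.val *ᵥ (pt p u + pt q v) = pt p u + pt q v := by
        rw [hz, conj_rt_mulVec T g hu, hpq, pt_zero_left, mulVec_zero, smul_zero, add_zero]
      rw [closure_fix (p := pt p u + pt q v) ?_ hg, closure_fix ?_ hδ]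
      · rintro y (rfl | rfl)
        · exact rt_fix T hv c (by rw [map_add, T.ctr_pt, T.ctr_pt, huv, hv, zero_smul, zero_smul, add_zero])
        · exact hzf
      · rintro y (rfl | rfl)
        · exact rt_fix T hu c (by rw [map_add, T.ctr_pt, T.ctr_pt, hu, hvu, zero_smul, zero_smul, add_zero])
        · exact hz ▸ hzf
    have hp : ∀ q, ∃ p, ctr f₂ u (g⁻¹.val *ᵥ (pt p u + pt q v)) = 0 := fun q => by
      obtain ⟨p, hp⟩ := (LinearMap.injective_iff_surjective.1 hMui) (-ctr f₂ u (g⁻¹.val *ᵥ pt q v))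
      exact ⟨p, by rw [mulVec_add, map_add, ← hMu, hp, neg_add_cancel]⟩
    obtain ⟨q₀, hq₀⟩ : ∃ q : Fin a → F, q ≠ 0 := ⟨Pi.single ⟨0, by omega⟩ 1, by simp⟩
    have hBv : B.val *ᵥ v ∈ Submodule.span F ({u, v} : Set (Fin b → F)) := by
      by_contra hn
      obtain ⟨φ, hφ, hφB⟩ := exists_functional hn
      obtain ⟨p, hp⟩ := hp q₀
      have e := congrArg (sl φ) (hfixd p q₀ hp)
      simp only [map_add, sl_pt, hφB, dotProduct_smul, hφ u (Submodule.subset_span (by simp)),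
        hφ v (Submodule.subset_span (by simp)), smul_zero, zero_smul, one_smul, add_zero, zero_add] at e
      exact Transvec.mulVec_ne_zero A hq₀ e
    obtain ⟨e₁, o₁, heo⟩ := Submodule.mem_span_pair.1 hBv
    have he1 : e₁ ≠ 0 := fun h0 => by
      rw [h0, zero_smul, zero_add] at heo
      have hβ0 : β ≠ 0 := fun hb0 => Transvec.mulVec_ne_zero B hu0 (by rw [hβu, hb0, zero_smul])
      have e : v = (o₁ / β) • u := Transvec.mulVec_injective B (by
        simp only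
        rw [mulVec_smul, hβu, smul_smul, div_mul_cancel₀ _ hβ0, heo])
      exact hvs (e ▸ Submodule.smul_mem _ _ (Submodule.mem_span_singleton_self u))
    have hpe : ∀ q, ctr f₂ u (g⁻¹.val *ᵥ (pt (e₁ • (A.val *ᵥ q)) u + pt q v)) = 0 := fun q => by
      obtain ⟨p, hp⟩ := hp q
      suffices h : p = e₁ • (A.val *ᵥ q) from h ▸ hp
      have e := hfixd p q hp
      rw [← heo, pt_add_right, pt_smul_right, pt_smul_right, pt_smul_right, ← pt_smul_left, ← pt_smul_left,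
        ← pt_smul_left] at e
      have e' : pt (e₁ • (A.val *ᵥ q) - p) u + pt (β • (A.val *ᵥ p) + o₁ • (A.val *ᵥ q) - q) v = 0 := by
        rw [UnitT.pt_sub_left, UnitT.pt_sub_left, pt_add_left]
        linear_combination (norm := abel) e
      exact (sub_eq_zero.1 (pure_pair_injective hu0 hvs e').1).symm
    have hMv : ∀ p, ctr f₂ v (g.val *ᵥ pt p u) = -(σ e₁) • (A⁻¹.val *ᵥ M1 p) := fun p => by
      by_contra hne
      obtain ⟨q, hq⟩ := (h1.nondegenerate _ (sub_ne_zero.2 hne)).2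
      refine hq ?_
      have e := hpe q
      rw [mulVec_add, map_add, add_eq_zero_iff_neg_eq] at e
      rw [sub_left' h1, hadj, ← e, neg_smul, neg_left' h1, h1.smul_left, ← neg_one_smul F (ctr f₂ u _),
        smul_right' h1, map_neg, map_one, neg_one_mul, ← hadj, ← hM1, smul_right' h1, ← hAμ (A⁻¹.val *ᵥ M1 p) q,
        Transvec.mulVec_inv_cancel, sub_self]
    intro p p'
    rw [hMv, hMv, h1.smul_left, smul_right' h1, ← mul_assoc, ← hAμ, Transvec.mulVec_inv_cancel,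
      Transvec.mulVec_inv_cancel, map_neg, h2.involutive, neg_mul_neg,
      hno (σ e₁ * e₁) (by rw [map_mul, h2.involutive, mul_comm]) (mul_ne_zero ((map_ne_zero_iff _ σ.injective).2 he1) he1),
      one_mul]
  obtain ⟨Mv, hMv⟩ : ∃ M : (Fin a → F) →ₗ[F] (Fin a → F), ∀ p, M p = ctr f₂ v₀ (g.val *ᵥ pt p u) :=
    ⟨(ctr f₂ v₀).comp ((Matrix.mulVecLin g.val).comp (ptL u)), fun p => rfl⟩
  obtain ⟨x₀, hx₀⟩ : ∃ x : Fin a → F, x ≠ 0 := ⟨Pi.single ⟨0, by omega⟩ 1, by simp⟩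
  obtain ⟨y₀, hy₀⟩ := (h1.nondegenerate x₀ hx₀).2
  obtain ⟨p, rfl⟩ := hM1s x₀
  obtain ⟨p', rfl⟩ := hM1s y₀
  have hX := key v₀ hv₀ hv₀u hv₀s p p'
  rw [← hMv, ← hMv] at hX
  have E : ∀ l : F, l * f₁ (Mv p) (M1 p') + σ l * f₁ (M1 p) (Mv p') + l * σ l * f₁ (M1 p) (M1 p') = 0 := fun l => by
    have e := key (v₀ + l • u)
      (by simp [h2.add_left, h2.smul_left, Unitary.add_right' h2, smul_right' h2, hv₀, hu, hv₀u, (eq_zero_comm h2).1 hv₀u])
      (by simp [h2.add_left, h2.smul_left, hv₀u, hu]) (fun hm => hv₀s (by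
        have := Submodule.sub_mem _ hm (Submodule.smul_mem _ l (Submodule.mem_span_singleton_self u))
        rwa [add_sub_cancel_right] at this)) p p'
    simp only [UnitT.Tens.ctr_add T, UnitT.Tens.ctr_smul T, ← hMv, ← hM1, h1.add_left, h1.smul_left,
      Unitary.add_right' h1, smul_right' h1, h1.involutive] at e
    linear_combination e - hX
  obtain ⟨l, hl⟩ := exists_trace_ne_zero h2.ne_refl
  have e1 := E 1
  have e2 := E (l + 1)
  rw [map_one] at e1
  rw [map_add, map_one] at e2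
  refine hy₀ ((mul_eq_zero.1 (?_ : (l + σ l) * f₁ (M1 p) (M1 p') = 0)).resolve_left hl)
  linear_combination e2 - E l - e1

end Twist

end CfsgLib.Classical22.UWr
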