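/-
Characteristic two: the conjugate root group lies on a plane through every isotropic direction.
-/
import Cfsg.Agent.Lib.Classical22.UnitWreath.PairEven

set_option autoImplicit false
set_option linter.unusedSectionVars false
set_option linter.unusedSimpArgs false

namespace CfsgLib.Classical22.UWr

open Matrix Kronecker CfsgLib.Transvec CfsgLib.Transvec.Unitary CfsgLib.Classical22.TensorMax
open CfsgLib.Classical22.TensorMax.SpO (kr kr_apply isKron_kr)
open CfsgLib.Classical22.TensorMax.SympO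
open CfsgLib.Classical22.TensorMax.UnitT (Tens ctr)
open CfsgLib.Classical22.TWMax (mv gim mem_gim conj_sq invol_of_sq invol_conj_pow mul_odd_pow_conj)
open scoped MatrixGroups

variable {F : Type*} [Field F] [Finite F] {a b : ℕ} {σ : F ≃+* F}
  {f : (Fin a × Fin b → F) → (Fin a × Fin b → F) → F}
  {f₁ : (Fin a → F) → (Fin a → F) → F} {f₂ : (Fin b → F) → (Fin b → F) → F}
  {N : Subgroup (GL (Fin a × Fin b) F)}

/-- In characteristic two the image of the pure subspace at `u₀` lies on a plane through `u`. -/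
theorem SHyp.plane_even (S : SHyp σ f f₁ f₂ N) (hc2 : (2 : F) = 0) {g : GL (Fin a × Fin b) F} {u₀ : Fin b → F}
    (G : Off σ f₂ N g u₀) {u : Fin b → F} (hu0 : u ≠ 0) (hu : f₂ u u = 0)
    (hclass : ∀ γ ∈ N, ∀ c : F, c ≠ 0 → c + σ c = 0 →
      (∃ u', u' ≠ 0 ∧ f₂ u' u' = 0 ∧ gim γ (pureW a u) = pureW a u') ∨
      (rt (a := a) f₂ u c * (γ * rt f₂ u c * γ⁻¹) = γ * rt f₂ u c * γ⁻¹ * rt f₂ u c) ∨ Off σ f₂ N γ u) :
    ∃ w, ∀ v ∈ gim g (pureW a u₀), ∃ p q, pt p u + pt q w = v := by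
  classical
  haveI := Fintype.ofFinite F
  haveI : CharP F 2 := CharTwo.of_one_ne_zero_of_two_eq_zero one_ne_zero hc2
  have T := S.ctx.tens
  have h2 := T.right
  obtain ⟨c, hc0, hc⟩ := exists_skew h2.ne_refl h2.involutive
  obtain ⟨x, hx⟩ : ∃ x, x = rt (a := a) f₂ u c := ⟨_, rfl⟩
  obtain ⟨z, hz⟩ : ∃ z, z = g * rt f₂ u₀ c * g⁻¹ := ⟨_, rfl⟩
  have hxx : x * x = 1 := hx ▸ invol_of_sq hc2 (rt_sq T hu c)
  have hzz : z * z = 1 := hz ▸ invol_of_sq hc2 (conj_sq g _ (rt_sq T G.iso c))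
  obtain ⟨i, o, ⟨l, rfl⟩, hord⟩ := Nat.exists_eq_two_pow_mul_odd (orderOf_pos (x * z)).ne'
  have hl : l ≠ 0 := fun h0 => by
    refine G.notNil u hu0 hu c c hc0 hc hc0 hc ?_
    rw [← hx, ← hz]
    obtain ⟨X, hX⟩ : ∃ X, X = x.val - 1 := ⟨_, rfl⟩
    obtain ⟨Z, hZ⟩ : ∃ Z, Z = z.val - 1 := ⟨_, rfl⟩
    have hXX : X * X = 0 := hX ▸ hx ▸ rt_sq T hu c
    have hZZ : Z * Z = 0 := hZ ▸ hz ▸ conj_sq g _ (rt_sq T G.iso c)
    rw [← hX, ← hZ]
    haveI : Nonempty (Fin a × Fin b) := ⟨(⟨0, by have := S.ctx.dimA; omega⟩, ⟨0, by have := S.ctx.three; omega⟩)⟩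
    haveI : CharP (Matrix (Fin a × Fin b) (Fin a × Fin b) F) 2 := Matrix.charP 2
    have hw : ((x * z).val - 1) ^ 2 ^ i = 0 := by
      rw [sub_pow_char_pow_of_commute 2 i (Commute.one_right _), one_pow, ← Units.val_pow_eq_pow_val,
        show 2 ^ i = orderOf (x * z) by rw [hord, h0]; ring, pow_orderOf_eq_one, Units.val_one, sub_self]
    have hsum : IsNilpotent (X * Z + Z * X) := by
      have e : X * Z + Z * X = ((x * z).val - 1) * (((x * z).val - 1) * (x * z)⁻¹.val) := by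
        rw [show (x * z)⁻¹ = z * x from inv_eq_of_mul_eq_one_right (by
          rw [mul_assoc, ← mul_assoc z, hzz, one_mul, hxx]), hX, hZ, Units.val_mul, Units.val_mul]
        have hx1 : x.val * x.val = 1 := by rw [← Units.val_mul, hxx, Units.val_one]
        have hz1 : z.val * z.val = 1 := by rw [← Units.val_mul, hzz, Units.val_one]
        have h4 : ∀ M : Matrix (Fin a × Fin b) (Fin a × Fin b) F, M + M = 0 := fun M => by
          rw [← two_smul F, hc2, zero_smul]
        have e1 : x.val * z.val * (z.val * x.val) = 1 := by rw [mul_assoc, ← mul_assoc z.val, hz1, one_mul, hx1]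
        simp only [sub_mul, mul_sub, one_mul, mul_one, e1]
        linear_combination (norm := abel) (2 : ℤ) • h4 1 - h4 x.val - h4 z.val
      rw [e]
      refine Commute.isNilpotent_mul_right ?_ ⟨_, hw⟩
      refine Commute.mul_right (Commute.refl _) (Commute.sub_left ?_ (Commute.one_left _))
      change (x * z).val * (x * z)⁻¹.val = (x * z)⁻¹.val * (x * z).val
      rw [Units.mul_inv, Units.inv_mul]
    obtain ⟨n, hn⟩ := hsum
    have hpow : ∀ m : ℕ, (X * Z + Z * X) ^ (m + 1) = (X * Z) ^ (m + 1) + (Z * X) ^ (m + 1) := fun m => by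
      induction m with
      | zero => simp
      | succ m ih =>
        have h1 : (X * Z) ^ (m + 1) * (Z * X) = 0 := by
          rw [pow_succ, mul_assoc, mul_assoc X Z (Z * X), ← mul_assoc Z Z X, hZZ, zero_mul, mul_zero, mul_zero]
        have h2 : (Z * X) ^ (m + 1) * (X * Z) = 0 := by
          rw [pow_succ, mul_assoc, mul_assoc Z X (X * Z), ← mul_assoc X X Z, hXX, zero_mul, mul_zero, mul_zero]
        rw [pow_succ, ih, add_mul, mul_add, mul_add, h1, h2, add_zero, zero_add, ← pow_succ, ← pow_succ]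
    refine ⟨n + 2, ?_⟩
    have e := hpow n
    rw [pow_succ, hn, zero_mul] at e
    rw [pow_succ, eq_neg_of_add_eq_zero_left e.symm, neg_mul, pow_succ, mul_assoc, mul_assoc Z X (X * Z),
      ← mul_assoc X X Z, hXX, zero_mul, mul_zero, mul_zero, neg_zero]
  obtain ⟨w0, hw0⟩ : ∃ w0, w0 = (x * z) ^ 2 ^ i := ⟨_, rfl⟩
  have hw0o : orderOf w0 = 2 * l + 1 := by
    rw [hw0, orderOf_pow' _ (by positivity), hord, Nat.gcd_mul_right_left, Nat.mul_div_cancel_left _ (by positivity)]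
  obtain ⟨z', hz'⟩ : ∃ z', z' = x * w0 := ⟨_, rfl⟩
  have hxz' : x * z' = w0 := by rw [hz', ← mul_assoc, hxx, one_mul]
  have hz'z' : z' * z' = 1 := by rw [hz', hw0]; exact TWMax.mul_pow_invol hxx hzz
  obtain ⟨γ, hγ⟩ : ∃ γ, γ = w0 ^ l := ⟨_, rfl⟩
  have hγz : γ * x * γ⁻¹ = z' := by
    have e := mul_odd_pow_conj hxx hz'z' l
    rw [hxz', ← hw0o, pow_orderOf_eq_one, mul_one, ← hγ] at e
    rw [e]; group
  have hγ1 : γ ∈ Subgroup.closure ({x, z'} : Set (GL (Fin a × Fin b) F)) := by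
    rw [hγ, ← hxz']
    exact pow_mem (mul_mem (Subgroup.subset_closure (by simp)) (Subgroup.subset_closure (by simp))) l
  have hγ2 : γ ∈ Subgroup.closure ({x, z} : Set (GL (Fin a × Fin b) F)) := by
    rw [hγ, hw0]
    exact pow_mem (pow_mem (mul_mem (Subgroup.subset_closure (by simp)) (Subgroup.subset_closure (by simp))) _) l
  have hγN : γ ∈ N := (Subgroup.closure_le N).2 (by
    rintro y (rfl | rfl)
    exacts [hx ▸ S.rt_mem hu hc, hz ▸ S.z_mem G hc]) hγ2
  have hmov : ∀ v, γ.val *ᵥ v - v ∈ pureW a u ⊔ gim g (pureW a u₀) := by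
    refine closure_moved ?_ hγ2
    rintro y (rfl | rfl) v
    · rw [hx, rt_mulVec T hu, add_sub_cancel_left]
      exact Submodule.mem_sup_left (Submodule.smul_mem _ _ (pt_mem_pureW _ _))
    · rw [hz, conj_rt_mulVec T g G.iso, add_sub_cancel_left]
      exact Submodule.mem_sup_right (Submodule.smul_mem _ _ (mem_gim.2 ⟨_, pt_mem_pureW _ _, rfl⟩))
  have hR' : gim γ (pureW a u) ≤ pureW a u ⊔ gim g (pureW a u₀) := by
    intro v hv
    obtain ⟨p, hp, rfl⟩ := mem_gim.1 hv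
    have := add_mem (hmov p) (Submodule.mem_sup_left hp)
    rwa [sub_add_cancel] at this
  have hncomm : x * z' ≠ z' * x := fun h => by
    have e : (x * z') * (x * z') = 1 := by
      calc x * z' * (x * z') = x * z' * (z' * x) := by rw [h]
        _ = 1 := by rw [mul_assoc, ← mul_assoc z', hz'z', one_mul, hxx]
    rw [hxz', ← pow_two] at e
    have := orderOf_dvd_of_pow_eq_one e
    rw [hw0o, Nat.dvd_prime Nat.prime_two] at this
    omega
  rcases hclass γ hγN c hc0 hc with ⟨u', hu'0, hu', himg⟩ | hcomm | Gγ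
  · have hus : u' ∉ Submodule.span F ({u} : Set (Fin b → F)) := fun hm => by
      obtain ⟨m, rfl⟩ := Submodule.mem_span_singleton.1 hm
      refine hncomm ?_
      have hfix : gim γ (pureW a u) = pureW a u := himg.trans (pureW_smul (left_ne_zero_of_smul hu'0))
      have hzfix : ∀ v, ctr f₂ u v = 0 → ctr f₂ u (γ⁻¹.val *ᵥ v) = 0 := fun v hv => by
        refine ctr_image_zero T (S.ctx.iso (inv_mem hγN)) ?_ hv
        conv_lhs => rw [← hfix, TWMax.gim_inv_gim]
      refine gl_ext fun v => ?_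
      rw [Transvec.mul_mulVec, Transvec.mul_mulVec, ← hγz, hx, rt_mulVec T hu, conj_rt_mulVec T γ hu,
        conj_rt_mulVec T γ hu, rt_mulVec T hu]
      obtain ⟨p, hp⟩ := hfix.le (mem_gim.2 ⟨_, pt_mem_pureW (ctr f₂ u (γ⁻¹.val *ᵥ v)) u, rfl⟩)
      rw [ptL_apply] at hp
      rw [← hp, map_add, map_smul, T.ctr_pt, hu, zero_smul, smul_zero, add_zero, mulVec_add, map_add, mulVec_smul,
        map_smul, hzfix (pt _ u) (by rw [T.ctr_pt, hu, zero_smul]), smul_zero, add_zero, ← hp]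
      abel
    refine S.plane_of hu0 G.ne_zero hus fun q => hR' ?_
    rw [himg]
    exact pt_mem_pureW q u'
  · exact absurd (by rwa [← hx, hγz] at hcomm) hncomm
  have ho' : Odd (orderOf (rt (a := a) f₂ u c * (γ * rt f₂ u c * γ⁻¹))) := by
    rw [← hx, hγz, hxz', hw0o]; exact ⟨l, rfl⟩
  have hg' : γ ∈ Subgroup.closure ({rt (a := a) f₂ u c, γ * rt f₂ u c * γ⁻¹} : Set (GL (Fin a × Fin b) F)) := by
    rwa [← hx, hγz]
  by_cases hr : ∃ r : F, σ r = r ∧ r ≠ 0 ∧ r ≠ 1
  · obtain ⟨r, hr, hr0, hr1⟩ := hr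
    obtain ⟨w, hw, hwq⟩ := twist_plane S hc2 Gγ hc0 hc ho' hg' hr hr0 hr1
    exact S.plane_of hu0 G.ne_zero hw fun q => sup_le le_sup_left hR' (hwq q)
  · push Not at hr
    exact (twist_false S hc2 Gγ hc0 hc ho' hg' (S.big.resolve_right fun ⟨r, h, h0, h1⟩ => h1 (hr r h h0)) hr).elim

end CfsgLib.Classical22.UWr
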