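/-
A group above the tensor wreath group contains every transvection or lies in it.
-/
import Cfsg.Agent.Lib.Classical22.UnitWreath.PairOdd
import Cfsg.Agent.Lib.Classical22.UnitWreath.PlaneEven

set_option autoImplicit false
set_option linter.unusedSectionVars false
set_option linter.unusedSimpArgs false

namespace CfsgLib.Classical22.UWr

open Matrix Kronecker CfsgLib.Transvec CfsgLib.Transvec.Unitary CfsgLib.Classical22.TensorMax
open CfsgLib.Classical22.TWMax
open CfsgLib.Classical22.TensorMax.SpO (kr kr_apply isKron_kr)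
open CfsgLib.Classical22.TensorMax.SympO
open CfsgLib.Classical22.TensorMax.UnitT (Tens span_iso exists_iso)
open scoped MatrixGroups

variable {F : Type*} [Field F] [Finite F] {k : ℕ} {σ : F ≃+* F} {f₁ : (Fin k → F) → (Fin k → F) → F}
  {T : ℕ} {M : Subgroup (GL (Idx (T + 2) k) F)}

lemma gim_of_slotG {s : Fin (T + 2)} {g : GL (Idx (T + 2) k) F} {u u' : Fin k → F} (hu : u ≠ 0) (hu' : u' ≠ 0)
    (h : gim (slotG s g) (pureW (k ^ (T + 1)) u) = pureW (k ^ (T + 1)) u') : gim g (slotW s u) = slotW s u' := by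
  refine Submodule.eq_of_le_of_finrank_eq ?_ (by rw [finrank_gim, finrank_slotW s hu, finrank_slotW s hu'])
  intro v hv
  obtain ⟨w, hw, rfl⟩ := mem_gim.1 hv
  have := h.le (mem_gim.2 ⟨_, mem_slotW.1 hw, rfl⟩)
  rw [slotG, glReindex_mulVec] at this
  exact mem_slotW.2 this

lemma slotG_sx {s : Fin (T + 2)} (u : Fin k → F) (c : F) : slotG s (sx f₁ s u c) = rt f₁ u c := slotG_slotEl s _

/-- An element outside the tensor wreath group is in general position. -/
theorem UHyp.off (H : UHyp σ f₁ M) {g : GL (Idx (T + 2) k) F} (hg : g ∈ M) (hn : ¬ IsTW g) {u : Fin k → F}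
    (hu0 : u ≠ 0) (hu : f₁ u u = 0) :
    Off σ f₁ (M.map (slotG (0 : Fin (T + 2))).toMonoidHom) (slotG 0 g) u where
  mem := ⟨g, hg, rfl⟩
  ne_zero := hu0
  iso := hu
  notKeep e he0 he c hc0 hc hfix := by
    refine hn (H.tw_of_conj hg (s := 0) hu0 hu fun d hd => ?_)
    refine H.tw_of_image (mul_mem (mul_mem hg (H.ctx.sx_mem 0 hu hd)) (inv_mem hg)) (s := 0) (r := 0) he0 he0 he he ?_
    refine gim_of_slotG he0 he0 ?_
    rw [map_mul, map_mul, map_inv, slotG_sx]
    exact gim_conj_rt (tens H.ctx.data.uni 0) _ hu hc0 hfix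
  notNil e he0 he c d hc0 _ hd0 _ hnil := by
    refine hn ?_
    obtain ⟨R, hR⟩ : ∃ R : Matrix (Idx (T + 2) k) (Idx (T + 2) k) F ≃ₐ[F]
        Matrix (Fin (k ^ (T + 1)) × Fin k) (Fin (k ^ (T + 1)) × Fin k) F,
        R = Matrix.reindexAlgEquiv F F (slotE (0 : Fin (T + 2))) := ⟨_, rfl⟩
    have hv : ∀ h : GL (Idx (T + 2) k) F, (slotG (0 : Fin (T + 2)) h).val = R h.val := fun h => hR ▸ rfl
    rw [← slotG_sx (s := (0 : Fin (T + 2))) e c, ← slotG_sx (s := (0 : Fin (T + 2))) u d, ← map_inv, ← map_mul,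
      ← map_mul, hv, hv, ← map_one R, ← map_sub, ← map_sub, ← map_mul] at hnil
    obtain ⟨n, hn'⟩ := hnil
    rw [← map_pow, EmbeddingLike.map_eq_zero_iff] at hn'
    exact H.tw_of_nilpotent hg he0 he hu0 hu hc0 hd0 hn'

/-- Every element of a proper overgroup lies in the tensor wreath group. -/
theorem UHyp.all_tw (H : UHyp σ f₁ M) {g : GL (Idx (T + 2) k) F} (hg : g ∈ M) : IsTW g := by
  classical
  haveI := Fintype.ofFinite F
  by_contra hn
  have C := H.ctx
  have h1 := C.data.uni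
  have hk := C.data.three
  have S : SHyp σ (sform σ f₁ (0 : Fin (T + 2))) (pform σ f₁ (T + 1)) f₁ (M.map (slotG (0 : Fin (T + 2))).toMonoidHom) :=
    ⟨C.sctx H.notFull 0, C.data.big⟩
  obtain ⟨e, he0, he⟩ := exists_iso h1 (by rw [Fintype.card_fin]; omega)
  have G := H.off hg hn he0 he
  have plane : ∀ u, u ≠ 0 → f₁ u u = 0 → ∃ w, ∀ v ∈ gim (slotG (0 : Fin (T + 2)) g) (pureW (k ^ (T + 1)) e),
      ∀ i, (fun j => v (i, j)) ∈ Submodule.span F ({u, w} : Set (Fin k → F)) := by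
    intro u hu0 hu
    obtain ⟨w, hw⟩ : ∃ w, ∀ v ∈ gim (slotG (0 : Fin (T + 2)) g) (pureW (k ^ (T + 1)) e),
        ∃ p q, pt p u + pt q w = v := by
      by_cases h2 : (2 : F) = 0
      · refine S.plane_even h2 G hu0 hu fun γ hγ c hc0 hc => ?_
        obtain ⟨γ, hγM, rfl⟩ := hγ
        by_cases htw : IsTW γ
        · obtain ⟨π, gs, hd⟩ := htw
          obtain ⟨r, hr⟩ := π.surjective 0
          by_cases hr0 : r = 0
          · subst hr0
            have himg := hd.gim_slotW 0 hu0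
            rw [hr] at himg
            exact Or.inl ⟨_, Transvec.mulVec_ne_zero _ hu0, iso_of_slot_image C hγM hu himg,
              gim_slotG hu0 (Transvec.mulVec_ne_zero _ hu0) himg⟩
          · refine Or.inr (Or.inl ?_)
            change rt f₁ u c * (slotG 0 γ * rt f₁ u c * (slotG 0 γ)⁻¹) = slotG 0 γ * rt f₁ u c * (slotG 0 γ)⁻¹ * rt f₁ u c
            rw [← slotG_sx (s := (0 : Fin (T + 2))), ← map_inv, ← map_mul, ← map_mul, ← map_mul, ← map_mul]
            congr 1
            have e := hd.conj_slotEl r (uT f₁ u c)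
            rw [hr] at e
            rw [sx, e]
            exact slotEl_comm (Ne.symm hr0) _ _
        · exact Or.inr (Or.inr (H.off hγM htw hu0 hu))
      · exact S.plane_odd h2 G hu0 hu
    refine ⟨w, fun v hv i => ?_⟩
    obtain ⟨p, q, rfl⟩ := hw v hv
    exact Submodule.mem_span_pair.2 ⟨p i, q i, funext fun j => rfl⟩
  obtain ⟨w1, hw1⟩ := plane e he0 he
  obtain ⟨P1, hP1⟩ : ∃ P1 : Submodule F (Fin k → F), P1 = Submodule.span F ({e, w1} : Set (Fin k → F)) := ⟨_, rfl⟩
  have hfr : ∀ x y : Fin k → F, Module.finrank F (Submodule.span F ({x, y} : Set (Fin k → F))) ≤ 2 := fun x y => by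
    refine (finrank_span_le_card _).trans ?_
    rw [Set.toFinset_card]
    calc Fintype.card ({x, y} : Set (Fin k → F)) = ({x, y} : Finset (Fin k → F)).card :=
          Fintype.card_of_finset' _ (by simp)
      _ ≤ 2 := Finset.card_le_two
  obtain ⟨u2, hu2, hu2P⟩ : ∃ u, f₁ u u = 0 ∧ u ∉ P1 := by
    by_contra hno
    push Not at hno
    have htop : P1 = ⊤ := eq_top_iff.2 fun x _ =>
      Submodule.span_le.2 (fun v hv => hno v hv) (span_iso h1 (by rw [Fintype.card_fin]; omega) x)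
    have := hfr e w1
    rw [← hP1, htop, finrank_top, Module.finrank_fin_fun] at this
    omega
  have hu20 : u2 ≠ 0 := fun h0 => hu2P (h0 ▸ Submodule.zero_mem _)
  obtain ⟨w2, hw2⟩ := plane u2 hu20 hu2
  obtain ⟨P2, hP2⟩ : ∃ P2 : Submodule F (Fin k → F), P2 = Submodule.span F ({u2, w2} : Set (Fin k → F)) := ⟨_, rfl⟩
  have hlt : P1 ⊓ P2 < P2 := lt_of_le_of_ne inf_le_right fun h => hu2P
    ((h.ge (hP2 ▸ Submodule.subset_span (by simp) : u2 ∈ P2)).1)
  have hdim : Module.finrank F ↥(P1 ⊓ P2) ≤ 1 := by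
    have h3 := Submodule.finrank_lt_finrank_of_lt hlt
    have := hP2 ▸ hfr u2 w2
    omega
  obtain ⟨R, hR⟩ : ∃ R, R = gim (slotG (0 : Fin (T + 2)) g) (pureW (k ^ (T + 1)) e) := ⟨_, rfl⟩
  have hRd : Module.finrank F R = k ^ (T + 1) := hR ▸ S.finrank_image _ he0
  have hpos : 0 < k ^ (T + 1) := Nat.pow_pos (by omega)
  obtain ⟨v, hv, hv0⟩ := Submodule.exists_mem_ne_zero_of_ne_bot (p := R) fun h => by
    rw [h, finrank_bot] at hRd; omega
  obtain ⟨⟨i, j⟩, hij⟩ := Function.ne_iff.1 hv0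
  obtain ⟨r, hr⟩ : ∃ r : Fin k → F, r = fun l => v (i, l) := ⟨_, rfl⟩
  have hmem : ∀ v ∈ R, ∀ i, (fun l => v (i, l)) ∈ P1 ⊓ P2 := fun v hv i =>
    Submodule.mem_inf.2 ⟨hP1 ▸ hw1 v (hR ▸ hv) i, hP2 ▸ hw2 v (hR ▸ hv) i⟩
  have hr0 : r ≠ 0 := fun h0 => hij (by rw [hr] at h0; exact congrFun h0 j)
  have hspan : Submodule.span F ({r} : Set (Fin k → F)) = P1 ⊓ P2 :=
    Submodule.eq_of_le_of_finrank_le ((Submodule.span_singleton_le_iff_mem _ _).2 (hr ▸ hmem v hv i))
      (by rw [finrank_span_singleton hr0]; exact hdim)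
  have hRr : R = pureW (k ^ (T + 1)) r := Submodule.eq_of_le_of_finrank_eq
    (fun v hv => mem_pureW_of_slices fun i => hspan ▸ hmem v hv i) (by rw [hRd, finrank_pureW hr0])
  have himg := gim_of_slotG he0 hr0 (hR ▸ hRr)
  exact hn (H.tw_of_image hg he0 hr0 he (iso_of_slot_image C hg he himg) himg)

/-- The dichotomy for every number of slots. -/
theorem dichotomy : ∀ t, UDich σ f₁ t := by
  intro t
  induction t with
  | zero => exact fun M _ => Or.inr fun g _ => isTW_one g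
  | succ T IH =>
    intro M C
    by_cases hall : ∀ v, tform σ f₁ (T + 2) v v = 0 → UFull σ (tform σ f₁ (T + 2)) M v
    · exact Or.inl hall
    · exact Or.inr fun g hg => UHyp.all_tw ⟨C, hall, IH⟩ hg

end CfsgLib.Classical22.UWr
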