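/-
The stabiliser of a tensor power decomposition is maximal in the special unitary group.
-/
import Cfsg.Agent.Lib.Classical22.UnitWreath.Dichotomy
import Cfsg.Agent.Lib.Transvec.HermForm

set_option autoImplicit false
set_option linter.unusedSectionVars false
set_option linter.unusedSimpArgs false

namespace CfsgLib.Classical22.UWr

open Matrix Kronecker CfsgLib.Transvec CfsgLib.Transvec.Unitary CfsgLib.Classical22.TensorMax
open CfsgLib.Classical22.TWMax
open CfsgLib.Classical22.TensorMax.UnitT (exists_iso exists_dual)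
open scoped MatrixGroups

variable {F : Type*} [Field F]

/-- A field with `q ^ 2` elements, `q > 2`, has a scalar fixed by the involution other than zero and one. -/
lemma exists_fixed_scalar [Fintype F] {σ : F ≃+* F} {q : ℕ} (hF : Fintype.card F = q ^ 2) (hσ : ∀ x, σ x = x ^ q)
    (hq : q ≠ 2) : ∃ r : F, σ r = r ∧ r ≠ 0 ∧ r ≠ 1 := by
  by_contra hno
  push Not at hno
  have hq3 : 3 ≤ q := by
    have := Fintype.one_lt_card (α := F)
    rw [hF] at this
    by_contra h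
    interval_cases q <;> simp_all
  obtain ⟨g, hg⟩ := IsCyclic.exists_ofOrder_eq_natCard (α := Fˣ)
  rw [Nat.card_units, Nat.card_eq_fintype_card, hF] at hg
  obtain ⟨r, hr⟩ : ∃ r : F, r = (g : F) ^ (q + 1) := ⟨_, rfl⟩
  have hr0 : r ≠ 0 := hr ▸ pow_ne_zero _ g.ne_zero
  have hfix : σ r = r := by
    rw [hr, hσ, ← pow_mul, show (q + 1) * q = (q + 1) + (q ^ 2 - 1) by
      obtain ⟨r, rfl⟩ : ∃ r, q = r + 1 := ⟨q - 1, by omega⟩
      rw [show (r + 1) ^ 2 = (r * r + 2 * r) + 1 by ring, Nat.add_sub_cancel]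
      ring, pow_add, ← hg, ← Units.val_pow_eq_pow_val g (orderOf g), pow_orderOf_eq_one, Units.val_one, mul_one]
  have h' : g ^ (q + 1) = 1 := Units.ext (by
    rw [Units.val_pow_eq_pow_val, ← hr, hno r hfix hr0, Units.val_one])
  have hle := orderOf_le_of_pow_eq_one (by omega) h'
  rw [hg] at hle
  have : q + 2 < q ^ 2 := by nlinarith
  omega

/-- A transvection at a pure vector is outside the tensor wreath group. -/
lemma exists_uT_notTW [Finite F] {k T : ℕ} {σ : F ≃+* F} {f₁ : (Fin k → F) → (Fin k → F) → F}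
    (h1 : Cfsg.Geo.IsUnitaryForm σ f₁) (hk : 3 ≤ k) :
    ∃ v c, tform σ f₁ (T + 2) v v = 0 ∧ c + σ c = 0 ∧ ¬ IsTW (uT (tform σ f₁ (T + 2)) v c) := by
  classical
  have hu := uni_tform h1 (t := T + 2)
  obtain ⟨e, he0, he⟩ := exists_iso h1 (by rw [Fintype.card_fin]; omega)
  obtain ⟨c, hc0, hc⟩ := exists_skew h1.ne_refl h1.involutive
  obtain ⟨p, hp⟩ : ∃ p : Idx (T + 2) k → F, p = pv fun _ => e := ⟨_, rfl⟩
  have hpp : tform σ f₁ (T + 2) p p = 0 := by
    rw [hp, tform_pv h1]; exact Finset.prod_eq_zero (Finset.mem_univ 0) he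
  have hp0 : p ≠ 0 := hp ▸ pv_ne_zero fun _ => he0
  obtain ⟨g, hg⟩ : ∃ g, g = uT (tform σ f₁ (T + 2)) p c := ⟨_, rfl⟩
  refine ⟨p, c, hpp, hc, hg ▸ ?_⟩
  rintro ⟨π, gs, hd⟩
  have hπ : π = 1 := by
    ext1 s
    rw [Equiv.Perm.one_apply]
    have hle : slotW (π s) e ≤ LinearMap.ker (Matrix.mulVecLin g.val - LinearMap.id) := by
      refine slotW_le fun xs hxs => ?_
      rw [LinearMap.mem_ker, LinearMap.sub_apply, Matrix.mulVecLin_apply, LinearMap.id_apply, hg, uT_mulVec hu hpp,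
        add_sub_cancel_left, hp, tform_pv h1, Finset.prod_eq_zero (Finset.mem_univ (π s)) (by rw [hxs]; exact he),
        mul_zero, zero_smul]
    have hfix : gim g (slotW (π s) e) = slotW (π s) e := by
      refine Submodule.eq_of_le_of_finrank_eq ?_ (finrank_gim g _)
      intro v hv
      obtain ⟨w, hw, rfl⟩ := mem_gim.1 hv
      have := hle hw
      rw [LinearMap.mem_ker, LinearMap.sub_apply, Matrix.mulVecLin_apply, LinearMap.id_apply, sub_eq_zero] at this
      rwa [this]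
    rw [hd.gim_slotW s he0] at hfix
    exact (slot_eq_of_slotW_eq (by omega) (Transvec.mulVec_ne_zero _ he0) he0 hfix).symm
  subst hπ
  have hle : mv g ≤ Submodule.span F ({p} : Set (Idx (T + 2) k → F)) := fun v hv => by
    obtain ⟨w, rfl⟩ := mem_mv.1 hv
    rw [hg, uT_mulVec hu hpp, add_sub_cancel_left]
    exact Submodule.smul_mem _ _ (Submodule.mem_span_singleton_self p)
  have h1' := (Submodule.finrank_mono hle).trans (finrank_span_singleton hp0).le
  have hpow : 3 ≤ k ^ (T + 1) := hk.trans (Nat.le_self_pow (by omega) k)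
  obtain ⟨y, hy⟩ := exists_dual hu hp0 1
  obtain ⟨s, u, hu', he'⟩ := pure_of_base (t := T + 1) hk hd (fun h => by
    have e1 := congrArg (fun g : GL (Idx (T + 2) k) F => g.val *ᵥ y) h
    simp only [hg, uT_mulVec hu hpp, hy, mul_one, Units.val_one, one_mulVec, add_eq_left, smul_eq_zero] at e1
    exact e1.elim hc0 hp0) (h1'.trans (by omega))
  rw [he', finrank_slotW _ hu'] at h1'
  omega

/-- The statement. -/
theorem isMaximalIn_unitaryTensorWreath [Fintype F] (n q : ℕ) (hF : Fintype.card F = q ^ 2) (hn : 13 ≤ n) (k T : ℕ)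
    (hk : 3 ≤ k) (hex : ¬ (q = 2 ∧ k = 3)) (e : Fin n ≃ (Fin (T + 2) → Fin k)) (P : GL (Fin n) F)
    {g₁ : (Fin k → F) → (Fin k → F) → F} (hg₁ : Cfsg.Geo.IsUnitaryFormPow q g₁)
    (hT : Cfsg.Geo.IsTensorPowerFormStructure (fun x : F => x ^ q) (Cfsg.hermForm n F q) g₁ e P) :
    Cfsg.Geo.IsMaximalIn (Cfsg.GU n F q ⊓ Cfsg.Geo.specialLinear (Fin n) F)
      (Cfsg.Geo.tensorWreathSubgroup k (T + 2) e P ⊓ (Cfsg.GU n F q ⊓ Cfsg.Geo.specialLinear (Fin n) F)) := by
  classical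
  obtain ⟨σ, hσ, hinv, hne⟩ := exists_frob hF
  have hF' := isUnitaryForm_hermForm (n := n) hσ hinv hne
  have h1 : Cfsg.Geo.IsUnitaryForm σ g₁ :=
    ⟨hne, hinv, hg₁.add_left, hg₁.smul_left, fun v w => by rw [hσ]; exact hg₁.herm v w, hg₁.nondegenerate⟩
  have hu := uni_tform h1 (t := T + 2)
  obtain ⟨c, hc, hpol⟩ := hT
  obtain ⟨L, hL⟩ : ∃ L : (Idx (T + 2) k → F) →ₗ[F] (Fin n → F), ∀ x, L x = P.val *ᵥ (x ∘ e) :=
    ⟨(Matrix.mulVecLin P.val).comp (LinearMap.funLeft F F e), fun x => rfl⟩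
  have hsurj : ∀ v, ∃ x, v = L x := fun v => ⟨(P⁻¹.val *ᵥ v) ∘ e.symm, by
    rw [hL, Function.comp_assoc, e.symm_comp_self, Function.comp_id, Transvec.mulVec_inv_cancel]⟩
  have hform : ∀ x y, Cfsg.hermForm n F q (L x) (L y) = c * tform σ g₁ (T + 2) x y := fun x y => by
    rw [hL, hL, hpol]
    simp only [tform, Cfsg.Geo.formOfGram, tgram, tmat, hσ]
  have hσc : σ c = c := by
    obtain ⟨x, hx⟩ : ∃ x : Idx (T + 2) k → F, x ≠ 0 := ⟨Pi.single (fun _ => ⟨0, by omega⟩) 1, by simp⟩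
    obtain ⟨y, hy⟩ := (hu.nondegenerate x hx).2
    have e1 := hF'.herm (L x) (L y)
    rw [hform, hform, map_mul, ← hu.herm] at e1
    exact (mul_right_cancel₀ hy e1).symm
  obtain ⟨φ, hφ⟩ : ∃ φ : GL (Idx (T + 2) k) F ≃* GL (Fin n) F,
      ∀ g, φ g = MulAut.conj P (Cfsg.Geo.glReindex e.symm g) :=
    ⟨(Cfsg.Geo.glReindex e.symm).trans (MulAut.conj P), fun g => rfl⟩
  have hact : ∀ g x, (φ g).val *ᵥ L x = L (g.val *ᵥ x) := fun g x => by
    rw [hL, hL, hφ, MulAut.conj_apply, Transvec.mul_mulVec, Transvec.mul_mulVec, Transvec.inv_mulVec_cancel]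
    congr 1
    exact glReindex_mulVec e.symm g x
  have hdet : ∀ g, φ g ∈ Cfsg.Geo.specialLinear (Fin n) F ↔ g.val.det = 1 := fun g => by
    rw [mem_specialLinear_iff, hφ, MulAut.conj_apply, Units.val_mul, Units.val_mul,
      det_units_conj, show (Cfsg.Geo.glReindex e.symm g).val = Matrix.reindexAlgEquiv F F e.symm g.val from rfl,
      Matrix.reindexAlgEquiv_apply, Matrix.det_reindex_self]
  have hiso : ∀ g, φ g ∈ Cfsg.GU n F q ↔ Iso (tform σ g₁ (T + 2)) g := fun g => by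
    rw [mem_GU_iff]
    constructor
    · intro h v w
      have e1 := h (L v) (L w)
      rw [hact, hact, hform, hform] at e1
      exact mul_left_cancel₀ hc e1
    · intro h v w
      obtain ⟨x, rfl⟩ := hsurj v
      obtain ⟨y, rfl⟩ := hsurj w
      rw [hact, hact, hform, hform, h]
  have hK : ∀ g, φ g ∈ Cfsg.Geo.tensorWreathSubgroup k (T + 2) e P ↔ IsTW g := fun g => by
    rw [← mem_standard_iff, hφ]
    constructor
    · rintro ⟨_, ⟨g', hg', rfl⟩, he⟩
      rwa [← (Cfsg.Geo.glReindex e.symm).injective ((MulAut.conj P).injective he)]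
    · exact fun h => ⟨_, ⟨g, h, rfl⟩, rfl⟩
  refine ⟨lt_of_le_of_ne inf_le_right fun heq => ?_, fun M hHM hMK => ?_⟩
  · obtain ⟨v, t, hv, ht, hnk⟩ := exists_uT_notTW (T := T) h1 hk
    have hmem : φ (uT (tform σ g₁ (T + 2)) v t) ∈ Cfsg.GU n F q ⊓ Cfsg.Geo.specialLinear (Fin n) F :=
      ⟨(hiso _).mpr (iso_uT hu hv ht), (hdet _).mpr ((mem_specialLinear_iff _).mp
        (transv_mem_specialLinear v (t • uvec (tform σ g₁ (T + 2)) v)))⟩
    exact hnk ((hK _).mp (heq.ge hmem).1)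
  obtain ⟨M₀, hM₀⟩ : ∃ M₀, ∀ g, g ∈ M₀ ↔ φ g ∈ M := ⟨M.comap φ.toMonoidHom, fun g => Iff.rfl⟩
  have C : UCtx σ g₁ M₀ :=
    ⟨⟨h1, hk, or_iff_not_imp_left.2 fun hk4 => exists_fixed_scalar hF hσ fun hq => hex ⟨hq, by omega⟩⟩,
      fun g hg => (hiso g).mp (hMK ((hM₀ g).1 hg)).1,
      fun g hg hi hd => (hM₀ g).2 (hHM ⟨(hK g).mpr hg, (hiso g).mpr hi, (hdet g).mpr hd⟩)⟩
  rcases dichotomy (T + 1) M₀ C with hall | hTW
  · right
    refine le_antisymm hMK (SU_le_of_transv hσ hinv hne (by omega) fun v hv s hs => ?_)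
    obtain ⟨x, rfl⟩ := hsurj v
    have hx : tform σ g₁ (T + 2) x x = 0 := by
      rw [hform, mul_eq_zero] at hv
      exact hv.resolve_left hc
    have hm := (hM₀ _).1 ((hall x hx).2 (s * c) (by rw [map_mul, hσc, ← add_mul, hs, zero_mul]))
    have e1 : φ (uT (tform σ g₁ (T + 2)) x (s * c)) = uT (Cfsg.hermForm n F q) (L x) s := gl_ext fun w => by
      obtain ⟨y, rfl⟩ := hsurj w
      rw [hact, uT_mulVec hu hx, uT_mulVec hF' hv, map_add, map_smul, hform, mul_assoc]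
    rwa [e1] at hm
  · left
    refine le_antisymm (fun g hg => ?_) hHM
    obtain ⟨g₀, rfl⟩ := φ.surjective g
    exact ⟨(hK g₀).mpr (hTW g₀ ((hM₀ g₀).2 hg)), hMK hg⟩

end CfsgLib.Classical22.UWr
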